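import Mathlib

/-!
Colimits over categories with filtered connected components preserve monomorphisms of abelian groups;
left Kan extensions with that property preserve monomorphisms.
-/

set_option autoImplicit false
set_option backward.isDefEq.respectTransparency false
set_option linter.style.haveILetI false

universe u

open CategoryTheory CategoryTheory.Limits Opposite

namespace Groth.Agent.FibDescLib

section Colim

variable {J : Type u} [SmallCategory J]
  (hspan : ∀ {a b c : J} (_ : a ⟶ b) (_ : a ⟶ c), ∃ d, Nonempty (b ⟶ d) ∧ Nonempty (c ⟶ d))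
  (hpar : ∀ {a b : J} (f g : a ⟶ b), ∃ (d : J) (h : b ⟶ d), f ≫ h = g ≫ h)

include hspan in
theorem exists_common_of_zigzag {a b : J} (h : Zigzag a b) : ∃ d, Nonempty (a ⟶ d) ∧ Nonempty (b ⟶ d) := by
  induction h with
  | refl => exact ⟨a, ⟨𝟙 a⟩, ⟨𝟙 a⟩⟩
  | @tail y z _ hyz ih =>
    obtain ⟨d, ⟨fa⟩, ⟨fy⟩⟩ := ih
    rcases hyz with ⟨⟨k⟩⟩ | ⟨⟨k⟩⟩
    · obtain ⟨e, ⟨p⟩, ⟨q⟩⟩ := hspan fy k
      exact ⟨e, ⟨fa ≫ p⟩, ⟨q⟩⟩
    · exact ⟨d, ⟨fa⟩, ⟨k ≫ fy⟩⟩

include hspan hpar in
theorem isFiltered_component (c : CategoryTheory.ConnectedComponents J) : IsFiltered c.Component := by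
  have : IsFilteredOrEmpty c.Component :=
    { cocone_objs := fun x y => by
        obtain ⟨d, ⟨p⟩, ⟨q⟩⟩ := exists_common_of_zigzag hspan
          (Quotient.exact' ((x.2 : Quotient.mk'' x.1 = c).trans (y.2 : Quotient.mk'' y.1 = c).symm))
        have hd : CategoryTheory.ConnectedComponents.mk d = c :=
          (Quotient.sound' (Zigzag.of_inv p)).trans x.2
        exact ⟨⟨d, hd⟩, ObjectProperty.homMk p, ObjectProperty.homMk q, trivial⟩
      cocone_maps := fun x y f g => by
        obtain ⟨d, h, e⟩ := hpar f.hom g.hom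
        have hd : CategoryTheory.ConnectedComponents.mk d = c :=
          (Quotient.sound' (Zigzag.of_inv h)).trans y.2
        exact ⟨⟨d, hd⟩, ObjectProperty.homMk h, ObjectProperty.hom_ext _ e⟩ }
  exact IsFiltered.mk

include hspan hpar in
theorem mono_colimMap {F G : J ⥤ AddCommGrpCat.{u}} (α : F ⟶ G) [∀ j, Mono (α.app j)] :
    Mono ((colim (J := J) (C := AddCommGrpCat.{u})).map α) := by
  let Q := Injective.under (colimit F)
  let i : colimit F ⟶ Q := Injective.ι _
  have hc : ∀ c : CategoryTheory.ConnectedComponents J, ∃ e : colimit (CategoryTheory.ConnectedComponents.ι c ⋙ G) ⟶ Q, ∀ x : c.Component,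
      α.app x.1 ≫ colimit.ι (CategoryTheory.ConnectedComponents.ι c ⋙ G) x ≫ e = colimit.ι F x.1 ≫ i := by
    intro c
    have := isFiltered_component hspan hpar c
    let β := Functor.whiskerLeft (CategoryTheory.ConnectedComponents.ι c) α
    have : ∀ x, Mono (β.app x) := fun x => inferInstanceAs (Mono (α.app _))
    have : Mono β := NatTrans.mono_of_mono_app _
    have : PreservesFiniteLimits (colim (J := c.Component) (C := AddCommGrpCat.{u})) :=
      HasExactColimitsOfShape.preservesFiniteLimits
    have : Mono ((colim (J := c.Component) (C := AddCommGrpCat.{u})).map β) := inferInstance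
    refine ⟨Injective.factorThru (colimit.pre F (CategoryTheory.ConnectedComponents.ι c) ≫ i)
      ((colim (J := c.Component) (C := AddCommGrpCat.{u})).map β), fun x => ?_⟩
    have e : α.app x.1 ≫ colimit.ι (CategoryTheory.ConnectedComponents.ι c ⋙ G) x =
        colimit.ι (CategoryTheory.ConnectedComponents.ι c ⋙ F) x ≫ (colim (J := c.Component) (C := AddCommGrpCat.{u})).map β :=
      (ι_colimMap β x).symm
    rw [← Category.assoc, e, Category.assoc, Injective.comp_factorThru, ← Category.assoc]
    exact congrArg (· ≫ i) (colimit.ι_pre F (CategoryTheory.ConnectedComponents.ι c) x)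
  choose e he using hc
  let P : J → Σ c : CategoryTheory.ConnectedComponents J, c.Component := fun j => ⟨_, ⟨j, rfl⟩⟩
  let s : Cocone G :=
    { pt := Q
      ι :=
        { app := fun j => colimit.ι (CategoryTheory.ConnectedComponents.ι (CategoryTheory.ConnectedComponents.mk j) ⋙ G) ⟨j, rfl⟩ ≫
            e (CategoryTheory.ConnectedComponents.mk j)
          naturality := fun j j' f => by
            have key : ∀ (c c' : CategoryTheory.ConnectedComponents J) (_ : c = c') (h : CategoryTheory.ConnectedComponents.mk j = c)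
                (h' : CategoryTheory.ConnectedComponents.mk j' = c'),
                G.map f ≫ colimit.ι (CategoryTheory.ConnectedComponents.ι c' ⋙ G) ⟨j', h'⟩ ≫ e c' =
                  colimit.ι (CategoryTheory.ConnectedComponents.ι c ⋙ G) ⟨j, h⟩ ≫ e c := by
              rintro c c' rfl h h'
              rw [← Category.assoc]
              exact congrArg (· ≫ e c) (colimit.w (CategoryTheory.ConnectedComponents.ι c ⋙ G)
                (ObjectProperty.homMk f : (⟨j, h⟩ : c.Component) ⟶ ⟨j', h'⟩))
            exact (key _ _ (Quotient.sound' (Zigzag.of_hom f)) rfl rfl).trans (Category.comp_id _).symm } }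
  have hfac : (colim (J := J) (C := AddCommGrpCat.{u})).map α ≫ colimit.desc G s = i := by
    refine colimit.hom_ext fun j => ?_
    have e1 : colimit.ι F j ≫ (colim (J := J) (C := AddCommGrpCat.{u})).map α = α.app j ≫ colimit.ι G j :=
      ι_colimMap α j
    rw [← Category.assoc, e1, Category.assoc, colimit.ι_desc]
    exact he _ ⟨j, rfl⟩
  have : Mono i := inferInstanceAs (Mono (Injective.ι (colimit F)))
  exact mono_of_mono_fac hfac

end Colim

/-- A left Kan extension with componentwise cofiltered comma categories preserves monomorphisms. -/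
theorem lan_preservesMono_of_components {C D : Type u} [SmallCategory C] [SmallCategory D] (G : C ⥤ D)
    (hsq : ∀ (d : D) {A A' B : StructuredArrow d G} (_ : A ⟶ B) (_ : A' ⟶ B),
      ∃ E, Nonempty (E ⟶ A) ∧ Nonempty (E ⟶ A'))
    (heq : ∀ (d : D) {A B : StructuredArrow d G} (f g : A ⟶ B), ∃ (E : _) (h : E ⟶ A), h ≫ f = h ≫ g) :
    (G.op.lan : (Cᵒᵖ ⥤ AddCommGrpCat.{u}) ⥤ _).PreservesMonomorphisms := by
  refine ⟨fun {F G'} a _ => ?_⟩
  have : ∀ K, Mono ((G.op.lan.map a).app K) := by
    intro K
    let ev := lanEvaluationIsoColim (E := AddCommGrpCat.{u}) G.op K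
    refine ((MorphismProperty.monomorphisms AddCommGrpCat.{u}).arrow_mk_iso_iff
      (Arrow.isoMk (ev.app F) (ev.app G') (ev.hom.naturality a).symm)).2 ?_
    show Mono _
    let E := structuredArrowOpEquivalence G K.unop
    have : ∀ j, Mono ((Functor.whiskerLeft (CostructuredArrow.proj G.op K) a).app j) := fun j =>
      inferInstanceAs (Mono (a.app _))
    refine mono_colimMap (fun {x y z} f g => ?_) (fun {x y} f g => ?_) _
    · obtain ⟨d, ⟨p⟩, ⟨q⟩⟩ := hsq K.unop (E.inverse.map f).unop (E.inverse.map g).unop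
      exact ⟨E.functor.obj (op d), ⟨E.counitInv.app _ ≫ E.functor.map p.op⟩,
        ⟨E.counitInv.app _ ≫ E.functor.map q.op⟩⟩
    · obtain ⟨d, h, e⟩ := heq K.unop (E.inverse.map f).unop (E.inverse.map g).unop
      refine ⟨E.functor.obj (op d), E.counitInv.app _ ≫ E.functor.map h.op, ?_⟩
      have e' : E.inverse.map f ≫ h.op = E.inverse.map g ≫ h.op := Quiver.Hom.unop_inj e
      have nat : ∀ k : x ⟶ y, k ≫ E.counitInv.app y = E.counitInv.app x ≫ E.functor.map (E.inverse.map k) :=
        fun k => E.counitInv.naturality k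
      rw [← Category.assoc, ← Category.assoc, nat, nat, Category.assoc, Category.assoc, ← Functor.map_comp,
        ← Functor.map_comp, e']
  exact NatTrans.mono_of_mono_app _

end Groth.Agent.FibDescLib
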