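import Groth.Agent.FibDescLib.Push

/-!
The unit of `θ̄^* ⊣ θ̄_*` on sections, and detection of morphisms out of the inverse image.
-/

set_option autoImplicit false
set_option backward.isDefEq.respectTransparency false
set_option backward.isDefEq.respectTransparency.types false
set_option backward.defeqAttrib.useBackward true
set_option linter.style.haveILetI false

universe u

open CategoryTheory CategoryTheory.Limits Opposite TopologicalSpace
open CategoryTheory.Pseudofunctor CategoryTheory.Pseudofunctor.CoGrothendieck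

namespace Groth.Agent.FibDescLib

variable {Ix : Type} [SmallCategory Ix] {Y : (WithInitial Ix)ᵒᵖ ⥤ TopCat.{u}}

/-- The adjunction `θ̄^* ⊣ θ̄_*`. -/
noncomputable abbrev padj : pullF Y ⊣ pushF Y :=
  FibDesc.adj (FibDesc.topAug Y) (FibDesc.topAugTop Y) AddCommGrpCat.{u}

theorem θ_le {n m : Ix} (a : n ⟶ m) (U : Opens (base Y)) :
    (Opens.map (θ Y m)).obj U ≤ (Opens.map (spMap Y a)).obj ((Opens.map (θ Y n)).obj U) := by
  intro y hy
  show (spMap Y a ≫ θ Y n) y ∈ U
  rw [θ_comp]
  exact hy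

/-- The restriction morphism between the preimages of an open set of the base. -/
noncomputable abbrev phθ {n m : Ix} (a : n ⟶ m) (U : Opens (base Y)) :
    pob m ((Opens.map (θ Y m)).obj U) ⟶ pob n ((Opens.map (θ Y n)).obj U) :=
  ph a (θ_le a U)

theorem pπ_compat (N : DS Y) {n m : Ix} (a : n ⟶ m) (U : Opens (base Y)) :
    pπ N (n := n) (U := U) le_rfl ≫ N.obj.map (phθ a U).op = pπ N (n := m) le_rfl :=
  (rπ_comp N.obj (phθ a U) _).symm.trans (congrArg _ (toBot_ext _ _))

variable (K : BS Y)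

/-- The unit on sections. -/
noncomputable def pu (n : Ix) (U : Opens (base Y)) :
    K.obj.obj (op U) ⟶ ((pullF Y).obj K).obj.obj (op (pob n ((Opens.map (θ Y n)).obj U))) :=
  ((padj (Y := Y)).unit.app K).hom.app (op U) ≫ pπ _ le_rfl

theorem pu_compat {n m : Ix} (a : n ⟶ m) (U : Opens (base Y)) :
    pu K n U ≫ ((pullF Y).obj K).obj.map (phθ a U).op = pu K m U :=
  (Category.assoc _ _ _).trans (congrArg (_ ≫ ·) (pπ_compat _ a U))

variable {K}

theorem homEquiv_pπ {N : DS Y} (f : (pullF Y).obj K ⟶ N) (n : Ix) (U : Opens (base Y)) :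
    ((padj (Y := Y)).homEquiv K N f).hom.app (op U) ≫ pπ N (n := n) le_rfl =
      pu K n U ≫ f.hom.app (op (pob n ((Opens.map (θ Y n)).obj U))) := by
  rw [Adjunction.homEquiv_unit]
  show (((padj (Y := Y)).unit.app K).hom.app (op U) ≫ ((pushF Y).map f).hom.app (op U)) ≫ _ = _
  rw [Category.assoc, pushMap_pπ f, ← Category.assoc]
  rfl

theorem symm_pπ {N : DS Y} (φ : K ⟶ (pushF Y).obj N) (n : Ix) (U : Opens (base Y)) :
    pu K n U ≫ (((padj (Y := Y)).homEquiv K N).symm φ).hom.app (op (pob n ((Opens.map (θ Y n)).obj U))) =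
      φ.hom.app (op U) ≫ pπ N le_rfl := by
  rw [← homEquiv_pπ, Equiv.apply_symm_apply]

theorem pull_ext {N : DS Y} {f f' : (pullF Y).obj K ⟶ N}
    (h : ∀ n U, pu K n U ≫ f.hom.app (op (pob n ((Opens.map (θ Y n)).obj U))) =
      pu K n U ≫ f'.hom.app (op (pob n ((Opens.map (θ Y n)).obj U)))) : f = f' := by
  apply ((padj (Y := Y)).homEquiv K N).injective
  apply Sheaf.hom_ext
  apply NatTrans.ext
  funext U
  exact pπ_ext fun n => by rw [homEquiv_pπ, homEquiv_pπ, h]

theorem pu_naturality {K' : BS Y} (f : K ⟶ K') (n : Ix) (U : Opens (base Y)) :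
    pu K n U ≫ ((pullF Y).map f).hom.app (op (pob n ((Opens.map (θ Y n)).obj U))) =
      f.hom.app (op U) ≫ pu K' n U := by
  rw [← homEquiv_pπ]
  have : (padj (Y := Y)).homEquiv K _ ((pullF Y).map f) = f ≫ (padj (Y := Y)).unit.app K' := by
    rw [Adjunction.homEquiv_unit]; exact ((padj (Y := Y)).unit.naturality f).symm
  rw [this]
  exact Category.assoc _ _ _

theorem pu_map {n : Ix} {U U' : Opens (base Y)} (i : U' ⟶ U)
    (h : (Opens.map (θ Y n)).obj U' ≤ (Opens.map (spMap Y (𝟙 n))).obj ((Opens.map (θ Y n)).obj U)) :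
    K.obj.map i.op ≫ pu K n U' = pu K n U ≫ ((pullF Y).obj K).obj.map (ph (𝟙 n) h).op := by
  unfold pu
  have e : K.obj.map i.op ≫ ((padj (Y := Y)).unit.app K).hom.app (op U') =
      ((padj (Y := Y)).unit.app K).hom.app (op U) ≫ ((pushF Y).obj ((pullF Y).obj K)).obj.map i.op :=
    ((padj (Y := Y)).unit.app K).hom.naturality i.op
  refine (Category.assoc _ _ _).symm.trans ((congrArg (· ≫ pπ ((pullF Y).obj K) le_rfl) e).trans ?_)
  refine (Category.assoc _ _ _).trans ?_
  refine (congrArg (((padj (Y := Y)).unit.app K).hom.app (op U) ≫ ·) (map_pπ _ i h)).trans ?_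
  exact (Category.assoc _ _ _).symm

/-- Morphisms out of a restriction of the inverse image are determined by the unit. -/
theorem restr_pull_ext {E : Type u} [SmallCategory E] (JE : GrothendieckTopology E) (H : E ⥤ Tot Y)
    [H.IsContinuous JE (totTop Y)] [H.IsCocontinuous JE (totTop Y)]
    {P : Sheaf JE AddCommGrpCat.{u}}
    {f f' : (H.sheafPushforwardContinuous AddCommGrpCat.{u} JE (totTop Y)).obj ((pullF Y).obj K) ⟶ P}
    (h : ∀ (e : E) (U : Opens (base Y))
      (g : H.obj e ⟶ pob (H.obj e).base.unop ((Opens.map (θ Y (H.obj e).base.unop)).obj U))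
      (_ : g.base = 𝟙 _),
      pu K _ U ≫ ((pullF Y).obj K).obj.map g.op ≫ f.hom.app (op e) =
        pu K _ U ≫ ((pullF Y).obj K).obj.map g.op ≫ f'.hom.app (op e)) : f = f' := by
  apply ((H.sheafAdjunctionCocontinuous AddCommGrpCat.{u} JE (totTop Y)).homEquiv _ _).injective
  refine pull_ext fun m U => rπ_ext (G := H) fun e g => ?_
  refine (Category.assoc _ _ _).trans (Eq.trans ?_ (Category.assoc _ _ _).symm)
  refine (congrArg (pu K m U ≫ ·) (homEquiv_rπ JE (totTop Y) f g)).trans (Eq.trans ?_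
    (congrArg (pu K m U ≫ ·) (homEquiv_rπ JE (totTop Y) f' g)).symm)
  let n := (H.obj e).base.unop
  have hle : fib (H.obj e) ≤ (Opens.map (spMap Y (𝟙 n))).obj ((Opens.map (θ Y n)).obj U) := by
    rw [spMap_id]
    refine le_trans (hom_le g) (le_of_eq ?_)
    show _ = (Opens.map (θ Y n)).obj U
    rw [← θ_comp Y g.base.unop]
    rfl
  let g₀ : H.obj e ⟶ pob n ((Opens.map (θ Y n)).obj U) := ph (𝟙 n) hle
  have e1 : pu K m U ≫ ((pullF Y).obj K).obj.map g.op = pu K n U ≫ ((pullF Y).obj K).obj.map g₀.op := by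
    rw [← pu_compat K g.base.unop U, Category.assoc, ← Functor.map_comp, ← op_comp]
    congr 3
    apply tot_hom_ext
    simp [g₀]
    exact (Category.id_comp _).symm
  rw [← Category.assoc, ← Category.assoc (pu K m U), e1, Category.assoc, Category.assoc]
  exact h e U g₀ rfl

end Groth.Agent.FibDescLib
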