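import Groth.Agent.DerAdj.Basic
import Mathlib

/-!
For an adjunction `P ⊣ Q` with `P` exact: `P` is fully faithful on bounded below derived categories iff
the unit into `Q` of an injective resolution of `P L` is a quasi-isomorphism.
-/

set_option autoImplicit false
set_option backward.isDefEq.respectTransparency false
set_option backward.defeqAttrib.useBackward true
set_option linter.style.haveILetI false

universe w w' v v' u u'

open CategoryTheory CategoryTheory.Limits

namespace Groth.Agent.FibDescLib

variable {A : Type u} [Category.{v} A] [Abelian A] {B : Type u'} [Category.{v'} B] [Abelian B]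
  {P : A ⥤ B} {Q : B ⥤ A} [P.Additive] [Q.Additive]

/-- The adjunct on complexes. -/
noncomputable abbrev cxTranspose (adj : P ⊣ Q) {L : CochainComplex A ℤ} {J : CochainComplex B ℤ}
    (q : (P.mapHomologicalComplex (ComplexShape.up ℤ)).obj L ⟶ J) :
    L ⟶ (Q.mapHomologicalComplex (ComplexShape.up ℤ)).obj J :=
  DerAdj.complexUnit adj L ≫ (Q.mapHomologicalComplex _).map q

theorem exists_injective_resolution [EnoughInjectives B] (K : CochainComplex B ℤ) (n : ℤ) [K.IsStrictlyGE n] :
    ∃ (J : CochainComplex B ℤ) (q : K ⟶ J), J.IsStrictlyGE n ∧ (∀ i, Injective (J.X i)) ∧ QuasiIso q := by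
  obtain ⟨L, i, _, _, _⟩ := CochainComplex.Plus.modelCategoryQuillen.exists_quasiIso_injective K n
  exact ⟨L, i, inferInstance, inferInstance, inferInstance⟩

section Key

variable (adj : P ⊣ Q) [PreservesFiniteLimits P] [PreservesFiniteColimits P]
  [HasDerivedCategory.{w} A] [HasDerivedCategory.{w'} B]

theorem injective_map_right {X : B} [Injective X] (adj : P ⊣ Q) [P.PreservesMonomorphisms] : Injective (Q.obj X) :=
  Injective.injective_of_adjoint adj X

/-- Postcomposing with the transpose is bijective iff `P` is bijective on derived morphisms. -/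
theorem bijective_comp_transpose_iff (K : CochainComplex A ℤ) {L : CochainComplex A ℤ} [L.IsKInjective]
    {J : CochainComplex B ℤ} [J.IsKInjective]
    (q : (P.mapHomologicalComplex (ComplexShape.up ℤ)).obj L ⟶ J) [QuasiIso q] :
    Function.Bijective (fun f : (HomotopyCategory.quotient A (ComplexShape.up ℤ)).obj K ⟶
        (HomotopyCategory.quotient A (ComplexShape.up ℤ)).obj L =>
      f ≫ (HomotopyCategory.quotient A (ComplexShape.up ℤ)).map (cxTranspose adj q)) ↔
    Function.Bijective fun g : DerivedCategory.Qh.obj ((HomotopyCategory.quotient A (ComplexShape.up ℤ)).obj K) ⟶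
        DerivedCategory.Qh.obj ((HomotopyCategory.quotient A (ComplexShape.up ℤ)).obj L) =>
      P.mapDerivedCategory.map g := by
  let adjh := DerAdj.mapHomotopyCategoryAdj adj
  let Ph := P.mapHomotopyCategory (ComplexShape.up ℤ)
  let e := P.mapDerivedCategoryFactorsh
  let a := (HomotopyCategory.quotient A (ComplexShape.up ℤ)).obj K
  let b := (HomotopyCategory.quotient A (ComplexShape.up ℤ)).obj L
  let qh : Ph.obj b ⟶ (HomotopyCategory.quotient B (ComplexShape.up ℤ)).obj J :=
    (HomotopyCategory.quotient B _).map q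
  have hq : IsIso (DerivedCategory.Qh.map qh) :=
    ((NatIso.isIso_map_iff (DerivedCategory.quotientCompQhIso B) q).2 inferInstance :)
  have ht : (HomotopyCategory.quotient A (ComplexShape.up ℤ)).map (cxTranspose adj q) =
      adjh.homEquiv _ _ qh := by
    rw [Adjunction.homEquiv_unit]
    exact (HomotopyCategory.quotient A _).map_comp _ _
  have hA := CochainComplex.IsKInjective.Qh_map_bijective a L
  have hB := CochainComplex.IsKInjective.Qh_map_bijective (Ph.obj a) J
  let E := adjh.homEquiv a ((HomotopyCategory.quotient B (ComplexShape.up ℤ)).obj J)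
  let c : (DerivedCategory.Qh ⋙ P.mapDerivedCategory).obj b ≅
      DerivedCategory.Qh.obj ((HomotopyCategory.quotient B (ComplexShape.up ℤ)).obj J) :=
    e.app b ≪≫ asIso (DerivedCategory.Qh.map qh)
  let post : (P.mapDerivedCategory.obj (DerivedCategory.Qh.obj a) ⟶ P.mapDerivedCategory.obj (DerivedCategory.Qh.obj b)) ≃
      (DerivedCategory.Qh.obj (Ph.obj a) ⟶ DerivedCategory.Qh.obj ((HomotopyCategory.quotient B (ComplexShape.up ℤ)).obj J)) :=
    Iso.homCongr (e.app a) c
  have comm : ∀ f : a ⟶ b, post (P.mapDerivedCategory.map (DerivedCategory.Qh.map f)) =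
      DerivedCategory.Qh.map (E.symm (f ≫ (HomotopyCategory.quotient A (ComplexShape.up ℤ)).map (cxTranspose adj q))) := by
    intro f
    have hE : E.symm (f ≫ (HomotopyCategory.quotient A (ComplexShape.up ℤ)).map (cxTranspose adj q)) =
        Ph.map f ≫ qh := by
      rw [ht, Adjunction.homEquiv_naturality_left_symm, Equiv.symm_apply_apply]
    rw [hE, DerivedCategory.Qh.map_comp]
    have hn : P.mapDerivedCategory.map (DerivedCategory.Qh.map f) ≫ e.hom.app b =
        e.hom.app a ≫ DerivedCategory.Qh.map (Ph.map f) := e.hom.naturality f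
    show e.inv.app a ≫ P.mapDerivedCategory.map (DerivedCategory.Qh.map f) ≫ e.hom.app b ≫ DerivedCategory.Qh.map qh = _
    rw [reassoc_of% hn, e.inv_hom_id_app_assoc]
  constructor
  · intro h
    have h1 : Function.Bijective (fun f : a ⟶ b => post (P.mapDerivedCategory.map (DerivedCategory.Qh.map f))) := by
      simp only [comm]
      exact hB.comp (E.symm.bijective.comp h)
    have h2 : Function.Bijective (fun f : a ⟶ b => P.mapDerivedCategory.map (DerivedCategory.Qh.map f)) := by
      have := post.symm.bijective.comp h1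
      simpa [Function.comp_def] using this
    exact (Function.Bijective.of_comp_iff _ hA).1 h2
  · intro h
    have h1 : Function.Bijective (fun f : a ⟶ b => post (P.mapDerivedCategory.map (DerivedCategory.Qh.map f))) :=
      post.bijective.comp (h.comp hA)
    simp only [comm] at h1
    have h2 := (Function.Bijective.of_comp_iff' hB _).1 h1
    have h3 := E.bijective.comp h2
    simp only [Function.comp_def, Equiv.apply_symm_apply] at h3
    exact h3

include adj in
/-- Full faithfulness gives a quasi-isomorphism. -/
theorem quasiIso_transpose (hFF : ∀ K L : DerivedCategory.Plus A,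
      Function.Bijective fun g : K.obj ⟶ L.obj => P.mapDerivedCategory.map g)
    {L : CochainComplex A ℤ} {J : CochainComplex B ℤ} (a : ℤ) [L.IsStrictlyGE a] [J.IsStrictlyGE a]
    [∀ i, Injective (L.X i)] [∀ i, Injective (J.X i)]
    (q : (P.mapHomologicalComplex (ComplexShape.up ℤ)).obj L ⟶ J) [QuasiIso q] :
    QuasiIso (cxTranspose adj q) := by
  let M := (Q.mapHomologicalComplex (ComplexShape.up ℤ)).obj J
  have hMi : ∀ i, Injective (M.X i) := fun i => injective_map_right adj
  have hMa : CochainComplex.IsStrictlyGE M a := inferInstanceAs (CochainComplex.IsStrictlyGE ((Q.mapHomologicalComplex (ComplexShape.up ℤ)).obj J) a)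
  have := CochainComplex.isKInjective_of_injective L a
  have := CochainComplex.isKInjective_of_injective J a
  have := CochainComplex.isKInjective_of_injective M a
  let mk : ∀ (K : CochainComplex A ℤ) [K.IsStrictlyGE a], DerivedCategory.Plus A := fun K _ =>
    DerivedCategory.Plus.Qh.obj ⟨(HomotopyCategory.quotient A _).obj K,
      (HomotopyCategory.plus_quotient_obj_iff _).2 ⟨a, inferInstance⟩⟩
  have hb : ∀ (K : CochainComplex A ℤ) [K.IsStrictlyGE a], Function.Bijective
      (fun f : (HomotopyCategory.quotient A (ComplexShape.up ℤ)).obj K ⟶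
        (HomotopyCategory.quotient A (ComplexShape.up ℤ)).obj L =>
        f ≫ (HomotopyCategory.quotient A (ComplexShape.up ℤ)).map (cxTranspose adj q)) :=
    fun K _ => (bijective_comp_transpose_iff adj K q).2 (hFF (mk K) (mk L))
  let t := (HomotopyCategory.quotient A (ComplexShape.up ℤ)).map (cxTranspose adj q)
  obtain ⟨g, hg⟩ := (hb M).2 (𝟙 _)
  dsimp only at hg
  have hiso : IsIso t := ⟨g, (hb L).1 (by
    dsimp only
    rw [Category.assoc, hg, Category.comp_id, Category.id_comp]), hg⟩
  exact homotopyEquivalences_le_quasiIso _ _ _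
    (by rw [← HomotopyCategory.inverseImage_quotient_isomorphisms]; exact hiso)

include adj in
/-- Quasi-isomorphic units give full faithfulness. -/
theorem bijective_of_quasiIso_transpose [EnoughInjectives A] [EnoughInjectives B]
    (h : ∀ (L : CochainComplex A ℤ) (J : CochainComplex B ℤ) (a : ℤ), L.IsStrictlyGE a → J.IsStrictlyGE a →
      (∀ i, Injective (L.X i)) → (∀ i, Injective (J.X i)) →
      ∀ q : (P.mapHomologicalComplex (ComplexShape.up ℤ)).obj L ⟶ J, QuasiIso q → QuasiIso (cxTranspose adj q))
    (K L : DerivedCategory.Plus A) :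
    Function.Bijective fun g : K.obj ⟶ L.obj => P.mapDerivedCategory.map g := by
  obtain ⟨a, ha⟩ := L.property
  obtain ⟨L₀, _, ⟨eL⟩⟩ := DerivedCategory.exists_iso_Q_obj_of_isGE L.obj a
  obtain ⟨L₁, i, _, hL₁, _⟩ := exists_injective_resolution L₀ a
  obtain ⟨J, q, _, hJ, _⟩ := exists_injective_resolution ((P.mapHomologicalComplex (ComplexShape.up ℤ)).obj L₁) a
  obtain ⟨K₀, ⟨eK⟩⟩ : ∃ K₀, Nonempty (DerivedCategory.Q.obj K₀ ≅ K.obj) := ⟨_, ⟨DerivedCategory.Q.objObjPreimageIso _⟩⟩
  let M := (Q.mapHomologicalComplex (ComplexShape.up ℤ)).obj J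
  have hMi : ∀ i, Injective (M.X i) := fun i => injective_map_right adj
  have hMa : CochainComplex.IsStrictlyGE M a := inferInstanceAs (CochainComplex.IsStrictlyGE ((Q.mapHomologicalComplex (ComplexShape.up ℤ)).obj J) a)
  have := CochainComplex.isKInjective_of_injective L₁ a
  have := CochainComplex.isKInjective_of_injective J a
  have := CochainComplex.isKInjective_of_injective M a
  have := h L₁ J a inferInstance inferInstance hL₁ hJ q inferInstance
  have hiso : IsIso ((HomotopyCategory.quotient A (ComplexShape.up ℤ)).map (cxTranspose adj q)) := by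
    have := (CochainComplex.IsKInjective.quasiIso_iff (cxTranspose adj q)).1 inferInstance
    rwa [← HomotopyCategory.inverseImage_quotient_isomorphisms] at this
  have hb := (bijective_comp_transpose_iff adj K₀ q).1
    ⟨fun f f' hf => (cancel_mono _).1 hf, fun f => ⟨f ≫ @inv _ _ _ _ _ hiso, by
      dsimp only
      rw [Category.assoc, IsIso.inv_hom_id, Category.comp_id]⟩⟩
  let dK : K.obj ≅ DerivedCategory.Qh.obj ((HomotopyCategory.quotient A (ComplexShape.up ℤ)).obj K₀) :=
    eK.symm ≪≫ ((DerivedCategory.quotientCompQhIso A).app K₀).symm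
  let dL : L.obj ≅ DerivedCategory.Qh.obj ((HomotopyCategory.quotient A (ComplexShape.up ℤ)).obj L₁) :=
    eL ≪≫ asIso (DerivedCategory.Q.map i) ≪≫ ((DerivedCategory.quotientCompQhIso A).app L₁).symm
  let E₁ := Iso.homCongr dK dL
  let E₂ := Iso.homCongr (P.mapDerivedCategory.mapIso dK) (P.mapDerivedCategory.mapIso dL)
  have hc : ∀ g : K.obj ⟶ L.obj, E₂ (P.mapDerivedCategory.map g) = P.mapDerivedCategory.map (E₁ g) := fun g => by
    simp [E₁, E₂, Iso.homCongr]
  have := E₂.symm.bijective.comp (hb.comp E₁.bijective)
  simpa [Function.comp_def, ← hc] using this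

end Key

section Conservative

variable {ι : Type*} {A' : ι → Type u'} [∀ i, Category.{v'} (A' i)] [∀ i, Abelian (A' i)]
  (j : ∀ i, A ⥤ A' i) [∀ i, (j i).Additive] [∀ i, PreservesFiniteLimits (j i)]
  [∀ i, PreservesFiniteColimits (j i)]

/-- Quasi-isomorphisms are detected by jointly conservative exact functors. -/
theorem quasiIso_of_jointly (hj : ∀ ⦃X Y : A⦄ (f : X ⟶ Y), (∀ i, IsIso ((j i).map f)) → IsIso f)
    {K L : CochainComplex A ℤ} (φ : K ⟶ L)
    (h : ∀ i, QuasiIso (((j i).mapHomologicalComplex _).map φ)) : QuasiIso φ := by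
  rw [quasiIso_iff]
  intro n
  rw [quasiIsoAt_iff_isIso_homologyMap]
  apply hj
  intro i
  have hi := (quasiIsoAt_iff_isIso_homologyMap _ n).1 ((h i).quasiIsoAt n)
  have nat := ShortComplex.mapHomologyIso_hom_naturality (HomologicalComplex.shortComplexFunctor A _ n |>.map φ) (j i)
  have e : (j i).map (HomologicalComplex.homologyMap φ n) =
      ((K.sc n).mapHomologyIso (j i)).inv ≫
        HomologicalComplex.homologyMap (((j i).mapHomologicalComplex _).map φ) n ≫
        ((L.sc n).mapHomologyIso (j i)).hom := by
    rw [Iso.eq_inv_comp]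
    exact nat.symm
  rw [e]
  exact IsIso.comp_isIso' inferInstance (IsIso.comp_isIso' hi inferInstance)

end Conservative

end Groth.Agent.FibDescLib
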