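import Groth.Agent.FibDescLib.UnitCrit

/-!
The transpose of a resolution of an arbitrary bounded below complex; full faithfulness from one
resolution for each complex of injectives.
-/

set_option autoImplicit false
set_option backward.isDefEq.respectTransparency false
set_option backward.defeqAttrib.useBackward true
set_option linter.style.haveILetI false

universe w w' v v' u u'

open CategoryTheory CategoryTheory.Limits

namespace Groth.Agent.FibDescLib

variable {A : Type u} [Category.{v} A] [Abelian A] {B : Type u'} [Category.{v'} B] [Abelian B]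
  {P : A ⥤ B} {Q : B ⥤ A} [P.Additive] [Q.Additive]
  (adj : P ⊣ Q) [PreservesFiniteLimits P] [PreservesFiniteColimits P]
  [HasDerivedCategory.{w} A] [HasDerivedCategory.{w'} B]

include adj in
/-- Full faithfulness gives a quasi-isomorphism, for any bounded below complex. -/
theorem quasiIso_transpose_gen (hFF : ∀ K L : DerivedCategory.Plus A,
      Function.Bijective fun g : K.obj ⟶ L.obj => P.mapDerivedCategory.map g)
    {M : CochainComplex A ℤ} {J : CochainComplex B ℤ} (a : ℤ) [M.IsStrictlyGE a] [J.IsStrictlyGE a]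
    [∀ i, Injective (J.X i)]
    (q : (P.mapHomologicalComplex (ComplexShape.up ℤ)).obj M ⟶ J) [QuasiIso q] :
    QuasiIso (cxTranspose adj q) := by
  let QJ := (Q.mapHomologicalComplex (ComplexShape.up ℤ)).obj J
  have hQi : ∀ i, Injective (QJ.X i) := fun i => injective_map_right adj
  have hQa : CochainComplex.IsStrictlyGE QJ a :=
    inferInstanceAs (CochainComplex.IsStrictlyGE ((Q.mapHomologicalComplex (ComplexShape.up ℤ)).obj J) a)
  have := CochainComplex.isKInjective_of_injective J a
  have := CochainComplex.isKInjective_of_injective QJ a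
  let qA := HomotopyCategory.quotient A (ComplexShape.up ℤ)
  let qB := HomotopyCategory.quotient B (ComplexShape.up ℤ)
  let adjh := DerAdj.mapHomotopyCategoryAdj adj
  let Ph := P.mapHomotopyCategory (ComplexShape.up ℤ)
  let e := P.mapDerivedCategoryFactorsh
  let qh : Ph.obj (qA.obj M) ⟶ qB.obj J := qB.map q
  have hqh : IsIso (DerivedCategory.Qh.map qh) :=
    ((NatIso.isIso_map_iff (DerivedCategory.quotientCompQhIso B) q).2 inferInstance :)
  let t : qA.obj M ⟶ qA.obj QJ := qA.map (cxTranspose adj q)
  have ht : t = adjh.homEquiv _ _ qh := by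
    rw [Adjunction.homEquiv_unit]
    exact qA.map_comp _ _
  let ε : Ph.obj (qA.obj QJ) ⟶ qB.obj J := (adjh.homEquiv _ _).symm (𝟙 _)
  have htε : Ph.map t ≫ ε = qh := by
    show Ph.map t ≫ (adjh.homEquiv _ _).symm (𝟙 _) = qh
    rw [← Adjunction.homEquiv_naturality_left_symm, Category.comp_id, ht]
    exact Equiv.symm_apply_apply _ _
  let c : (DerivedCategory.Qh ⋙ P.mapDerivedCategory).obj (qA.obj M) ≅ DerivedCategory.Qh.obj (qB.obj J) :=
    e.app _ ≪≫ asIso (DerivedCategory.Qh.map qh)
  let Ψ : ∀ K : CochainComplex A ℤ,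
      (DerivedCategory.Qh.obj (qA.obj K) ⟶ DerivedCategory.Qh.obj (qA.obj QJ)) →
      (P.mapDerivedCategory.obj (DerivedCategory.Qh.obj (qA.obj K)) ⟶ DerivedCategory.Qh.obj (qB.obj J)) :=
    fun K y => P.mapDerivedCategory.map y ≫ e.hom.app _ ≫ DerivedCategory.Qh.map ε
  have nat : ∀ {X Y : HomotopyCategory A (ComplexShape.up ℤ)} (g : X ⟶ Y),
      P.mapDerivedCategory.map (DerivedCategory.Qh.map g) ≫ e.hom.app Y =
        e.hom.app X ≫ DerivedCategory.Qh.map (Ph.map g) := fun g => e.hom.naturality g
  have hΨ : ∀ K : CochainComplex A ℤ, Function.Bijective (Ψ K) := by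
    intro K
    have hA := CochainComplex.IsKInjective.Qh_map_bijective (qA.obj K) QJ
    have hB := CochainComplex.IsKInjective.Qh_map_bijective (Ph.obj (qA.obj K)) J
    refine (Function.Bijective.of_comp_iff (Ψ K) hA).1 ?_
    have h1 : Ψ K ∘ (fun g : qA.obj K ⟶ qA.obj QJ => DerivedCategory.Qh.map g) =
        (fun x => e.hom.app (qA.obj K) ≫ x) ∘ (fun g => DerivedCategory.Qh.map g) ∘
          (adjh.homEquiv (qA.obj K) (qB.obj J)).symm := by
      funext g
      have hg : (adjh.homEquiv (qA.obj K) (qB.obj J)).symm g = Ph.map g ≫ ε := by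
        show _ = Ph.map g ≫ (adjh.homEquiv _ _).symm (𝟙 _)
        rw [← Adjunction.homEquiv_naturality_left_symm, Category.comp_id]
        rfl
      simp only [Ψ, Function.comp_apply]
      rw [← Category.assoc, nat, hg, Category.assoc, ← Functor.map_comp]
    refine h1 ▸ ?_
    exact (Iso.homFromEquiv (e.app (qA.obj K)).symm).bijective.comp (hB.comp (Equiv.bijective _))
  have hiso : IsIso (DerivedCategory.Qh.map t) := by
    have hb : ∀ (K : CochainComplex A ℤ) [K.IsStrictlyGE a], Function.Bijective
        (fun x : DerivedCategory.Qh.obj (qA.obj K) ⟶ DerivedCategory.Qh.obj (qA.obj M) =>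
          x ≫ DerivedCategory.Qh.map t) := by
      intro K _
      refine (Function.Bijective.of_comp_iff' (hΨ K) _).1 ?_
      have h2 : (Ψ K ∘ fun x => x ≫ DerivedCategory.Qh.map t) =
          (fun z => z ≫ c.hom) ∘ fun x => P.mapDerivedCategory.map x := by
        funext x
        simp only [Ψ, Function.comp_apply, c, Iso.trans_hom, asIso_hom, Iso.app_hom]
        rw [Functor.map_comp, Category.assoc, ← Category.assoc (P.mapDerivedCategory.map (DerivedCategory.Qh.map t)),
          nat, Category.assoc, ← Functor.map_comp, htε]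
      refine h2 ▸ ?_
      let mk : ∀ (K : CochainComplex A ℤ) [K.IsStrictlyGE a], DerivedCategory.Plus A := fun K _ =>
        DerivedCategory.Plus.Qh.obj ⟨qA.obj K,
          (HomotopyCategory.plus_quotient_obj_iff _).2 ⟨a, inferInstance⟩⟩
      exact c.homToEquiv.bijective.comp (hFF (mk K) (mk M))
    obtain ⟨g, hg⟩ := (hb QJ).2 (𝟙 _)
    dsimp only at hg
    exact ⟨g, (hb M).1 (by
      dsimp only
      rw [Category.assoc, hg, Category.comp_id, Category.id_comp]), hg⟩
  have h3 : IsIso (DerivedCategory.Q.map (cxTranspose adj q)) :=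
    ((NatIso.isIso_map_iff (DerivedCategory.quotientCompQhIso A) (cxTranspose adj q)).1 hiso :)
  exact (DerivedCategory.isIso_Q_map_iff_quasiIso (C := A) _).1 h3

include adj in
/-- One good resolution for each complex of injectives gives full faithfulness. -/
theorem bijective_of_exists_resolution [EnoughInjectives A]
    (h : ∀ (L : CochainComplex A ℤ) (a : ℤ), L.IsStrictlyGE a → (∀ i, Injective (L.X i)) →
      ∃ (J : CochainComplex B ℤ) (q : (P.mapHomologicalComplex (ComplexShape.up ℤ)).obj L ⟶ J),
        J.IsStrictlyGE a ∧ (∀ i, Injective (J.X i)) ∧ QuasiIso q ∧ QuasiIso (cxTranspose adj q))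
    (K L : DerivedCategory.Plus A) :
    Function.Bijective fun g : K.obj ⟶ L.obj => P.mapDerivedCategory.map g := by
  obtain ⟨a, ha⟩ := L.property
  obtain ⟨L₀, _, ⟨eL⟩⟩ := DerivedCategory.exists_iso_Q_obj_of_isGE L.obj a
  obtain ⟨L₁, i, _, hL₁, _⟩ := exists_injective_resolution L₀ a
  obtain ⟨J, q, _, hJ, _, _⟩ := h L₁ a inferInstance hL₁
  obtain ⟨K₀, ⟨eK⟩⟩ : ∃ K₀, Nonempty (DerivedCategory.Q.obj K₀ ≅ K.obj) := ⟨_, ⟨DerivedCategory.Q.objObjPreimageIso _⟩⟩
  let M := (Q.mapHomologicalComplex (ComplexShape.up ℤ)).obj J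
  have hMi : ∀ i, Injective (M.X i) := fun i => injective_map_right adj
  have hMa : CochainComplex.IsStrictlyGE M a := inferInstanceAs (CochainComplex.IsStrictlyGE ((Q.mapHomologicalComplex (ComplexShape.up ℤ)).obj J) a)
  have := CochainComplex.isKInjective_of_injective L₁ a
  have := CochainComplex.isKInjective_of_injective J a
  have := CochainComplex.isKInjective_of_injective M a
  have hiso : IsIso ((HomotopyCategory.quotient A (ComplexShape.up ℤ)).map (cxTranspose adj q)) := by
    have := (CochainComplex.IsKInjective.quasiIso_iff (cxTranspose adj q)).1 inferInstance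
    rwa [← HomotopyCategory.inverseImage_quotient_isomorphisms] at this
  have hb := (bijective_comp_transpose_iff adj K₀ q).1
    ⟨fun f f' hf => (cancel_mono _).1 hf, fun f => ⟨f ≫ @inv _ _ _ _ _ hiso, by
      dsimp only
      rw [Category.assoc, IsIso.inv_hom_id, Category.comp_id]⟩⟩
  let dK : K.obj ≅ DerivedCategory.Qh.obj ((HomotopyCategory.quotient A (ComplexShape.up ℤ)).obj K₀) :=
    eK.symm ≪≫ ((DerivedCategory.quotientCompQhIso A).app K₀).symm
  let dL : L.obj ≅ DerivedCategory.Qh.obj ((HomotopyCategory.quotient A (ComplexShape.up ℤ)).obj L₁) :=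
    eL ≪≫ asIso (DerivedCategory.Q.map i) ≪≫ ((DerivedCategory.quotientCompQhIso A).app L₁).symm
  let E₁ := Iso.homCongr dK dL
  let E₂ := Iso.homCongr (P.mapDerivedCategory.mapIso dK) (P.mapDerivedCategory.mapIso dL)
  have hc : ∀ g : K.obj ⟶ L.obj, E₂ (P.mapDerivedCategory.map g) = P.mapDerivedCategory.map (E₁ g) := fun g => by
    simp [E₁, E₂, Iso.homCongr]
  have := E₂.symm.bijective.comp (hb.comp E₁.bijective)
  simpa [Function.comp_def, ← hc] using this

end Groth.Agent.FibDescLib
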