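import Groth.Agent.FibDescLib.Pull

/-!
Sections of an injective sheaf over the preimages of an open set of the base form an injective family.
-/

set_option autoImplicit false
set_option backward.isDefEq.respectTransparency false
set_option backward.isDefEq.respectTransparency.types false
set_option backward.defeqAttrib.useBackward true
set_option linter.style.haveILetI false

universe u

open CategoryTheory CategoryTheory.Limits Opposite TopologicalSpace
open CategoryTheory.Pseudofunctor CategoryTheory.Pseudofunctor.CoGrothendieck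

namespace Groth.Agent.FibDescLib

variable {D : Type} [SmallCategory D] (Y : (WithInitial D)ᵒᵖ ⥤ TopCat.{u}) (U : Opens (base Y))

/-- The preimages of an open set of the base. -/
noncomputable def topKU : D ⥤ (Tot Y)ᵒᵖ where
  obj n := op (pob n ((Opens.map (θ Y n)).obj U))
  map a := (phθ a U).op
  map_id _ := Quiver.Hom.unop_inj (tot_hom_ext rfl)
  map_comp _ _ := Quiver.Hom.unop_inj (tot_hom_ext rfl)

/-- Sections over the preimages of an open set of the base. -/
noncomputable def tsecU : DS Y ⥤ (D ⥤ AddCommGrpCat.{u}) :=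
  sheafToPresheaf (totTop Y) AddCommGrpCat.{u} ⋙ (Functor.whiskeringLeft _ _ _).obj (topKU Y U)

/-- The objects over an open set of the base. -/
def Over' (x : (Tot Y)ᵒᵖ) : Prop := fib x.unop ≤ (Opens.map (θ Y x.unop.base.unop)).obj U

theorem over'_map {x y : (Tot Y)ᵒᵖ} (k : x ⟶ y) (h : Over' Y U x) : Over' Y U y := fun z hz =>
  (congrArg (· ∈ U) (ConcreteCategory.congr_hom (θ_comp Y k.unop.base.unop) z)).mp (h (hom_le k.unop hz))

/-- Extension by zero outside the objects over an open set. -/
def zSub (G : D ⥤ AddCommGrpCat.{u}) (x : (Tot Y)ᵒᵖ) : AddSubgroup (G.obj x.unop.base.unop) where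
  carrier := {v | ¬ Over' Y U x → v = 0}
  add_mem' := fun ha hb h => by rw [ha h, hb h, add_zero]
  zero_mem' := fun _ => rfl
  neg_mem' := fun ha h => by rw [ha h, neg_zero]

theorem zSub_map (G : D ⥤ AddCommGrpCat.{u}) {x y : (Tot Y)ᵒᵖ} (k : x ⟶ y) (v : G.obj x.unop.base.unop)
    (hv : v ∈ zSub Y U G x) : G.map k.unop.base.unop v ∈ zSub Y U G y := fun h => by
  rw [hv fun hx => h (over'_map Y U k hx), map_zero]

/-- The extension by zero, as a presheaf. -/
noncomputable def zExt (G : D ⥤ AddCommGrpCat.{u}) : (Tot Y)ᵒᵖ ⥤ AddCommGrpCat.{u} where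
  obj x := AddCommGrpCat.of (zSub Y U G x)
  map {x y} k := AddCommGrpCat.ofHom
    (((G.map k.unop.base.unop).hom.comp (zSub Y U G x).subtype).codRestrict _ fun v => zSub_map Y U G k v.1 v.2)
  map_id x := by
    ext v
    exact ConcreteCategory.congr_hom (G.map_id x.unop.base.unop) v.1
  map_comp {x y z} k l := by
    ext v
    exact ConcreteCategory.congr_hom (G.map_comp k.unop.base.unop l.unop.base.unop) v.1

/-- Functoriality of the extension by zero. -/
noncomputable def zExtMap {G G' : D ⥤ AddCommGrpCat.{u}} (m : G ⟶ G') : zExt Y U G ⟶ zExt Y U G' where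
  app x := AddCommGrpCat.ofHom (((m.app x.unop.base.unop).hom.comp (zSub Y U G x).subtype).codRestrict _
    fun v h => by
      show m.app _ v.1 = 0
      rw [v.2 h, map_zero])
  naturality x y k := by
    ext v
    apply Subtype.ext
    exact ConcreteCategory.congr_hom (m.naturality k.unop.base.unop) v.1

theorem topKU_over (n : D) : Over' Y U ((topKU Y U).obj n) := le_refl _

/-- The canonical arrow. -/
noncomputable def canArr (x : (Tot Y)ᵒᵖ) (h : Over' Y U x) : (topKU Y U).obj x.unop.base.unop ⟶ x :=
  (show x.unop ⟶ pob x.unop.base.unop ((Opens.map (θ Y x.unop.base.unop)).obj U) from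
    ph (𝟙 x.unop.base.unop) (U := fib x.unop) (by rw [spMap_id]; exact h)).op

theorem canArr_nat {x y : (Tot Y)ᵒᵖ} (k : x ⟶ y) (h : Over' Y U x) (h' : Over' Y U y) :
    canArr Y U x h ≫ k = (topKU Y U).map k.unop.base.unop ≫ canArr Y U y h' :=
  Quiver.Hom.unop_inj (tot_hom_ext (by simp [canArr, topKU]))

theorem injective_tsecU (N : DS Y) [Injective N] : Injective ((tsecU Y U).obj N) := by
  classical
  have : Injective ((sheafToPresheaf (totTop Y) AddCommGrpCat.{u}).obj N) :=
    Injective.injective_of_adjoint (sheafificationAdjunction (totTop Y) AddCommGrpCat.{u}) N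
  refine ⟨fun {A B} f m _ => ?_⟩
  have hm : ∀ n, Function.Injective (m.app n) := fun n => (AddCommGrpCat.mono_iff_injective _).1 inferInstance
  haveI : ∀ x, Mono ((zExtMap Y U m).app x) := fun x => (AddCommGrpCat.mono_iff_injective _).2 fun a b e =>
    Subtype.ext (hm _ (congrArg Subtype.val e))
  haveI : Mono (zExtMap Y U m) := NatTrans.mono_of_mono_app _
  let fh : zExt Y U A ⟶ (sheafToPresheaf (totTop Y) AddCommGrpCat.{u}).obj N :=
    { app := fun x => if h : Over' Y U x then
        AddCommGrpCat.ofHom ((zSub Y U A x).subtype) ≫ f.app x.unop.base.unop ≫ N.obj.map (canArr Y U x h) else 0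
      naturality := fun x y k => by
        ext v
        by_cases hx : Over' Y U x
        · have hy := over'_map Y U k hx
          rw [dif_pos hx, dif_pos hy]
          show N.obj.map (canArr Y U y hy) (f.app _ (A.map k.unop.base.unop v.1)) =
            N.obj.map k (N.obj.map (canArr Y U x hx) (f.app _ v.1))
          refine (congrArg _ (ConcreteCategory.congr_hom (f.naturality k.unop.base.unop) v.1)).trans ?_
          refine Eq.trans ?_ (ConcreteCategory.congr_hom (N.obj.map_comp (canArr Y U x hx) k) _)
          rw [canArr_nat Y U k hx hy]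
          exact (ConcreteCategory.congr_hom (N.obj.map_comp _ _) _).symm
        · have hv : v = 0 := Subtype.ext (v.2 hx)
          rw [hv, map_zero, map_zero] }
  obtain ⟨g, hg⟩ := Injective.factors fh (zExtMap Y U m)
  refine ⟨{ app := fun n => AddCommGrpCat.ofHom
              ((AddMonoidHom.id _).codRestrict (zSub Y U B ((topKU Y U).obj n)) fun v h => absurd (topKU_over Y U n) h) ≫
              g.app ((topKU Y U).obj n)
            naturality := fun n n' a => by
              ext v
              exact ConcreteCategory.congr_hom (g.naturality ((topKU Y U).map a)) ⟨v, fun h => absurd (topKU_over Y U n) h⟩ }, ?_⟩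
  ext n v
  refine (ConcreteCategory.congr_hom (congr_app hg ((topKU Y U).obj n))
    ⟨v, fun h => absurd (topKU_over Y U n) h⟩).trans ?_
  simp only [fh, dif_pos (topKU_over Y U n)]
  show N.obj.map (canArr Y U ((topKU Y U).obj n) (topKU_over Y U n)) (f.app n v) = f.app n v
  rw [show canArr Y U ((topKU Y U).obj n) (topKU_over Y U n) = 𝟙 _ from Quiver.Hom.unop_inj (tot_hom_ext rfl)]
  exact ConcreteCategory.congr_hom (N.obj.map_id _) _

end Groth.Agent.FibDescLib
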