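import Groth.Agent.FibDescLib.Iso
import Mathlib.Topology.Category.TopCat.Limits.Pullbacks
import Mathlib.AlgebraicTopology.CechNerve

/-!
The augmented Čech nerve of a map with a section is split.
-/

set_option autoImplicit false
set_option backward.isDefEq.respectTransparency false
set_option backward.isDefEq.respectTransparency.types false
set_option backward.defeqAttrib.useBackward true
set_option linter.style.haveILetI false

universe u

open CategoryTheory CategoryTheory.Limits Opposite TopologicalSpace

namespace Groth.Agent.FibDescLib

/-- The shift of the simplex category: a new least vertex. -/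
def consShift : SimplexCategory ⥤ SimplexCategory where
  obj n := SimplexCategory.mk (n.len + 1)
  map {n m} a := SimplexCategory.Hom.mk
    { toFun := Fin.cases 0 fun i => (a.toOrderHom i).succ
      monotone' := fun i j h => by
        cases i using Fin.cases with
        | zero => simp
        | succ i =>
          cases j using Fin.cases with
          | zero => simp at h
          | succ j => simpa using a.toOrderHom.monotone (Fin.succ_le_succ_iff.mp h) }
  map_id n := by
    apply SimplexCategory.Hom.ext
    ext i
    cases i using Fin.cases <;> simp
  map_comp a b := by
    apply SimplexCategory.Hom.ext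
    ext i
    cases i using Fin.cases <;> simp

/-- The inclusion missing the new vertex. -/
def succShift : 𝟭 SimplexCategory ⟶ consShift where
  app n := SimplexCategory.Hom.mk
    { toFun := fun i => i.succ
      monotone' := fun i j h => Fin.succ_le_succ_iff.mpr h }
  naturality n m a := by
    apply SimplexCategory.Hom.ext
    ext i
    simp [consShift]

/-- The new vertex. -/
def newVertex (n : SimplexCategory) : SimplexCategory.mk 0 ⟶ consShift.obj n :=
  SimplexCategory.const (SimplexCategory.mk 0) _ 0

variable {X S : TopCat.{u}} (f : X ⟶ S)

/-- The fibre power in a degree of the Čech nerve. -/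
noncomputable abbrev pow (n : ℕ) : TopCat.{u} := widePullback.{0} S (fun _ : Fin (n + 1) => X) fun _ => f

variable (s : S ⟶ X) (h : s ≫ f = 𝟙 S)

/-- The section in degree zero. -/
noncomputable def secZero : S ⟶ pow f 0 :=
  WidePullback.lift (𝟙 S) (fun _ => s) fun _ => h

/-- The extra degeneracy. -/
noncomputable def extraDeg (n : ℕ) : pow f n ⟶ pow f (n + 1) :=
  WidePullback.lift (WidePullback.base _) (Fin.cases (WidePullback.base _ ≫ s) (WidePullback.π _))
    fun i => by cases i using Fin.cases <;> simp [h]

/-- The augmented Čech nerve of a map with a section is split. -/
noncomputable def cechSplit : Split (FibDesc.cechAug f) where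
  sec := secZero f s h
  sec_θ := by
    show secZero f s h ≫ WidePullback.base _ = 𝟙 S
    simp [secZero]
  σ := consShift
  ι := succShift
  v := newVertex
  v_nat a := by
    apply SimplexCategory.Hom.ext
    ext i
    simp [newVertex, consShift]
  sh n := extraDeg f s h n.len
  sh_nat {n m} a := by
    show extraDeg f s h m.len ≫ WidePullback.lift (WidePullback.base _)
        (fun i => WidePullback.π _ ((consShift.map a).toOrderHom i)) _ =
      WidePullback.lift (WidePullback.base _) (fun i => WidePullback.π _ (a.toOrderHom i)) _ ≫ extraDeg f s h n.len
    refine WidePullback.hom_ext _ _ _ (fun i => ?_) (by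
      simp [extraDeg]
      erw [WidePullback.lift_base, WidePullback.lift_base])
    cases i using Fin.cases <;> simp [extraDeg, consShift]
  sh_ι n := by
    show extraDeg f s h n.len ≫ WidePullback.lift (WidePullback.base _)
        (fun i => WidePullback.π _ ((succShift.app n).toOrderHom i)) _ = 𝟙 _
    refine WidePullback.hom_ext _ _ _ (fun i => ?_) (by simp [extraDeg])
    simp [extraDeg, succShift]
  sh_v n := by
    show extraDeg f s h n.len ≫ WidePullback.lift (WidePullback.base _)
        (fun i => WidePullback.π _ ((newVertex n).toOrderHom i)) _ = WidePullback.base _ ≫ secZero f s h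
    refine WidePullback.hom_ext _ _ _ (fun i => ?_) (by simp [extraDeg, secZero])
    simp [extraDeg, secZero, newVertex]

include h in
theorem isCohDescentMap_of_section : FibDesc.IsCohDescentMap f :=
  (cechSplit f s h).isCohDescentTop

include h in
theorem isUnivCohDescentMap_of_section : FibDesc.IsUnivCohDescentMap f := fun S' g =>
  isCohDescentMap_of_section (pullback.snd f g) (pullback.lift (g ≫ s) (𝟙 S') (by simp [h]))
    (pullback.lift_snd _ _ _)

end Groth.Agent.FibDescLib
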