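import Groth.Agent.FibDescLib.Local
import Groth.Agent.FibDescLib.Cech

/-!
The augmented Čech nerve over an open subspace of the base; descent for maps is local on the base.
-/

set_option autoImplicit false
set_option backward.isDefEq.respectTransparency false
set_option backward.isDefEq.respectTransparency.types false
set_option backward.defeqAttrib.useBackward true
set_option linter.style.haveILetI false

universe u

open CategoryTheory CategoryTheory.Limits Opposite TopologicalSpace Topology

namespace Groth.Agent.FibDescLib

variable {X S : TopCat.{u}} (f : X ⟶ S) (V : Opens S)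

/-- The inclusion of an open subspace. -/
abbrev openIncl : TopCat.of V ⟶ S := TopCat.ofHom ⟨Subtype.val, continuous_subtype_val⟩

/-- The map over the open subspace. -/
noncomputable abbrev restrMap : pullback f (openIncl V) ⟶ TopCat.of V := pullback.snd f (openIncl V)

/-- The square of arrows. -/
noncomputable abbrev restrSq : Arrow.mk (restrMap f V) ⟶ Arrow.mk f :=
  Arrow.homMk (pullback.fst f (openIncl V)) (openIncl V) pullback.condition

/-- The induced map of augmented Čech nerves. -/
noncomputable abbrev cechRestr : FibDesc.cechAug (restrMap f V) ⟶ FibDesc.cechAug f :=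
  AugmentedSimplexCategory.equivAugmentedSimplicialObject.inverse.map
    (Arrow.mapAugmentedCechNerve (restrSq f V))

/-- The degree `n` part. -/
noncomputable abbrev powRestr (n : ℕ) : pow (restrMap f V) n ⟶ pow f n :=
  WidePullback.lift (WidePullback.base _ ≫ openIncl V) (fun i => WidePullback.π _ i ≫ pullback.fst f (openIncl V))
    fun i => by
      rw [Category.assoc, pullback.condition, ← Category.assoc]
      erw [WidePullback.π_arrow]

theorem powRestr_base (n : ℕ) : powRestr f V n ≫ WidePullback.base _ = WidePullback.base _ ≫ openIncl V :=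
  WidePullback.lift_base _ _ _ _

theorem powRestr_embedding (n : ℕ) :
    IsOpenEmbedding (powRestr f V n) ∧
      Set.range (powRestr f V n) = (WidePullback.base (fun _ : Fin (n + 1) => f)) ⁻¹' (V : Set S) := by
  let b : pow f n ⟶ S := WidePullback.base _
  let W : Opens (pow f n) := (Opens.map b).obj V
  let iW : TopCat.of W ⟶ pow f n := TopCat.ofHom ⟨Subtype.val, continuous_subtype_val⟩
  let bW : TopCat.of W ⟶ TopCat.of V := TopCat.ofHom ⟨fun z => ⟨b z.1, z.2⟩, by fun_prop⟩
  have hb : iW ≫ b = bW ≫ openIncl V := by ext z; rfl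
  let comp : ∀ i : Fin (n + 1), TopCat.of W ⟶ pullback f (openIncl V) := fun i =>
    pullback.lift (iW ≫ WidePullback.π _ i) bW (by rw [Category.assoc, WidePullback.π_arrow]; exact hb)
  let inv : TopCat.of W ⟶ pow (restrMap f V) n :=
    WidePullback.lift bW comp fun i => pullback.lift_snd _ _ _
  have hrange : ∀ z, powRestr f V n z ∈ W := fun z => by
    show b (powRestr f V n z) ∈ V
    have := ConcreteCategory.congr_hom (powRestr_base f V n) z
    rw [ConcreteCategory.comp_apply, ConcreteCategory.comp_apply] at this
    exact this ▸ (WidePullback.base (fun _ : Fin (n + 1) => restrMap f V) z).2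
  let fwd : pow (restrMap f V) n ⟶ TopCat.of W :=
    TopCat.ofHom ⟨fun z => ⟨powRestr f V n z, hrange z⟩, by fun_prop⟩
  have hfwd : fwd ≫ iW = powRestr f V n := ConcreteCategory.hom_ext _ _ fun _ => rfl
  have hb' : fwd ≫ bW = WidePullback.base _ := by
    ext z
    exact ConcreteCategory.congr_hom (powRestr_base f V n) z
  have h1 : inv ≫ powRestr f V n = iW := by
    refine WidePullback.hom_ext _ _ _ (fun i => ?_) ?_
    · simp [inv, comp]
    · simp [inv, hb, b]
  have h2 : inv ≫ fwd = 𝟙 _ := by
    ext z
    exact ConcreteCategory.congr_hom h1 z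
  have h3 : fwd ≫ inv = 𝟙 _ := by
    refine WidePullback.hom_ext _ _ _ (fun i => pullback.hom_ext ?_ ?_) ?_
    · simp [inv, comp, ← hfwd]
      rw [← Category.assoc, hfwd]
      simp
    · simp only [inv, comp, Category.assoc, WidePullback.lift_π, pullback.lift_snd, Category.id_comp]
      rw [hb']
      exact (WidePullback.π_arrow _ i).symm
    · simp [inv, hb']
  let e : pow (restrMap f V) n ≅ TopCat.of W := ⟨fwd, inv, h3, h2⟩
  constructor
  · rw [← hfwd]
    exact (W.isOpenEmbedding'.comp (TopCat.homeoOfIso e).isOpenEmbedding)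
  · refine Set.Subset.antisymm ?_ fun y hy => ⟨inv ⟨y, hy⟩, ConcreteCategory.congr_hom h1 ⟨y, hy⟩⟩
    rintro _ ⟨z, rfl⟩
    exact hrange z

/-- The augmented Čech nerve over an open subspace is the restriction. -/
noncomputable def cechOpenMor : OpenMor (FibDesc.cechAug (restrMap f V)) (FibDesc.cechAug f) where
  φ := cechRestr f V
  emb := by
    rintro ⟨x⟩
    cases x with
    | of n => exact (powRestr_embedding f V n.len).1
    | star => exact V.isOpenEmbedding'
  range_eq n := by
    refine (powRestr_embedding f V n.len).2.trans ?_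
    show _ = (WidePullback.base (fun _ : Fin (n.len + 1) => f)) ⁻¹' Set.range (openIncl V)
    congr 1
    exact Subtype.range_coe.symm

theorem isCohDescentMap_of_openCover {ι : Type u} (V : ι → Opens S) (hV : iSup V = ⊤)
    (h : ∀ i, FibDesc.IsCohDescentMap (restrMap f (V i))) : FibDesc.IsCohDescentMap f := by
  refine isCohDescentTop_of_cover (fun i => cechOpenMor f (V i)) (fun x => ?_) h
  have hx : (x : S) ∈ iSup V := hV ▸ trivial
  obtain ⟨i, hi⟩ := Opens.mem_iSup.1 hx
  exact ⟨i, ⟨⟨x, hi⟩, rfl⟩⟩

end Groth.Agent.FibDescLib
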