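import Groth.Agent.FibDescLib.TowerDescent
import Groth.Agent.FibDescLib.CechOpen

/-!
The bisimplicial fibre product of two augmented Čech nerves.
-/

set_option autoImplicit false
set_option backward.isDefEq.respectTransparency false
set_option backward.isDefEq.respectTransparency.types false
set_option backward.defeqAttrib.useBackward true
set_option linter.style.haveILetI false

universe u

open CategoryTheory CategoryTheory.Limits Opposite TopologicalSpace Topology

namespace Groth.Agent.FibDescLib

/-- Descent is invariant under isomorphism. -/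
theorem isCohDescentTop_of_iso {Y' Y : (WithInitial SimplexCategory)ᵒᵖ ⥤ TopCat.{u}} (e : Y' ≅ Y)
    (h : FibDesc.IsCohDescentTop Y') : FibDesc.IsCohDescentTop Y := by
  have hsurj : ∀ x, Function.Surjective (e.hom.app x) := fun x =>
    (TopCat.homeoOfIso (e.app x)).surjective
  let M : OpenMor Y' Y :=
    { φ := e.hom
      emb := fun x => (TopCat.homeoOfIso (e.app x)).isOpenEmbedding
      range_eq := fun n => by
        rw [(hsurj _).range_eq, (hsurj _).range_eq, Set.preimage_univ] }
  exact isCohDescentTop_of_cover (ι := PUnit.{u + 1}) (fun _ => M) (fun x => ⟨⟨⟩, hsurj _ x⟩) fun _ => h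

section BaseChange

variable {X S : TopCat.{u}} (f : X ⟶ S)

theorem cech_spMap {n m : SimplexCategory} (a : n ⟶ m) :
    spMap (FibDesc.cechAug f) a = (WidePullback.lift (WidePullback.base _)
      (fun i => WidePullback.π _ (a.toOrderHom i)) (fun _ => WidePullback.π_arrow _ _) :
        pow f m.len ⟶ pow f n.len) := rfl

theorem cech_θ (n : SimplexCategory) :
    θ (FibDesc.cechAug f) n = (WidePullback.base _ : pow f n.len ⟶ S) := rfl

variable {W : (WithInitial SimplexCategory)ᵒᵖ ⥤ TopCat.{u}} (g : base W ⟶ S)
  (pr : ∀ n : SimplexCategory, sp W n ⟶ sp (FibDesc.cechAug f) n)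
  (pr_nat : ∀ {n m : SimplexCategory} (a : n ⟶ m), spMap W a ≫ pr n = pr m ≫ spMap (FibDesc.cechAug f) a)
  (hpb : ∀ n, IsPullback (pr n) (θ W n) (θ (FibDesc.cechAug f) n) g)

include pr_nat hpb in
/-- A base change of the augmented Čech nerve is the augmented Čech nerve of the base change. -/
theorem isCohDescentTop_of_baseChange (h : FibDesc.IsCohDescentMap (pullback.snd f g)) :
    FibDesc.IsCohDescentTop W := by
  let f' := pullback.snd f g
  let fwd : ∀ n : SimplexCategory, sp W n ⟶ pow f' n.len := fun n =>
    WidePullback.lift (θ W n)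
      (fun i => pullback.lift ((pr n ≫ WidePullback.π _ i : sp W n ⟶ X)) (θ W n) (by
        rw [Category.assoc]
        erw [WidePullback.π_arrow]
        exact (hpb n).w))
      fun i => pullback.lift_snd _ _ _
  let down : ∀ n : SimplexCategory, pow f' n.len ⟶ pow f n.len := fun n =>
    WidePullback.lift (WidePullback.base _ ≫ g) (fun i => WidePullback.π _ i ≫ pullback.fst f g) fun i => by
      rw [Category.assoc, pullback.condition, ← Category.assoc]
      erw [WidePullback.π_arrow]
  let bwd : ∀ n : SimplexCategory, pow f' n.len ⟶ sp W n := fun n =>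
    (hpb n).lift (down n) (WidePullback.base _) (WidePullback.lift_base _ _ _ _)
  have hd : ∀ n, fwd n ≫ down n = pr n := fun n => by
    refine WidePullback.hom_ext _ _ _ (fun i => ?_) ?_
    · simp [fwd, down]
    · simp [fwd, down]
      exact ((hpb n).w).symm
  have h1 : ∀ n, fwd n ≫ bwd n = 𝟙 _ := fun n => by
    refine (hpb n).hom_ext ?_ ?_
    · rw [Category.assoc, Category.id_comp, (hpb n).lift_fst, hd]
    · rw [Category.assoc, Category.id_comp, (hpb n).lift_snd]
      exact WidePullback.lift_base _ _ _ _
  have h2 : ∀ n, bwd n ≫ fwd n = 𝟙 _ := fun n => by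
    refine WidePullback.hom_ext _ _ _ (fun i => pullback.hom_ext ?_ ?_) ?_
    · simp only [fwd, Category.assoc, WidePullback.lift_π, pullback.lift_fst, Category.id_comp]
      rw [← Category.assoc, (hpb n).lift_fst]
      exact WidePullback.lift_π _ _ _ _ i
    · simp only [fwd, Category.assoc, WidePullback.lift_π, pullback.lift_snd, Category.id_comp]
      rw [(hpb n).lift_snd]
      exact (WidePullback.π_arrow _ i).symm
    · simp only [fwd, Category.assoc, WidePullback.lift_base, Category.id_comp]
      exact (hpb n).lift_snd _ _ _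
  have hsnat : ∀ {n m : SimplexCategory} (a : n ⟶ m),
      spMap W a ≫ fwd n = fwd m ≫ spMap (FibDesc.cechAug f') a := by
    intro n m a
    rw [cech_spMap]
    refine WidePullback.hom_ext _ _ _ (fun i => pullback.hom_ext ?_ ?_) ?_
    · simp only [fwd, Category.assoc, WidePullback.lift_π, pullback.lift_fst]
      rw [← Category.assoc, pr_nat, Category.assoc]
      refine congrArg (pr m ≫ ·) ?_
      rw [cech_spMap]
      exact WidePullback.lift_π _ _ _ _ i
    · simp only [fwd, Category.assoc, WidePullback.lift_π, pullback.lift_snd]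
      exact θ_comp W a
    · simp only [fwd, Category.assoc, WidePullback.lift_base]
      exact θ_comp W a
  let app : ∀ x, W.obj x ≅ (FibDesc.cechAug f').obj x := fun x =>
    match x with
    | op (WithInitial.of n) => ⟨fwd n, bwd n, h1 n, h2 n⟩
    | op WithInitial.star => Iso.refl _
  let e : W ≅ FibDesc.cechAug f' := NatIso.ofComponents app (by
    rintro ⟨x⟩ ⟨y⟩ ⟨k⟩
    cases x with
    | of n =>
      cases y with
      | of m => exact hsnat (WithInitial.down k)
      | star =>
        obtain rfl : k = WithInitial.homTo n := WithInitial.starInitial.hom_ext _ _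
        show θ W n ≫ 𝟙 _ = fwd n ≫ θ (FibDesc.cechAug f') n
        rw [cech_θ]
        exact (Category.comp_id _).trans (WidePullback.lift_base _ _ _ _).symm
    | star =>
      cases y with
      | of m => exact k.elim
      | star =>
        obtain rfl : k = 𝟙 _ := WithInitial.starInitial.hom_ext _ _
        erw [W.map_id, (FibDesc.cechAug f').map_id]
        exact (Category.id_comp _).trans (Category.comp_id _).symm)
  exact isCohDescentTop_of_iso e.symm h

end BaseChange

/-- A map of descent after base change along the identity is of descent. -/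
theorem isCohDescentMap_of_univ {X S : TopCat.{u}} (f : X ⟶ S) (h : FibDesc.IsUnivCohDescentMap f) :
    FibDesc.IsCohDescentMap f :=
  isCohDescentTop_of_baseChange f (W := FibDesc.cechAug f) (𝟙 S) (fun _ => 𝟙 _) (fun a => by simp)
    (fun n =>
      have : IsIso (𝟙 S) := inferInstanceAs (IsIso (𝟙 (Arrow.mk f).right))
      IsPullback.of_horiz_isIso ⟨by simp⟩) (h _ (𝟙 S))

section Bi

variable {X Y S : TopCat.{u}} (u : X ⟶ S) (v : Y ⟶ S)

/-- The square of index categories. -/
abbrev Bi : Type := SimplexCategory × SimplexCategory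

/-- The levels of the fibre product. -/
noncomputable def biLev : Biᵒᵖ ⥤ TopCat.{u} where
  obj x := pullback (θ (FibDesc.cechAug u) x.unop.1) (θ (FibDesc.cechAug v) x.unop.2)
  map {x y} a := pullback.map _ _ _ _ (spMap (FibDesc.cechAug u) a.unop.1) (spMap (FibDesc.cechAug v) a.unop.2) (𝟙 S)
    ((Category.comp_id _).trans (θ_comp _ _).symm) ((Category.comp_id _).trans (θ_comp _ _).symm)
  map_id x := by
    refine pullback.hom_ext ?_ ?_
    · rw [pullback.lift_fst, Category.id_comp]
      exact (congrArg (pullback.fst _ _ ≫ ·) (spMap_id _ _)).trans (Category.comp_id _)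
    · rw [pullback.lift_snd, Category.id_comp]
      exact (congrArg (pullback.snd _ _ ≫ ·) (spMap_id _ _)).trans (Category.comp_id _)
  map_comp {x y z} a b := by
    refine pullback.hom_ext ?_ ?_
    · rw [pullback.lift_fst, Category.assoc, pullback.lift_fst, pullback.lift_fst_assoc]
      exact congrArg (pullback.fst _ _ ≫ ·) (spMap_comp (FibDesc.cechAug u) b.unop.1 a.unop.1)
    · rw [pullback.lift_snd, Category.assoc, pullback.lift_snd, pullback.lift_snd_assoc]
      exact congrArg (pullback.snd _ _ ≫ ·) (spMap_comp (FibDesc.cechAug v) b.unop.2 a.unop.2)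

/-- The projection to the first nerve. -/
noncomputable abbrev τ₁ (d : Bi) : (biLev u v).obj (op d) ⟶ sp (FibDesc.cechAug u) d.1 := pullback.fst _ _

/-- The projection to the second nerve. -/
noncomputable abbrev τ₂ (d : Bi) : (biLev u v).obj (op d) ⟶ sp (FibDesc.cechAug v) d.2 := pullback.snd _ _

theorem τ₁_nat {n m : Bi} (a : n ⟶ m) :
    (biLev u v).map a.op ≫ τ₁ u v n = τ₁ u v m ≫ spMap (FibDesc.cechAug u) a.1 := pullback.lift_fst _ _ _

theorem τ₂_nat {n m : Bi} (a : n ⟶ m) :
    (biLev u v).map a.op ≫ τ₂ u v n = τ₂ u v m ≫ spMap (FibDesc.cechAug v) a.2 := pullback.lift_snd _ _ _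

theorem biθ_nat {n m : Bi} (a : n ⟶ m) :
    (biLev u v).map a.op ≫ τ₁ u v n ≫ θ (FibDesc.cechAug u) n.1 = τ₁ u v m ≫ θ (FibDesc.cechAug u) m.1 := by
  rw [← Category.assoc, τ₁_nat, Category.assoc, θ_comp]

/-- Over the second nerve. -/
noncomputable def towerY : Tower (CategoryTheory.Prod.snd SimplexCategory SimplexCategory) (FibDesc.cechAug v) where
  Zl := biLev u v
  θl d := τ₁ u v d ≫ θ (FibDesc.cechAug u) d.1
  hθl a := biθ_nat u v a
  τ := τ₂ u v
  τ_nat a := τ₂_nat u v a
  w _ := pullback.condition.symm

/-- Over the first nerve. -/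
noncomputable def towerX : Tower (CategoryTheory.Prod.fst SimplexCategory SimplexCategory) (FibDesc.cechAug u) where
  Zl := biLev u v
  θl d := τ₁ u v d ≫ θ (FibDesc.cechAug u) d.1
  hθl a := biθ_nat u v a
  τ := τ₁ u v
  τ_nat a := τ₁_nat u v a
  w _ := rfl

/-- Slices for the second projection. -/
def sliceY (n : SimplexCategory) :
    Slice (CategoryTheory.Prod.snd SimplexCategory SimplexCategory) n SimplexCategory where
  ψ := Prod.sectL SimplexCategory n
  γ _ := 𝟙 n
  γ_nat _ := Category.comp_id _
  π := CategoryTheory.Prod.fst SimplexCategory SimplexCategory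
  f {d} a := ((𝟙 d.1, a) : (d.1, n) ⟶ d)
  f_fac _ := Category.id_comp _
  f_nat {d d'} a h := Prod.ext ((Category.comp_id _).trans (Category.id_comp _).symm) (Category.id_comp _)
  ρ := NatIso.ofComponents (fun _ => Iso.refl _) (fun _ => (Category.comp_id _).trans (Category.id_comp _).symm)
  f_γ _ := rfl

/-- Slices for the first projection. -/
def sliceX (n : SimplexCategory) :
    Slice (CategoryTheory.Prod.fst SimplexCategory SimplexCategory) n SimplexCategory where
  ψ := Prod.sectR n SimplexCategory
  γ _ := 𝟙 n
  γ_nat _ := Category.comp_id _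
  π := CategoryTheory.Prod.snd SimplexCategory SimplexCategory
  f {d} a := ((a, 𝟙 d.2) : (n, d.2) ⟶ d)
  f_fac _ := Category.id_comp _
  f_nat {d d'} a h := Prod.ext (Category.id_comp _) ((Category.comp_id _).trans (Category.id_comp _).symm)
  ρ := NatIso.ofComponents (fun _ => Iso.refl _) (fun _ => (Category.comp_id _).trans (Category.id_comp _).symm)
  f_γ _ := rfl

theorem descent_sliceY (n : SimplexCategory) (h : FibDesc.IsCohDescentMap (pullback.snd u (θ (FibDesc.cechAug v) n))) :
    FibDesc.IsCohDescentTop ((sliceY n).Zn (towerY u v)) := by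
  refine isCohDescentTop_of_baseChange u (W := (sliceY n).Zn (towerY u v)) (θ (FibDesc.cechAug v) n)
    (fun k => τ₁ u v (k, n)) (fun a => τ₁_nat u v ((Prod.sectL SimplexCategory n).map a)) (fun k => ?_) h
  have e : (sliceY n).st (towerY u v) k = τ₂ u v (k, n) :=
    (congrArg (τ₂ u v (k, n) ≫ ·) (spMap_id (FibDesc.cechAug v) n)).trans (Category.comp_id _)
  show IsPullback (τ₁ u v (k, n)) ((sliceY n).st (towerY u v) k) _ _
  rw [e]
  exact IsPullback.of_hasPullback _ _

theorem descent_sliceX (n : SimplexCategory) (h : FibDesc.IsCohDescentMap (pullback.snd v (θ (FibDesc.cechAug u) n))) :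
    FibDesc.IsCohDescentTop ((sliceX n).Zn (towerX u v)) := by
  refine isCohDescentTop_of_baseChange v (W := (sliceX n).Zn (towerX u v)) (θ (FibDesc.cechAug u) n)
    (fun k => τ₂ u v (n, k)) (fun a => τ₂_nat u v ((Prod.sectR n SimplexCategory).map a)) (fun k => ?_) h
  have e : (sliceX n).st (towerX u v) k = τ₁ u v (n, k) :=
    (congrArg (τ₁ u v (n, k) ≫ ·) (spMap_id (FibDesc.cechAug u) n)).trans (Category.comp_id _)
  show IsPullback (τ₂ u v (n, k)) ((sliceX n).st (towerX u v) k) _ _
  rw [e]
  exact (IsPullback.of_hasPullback _ _).flip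

theorem isCohDescentMap_of_baseChange_cech (hv : FibDesc.IsUnivCohDescentMap v)
    (h : ∀ n : SimplexCategory, FibDesc.IsCohDescentMap (pullback.snd u (θ (FibDesc.cechAug v) n))) :
    FibDesc.IsCohDescentMap u :=
  (towerX u v).isCohDescentTop_of_Z sliceX (fun n => descent_sliceX u v n (hv _ _))
    ((towerY u v).isCohDescentTop_Z sliceY (fun n => descent_sliceY u v n (h n)) (isCohDescentMap_of_univ v hv))

end Bi

end Groth.Agent.FibDescLib
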