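import Mathlib.Algebra.Homology.DerivedCategory.ExactFunctor
import Mathlib.Algebra.Homology.Additive
import Mathlib.CategoryTheory.Localization.Predicate

/-!
A criterion for an exact functor `P : A ⥤ B` to induce a fully faithful functor on derived categories:
an exact retraction `R` and an exact endofunctor `T` of `B` with transformations `𝟭 ⟶ T ⟵ R ⋙ P`
which on objects in the image of `P` compose to isomorphisms.
-/

set_option autoImplicit false
set_option backward.isDefEq.respectTransparency false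
set_option backward.defeqAttrib.useBackward true
set_option linter.style.haveILetI false

universe w w' v v' u u'

open CategoryTheory CategoryTheory.Limits DerivedCategory

namespace Groth.Agent.FibDescLib

section Abstract

variable {A : Type u} [Category.{v} A] {B : Type u'} [Category.{v'} B]

theorem fullyFaithful_of_zigzag (P : A ⥤ B) (R : B ⥤ A) (T : B ⥤ B) (α : 𝟭 B ⟶ T) (β : R ⋙ P ⟶ T)
    (w : 𝟭 A ≅ P ⋙ R) (hα : ∀ X, IsIso (α.app (P.obj X)))
    (hw : ∀ X, P.map (w.hom.app X) ≫ β.app (P.obj X) = α.app (P.obj X)) (X Y : A) :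
    Function.Bijective fun g : X ⟶ Y => P.map g := by
  have nat : ∀ {X Y : A} (f : X ⟶ Y), f ≫ w.hom.app Y = w.hom.app X ≫ R.map (P.map f) :=
    fun f => w.hom.naturality f
  refine ⟨fun f f' h => ?_, fun g => ⟨w.hom.app X ≫ R.map g ≫ w.inv.app Y, ?_⟩⟩
  · rw [← cancel_mono (w.hom.app Y)]
    exact (nat f).trans ((congrArg (fun k => w.hom.app X ≫ R.map k) h).trans (nat f').symm)
  · have := hα Y
    rw [← cancel_mono (α.app (P.obj Y))]
    dsimp only
    have h1 : g ≫ α.app (P.obj Y) = α.app (P.obj X) ≫ T.map g := α.naturality g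
    have h2 : P.map (R.map g) ≫ β.app (P.obj Y) = β.app (P.obj X) ≫ T.map g := β.naturality g
    have h3 : P.map (w.inv.app Y) ≫ α.app (P.obj Y) = β.app (P.obj Y) := by
      rw [← hw, ← Category.assoc, ← P.map_comp, Iso.inv_hom_id_app]
      simp
    rw [h1, P.map_comp, P.map_comp, Category.assoc, Category.assoc, h3, h2, ← Category.assoc, hw]

end Abstract

section Derived

variable {A : Type u} [Category.{v} A] [Abelian A] [HasDerivedCategory.{w} A]
  {B : Type u'} [Category.{v'} B] [Abelian B] [HasDerivedCategory.{w'} B]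

theorem mapDerivedCategory_bijective (P : A ⥤ B) [P.Additive] [PreservesFiniteLimits P]
    [PreservesFiniteColimits P] (R : B ⥤ A) [R.Additive] [PreservesFiniteLimits R]
    [PreservesFiniteColimits R] (T : B ⥤ B) [T.Additive] [PreservesFiniteLimits T]
    [PreservesFiniteColimits T] (α : 𝟭 B ⟶ T) (β : R ⋙ P ⟶ T) (w : 𝟭 A ≅ P ⋙ R)
    (hα : ∀ X, IsIso (α.app (P.obj X)))
    (hw : ∀ X, P.map (w.hom.app X) ≫ β.app (P.obj X) = α.app (P.obj X)) (X Y : DerivedCategory A) :
    Function.Bijective fun g : X ⟶ Y => P.mapDerivedCategory.map g := by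
  let c := ComplexShape.up ℤ
  let WA := HomologicalComplex.quasiIso A c
  let WB := HomologicalComplex.quasiIso B c
  let P' := P.mapDerivedCategory
  let R' := R.mapDerivedCategory
  let T' := T.mapDerivedCategory
  let eP := P.mapDerivedCategoryFactors
  let eR := R.mapDerivedCategoryFactors
  let eT := T.mapDerivedCategoryFactors
  let eRP : Q ⋙ R' ⋙ P' ≅ R.mapHomologicalComplex c ⋙ P.mapHomologicalComplex c ⋙ Q :=
    (Functor.associator _ _ _).symm ≪≫ Functor.isoWhiskerRight eR _ ≪≫ Functor.associator _ _ _ ≪≫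
      Functor.isoWhiskerLeft _ eP
  let ePR : Q ⋙ P' ⋙ R' ≅ P.mapHomologicalComplex c ⋙ R.mapHomologicalComplex c ⋙ Q :=
    (Functor.associator _ _ _).symm ≪≫ Functor.isoWhiskerRight eP _ ≪≫ Functor.associator _ _ _ ≪≫
      Functor.isoWhiskerLeft _ eR
  letI : Localization.Lifting (Q : CochainComplex B ℤ ⥤ _) WB Q (𝟭 (DerivedCategory B)) := ⟨Functor.rightUnitor _⟩
  letI : Localization.Lifting (Q : CochainComplex A ℤ ⥤ _) WA Q (𝟭 (DerivedCategory A)) := ⟨Functor.rightUnitor _⟩
  letI : Localization.Lifting (Q : CochainComplex B ℤ ⥤ _) WB (T.mapHomologicalComplex c ⋙ Q) T' := ⟨eT⟩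
  letI : Localization.Lifting (Q : CochainComplex B ℤ ⥤ _) WB
    (R.mapHomologicalComplex c ⋙ P.mapHomologicalComplex c ⋙ Q) (R' ⋙ P') := ⟨eRP⟩
  letI : Localization.Lifting (Q : CochainComplex A ℤ ⥤ _) WA
    (P.mapHomologicalComplex c ⋙ R.mapHomologicalComplex c ⋙ Q) (P' ⋙ R') := ⟨ePR⟩
  let α₀ : 𝟭 (CochainComplex B ℤ) ⟶ T.mapHomologicalComplex c :=
    (Functor.mapHomologicalComplexIdIso B c).inv ≫ NatTrans.mapHomologicalComplex α c
  let β₀ : R.mapHomologicalComplex c ⋙ P.mapHomologicalComplex c ⟶ T.mapHomologicalComplex c :=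
    { app := fun K => { f := fun i => β.app (K.X i), comm' := fun i j _ => (β.naturality (K.d i j)).symm }
      naturality := fun K L f => by ext i; exact β.naturality (f.f i) }
  let w₀ : 𝟭 (CochainComplex A ℤ) ≅ P.mapHomologicalComplex c ⋙ R.mapHomologicalComplex c :=
    NatIso.ofComponents (fun K => HomologicalComplex.Hom.isoOfComponents (fun i => w.app (K.X i))
      (fun i j _ => (w.hom.naturality (K.d i j)).symm)) (fun f => by ext i; exact w.hom.naturality (f.f i))
  let α' : 𝟭 (DerivedCategory B) ⟶ T' :=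
    Localization.liftNatTrans Q WB Q (T.mapHomologicalComplex c ⋙ Q) _ _
      ((Functor.leftUnitor Q).inv ≫ Functor.whiskerRight α₀ Q)
  let β' : R' ⋙ P' ⟶ T' :=
    Localization.liftNatTrans Q WB (R.mapHomologicalComplex c ⋙ P.mapHomologicalComplex c ⋙ Q)
      (T.mapHomologicalComplex c ⋙ Q) _ _ ((Functor.associator _ _ _).inv ≫ Functor.whiskerRight β₀ Q)
  let w' : 𝟭 (DerivedCategory A) ≅ P' ⋙ R' :=
    Localization.liftNatIso Q WA Q (P.mapHomologicalComplex c ⋙ R.mapHomologicalComplex c ⋙ Q) _ _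
      ((Functor.leftUnitor Q).symm ≪≫ Functor.isoWhiskerRight w₀ Q ≪≫ Functor.associator _ _ _)
  have happ : ∀ L, α'.app (Q.obj L) = Q.map (α₀.app L) ≫ eT.inv.app L := by
    intro L
    simp [α', Localization.liftNatTrans_app]
    rfl
  have bapp : ∀ L, β'.app (Q.obj L) = eRP.hom.app L ≫ Q.map (β₀.app L) ≫ eT.inv.app L := by
    intro L
    simp [β', Localization.liftNatTrans_app]
    rfl
  have wapp : ∀ K, w'.hom.app (Q.obj K) = Q.map (w₀.hom.app K) ≫ ePR.inv.app K := by
    intro K
    simp [w', Localization.liftNatIso, Localization.liftNatTrans_app]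
    rfl
  have hα₀ : ∀ K, IsIso (α₀.app ((P.mapHomologicalComplex c).obj K)) := by
    intro K
    have : ∀ i, IsIso ((α₀.app ((P.mapHomologicalComplex c).obj K)).f i) := by
      intro i
      have := hα (K.X i)
      simp [α₀]
      infer_instance
    exact HomologicalComplex.Hom.isIso_of_components _
  have hw₀ : ∀ K, (P.mapHomologicalComplex c).map (w₀.hom.app K) ≫ β₀.app ((P.mapHomologicalComplex c).obj K) =
      α₀.app ((P.mapHomologicalComplex c).obj K) := by
    intro K
    ext i
    simp [w₀, β₀, α₀, hw]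
  have hα' : ∀ X, IsIso (α'.app (P'.obj X)) := by
    intro X
    obtain ⟨K, ⟨e⟩⟩ : ∃ K, Nonempty (Q.obj K ≅ X) := ⟨_, ⟨Q.objObjPreimageIso X⟩⟩
    refine (NatTrans.isIso_app_iff_of_iso α' (P'.mapIso e)).1 ?_
    refine (NatTrans.isIso_app_iff_of_iso α' (eP.app K)).2 ?_
    show IsIso (α'.app (Q.obj ((P.mapHomologicalComplex c).obj K)))
    rw [happ]
    have := hα₀ K
    infer_instance
  have hw' : ∀ X, P'.map (w'.hom.app X) ≫ β'.app (P'.obj X) = α'.app (P'.obj X) := by
    intro X
    obtain ⟨K, ⟨e⟩⟩ : ∃ K, Nonempty (Q.obj K ≅ X) := ⟨_, ⟨Q.objObjPreimageIso X⟩⟩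
    have key : P'.map (w'.hom.app (Q.obj K)) ≫ β'.app (P'.obj (Q.obj K)) = α'.app (P'.obj (Q.obj K)) := by
      let M := (P.mapHomologicalComplex c).obj K
      let N := (R.mapHomologicalComplex c).obj M
      have n1 : P'.map (R'.map (eP.hom.app K)) ≫ β'.app (Q.obj M) =
          β'.app (P'.obj (Q.obj K)) ≫ T'.map (eP.hom.app K) := β'.naturality (eP.hom.app K)
      have n2 : eP.hom.app K ≫ α'.app (Q.obj M) = α'.app (P'.obj (Q.obj K)) ≫ T'.map (eP.hom.app K) :=
        α'.naturality (eP.hom.app K)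
      have n3 : P'.map (Q.map (w₀.hom.app K)) ≫ eP.hom.app N =
          eP.hom.app K ≫ Q.map ((P.mapHomologicalComplex c).map (w₀.hom.app K)) :=
        eP.hom.naturality (w₀.hom.app K)
      have hc : P'.map (ePR.inv.app K) ≫ P'.map (R'.map (eP.hom.app K)) ≫ P'.map (eR.hom.app M) = 𝟙 _ := by
        rw [← P'.map_comp, ← P'.map_comp, ← P'.map_id]
        congr 1
        have : ePR.inv.app K = eR.inv.app M ≫ R'.map (eP.inv.app K) := by
          simp [ePR, M]
          rfl
        rw [this, Category.assoc, ← R'.map_comp_assoc, Iso.inv_hom_id_app]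
        erw [R'.map_id, Category.id_comp]
        exact eR.inv_hom_id_app M
      have hb : β'.app (Q.obj M) =
          P'.map (eR.hom.app M) ≫ eP.hom.app N ≫ Q.map (β₀.app M) ≫ eT.inv.app M := by
        rw [bapp]
        simp [eRP, N]
        rfl
      have : IsIso (T'.map (eP.hom.app K)) := inferInstance
      refine (cancel_mono (T'.map (eP.hom.app K))).1 ?_
      refine (Category.assoc _ _ _).trans ((congrArg (P'.map (w'.hom.app (Q.obj K)) ≫ ·) n1.symm).trans
        (Eq.trans ?_ n2))
      rw [happ, hb, wapp, P'.map_comp, ← hw₀ K, Q.map_comp]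
      refine (Category.assoc _ _ _).trans ?_
      refine (congrArg (P'.map (Q.map (w₀.hom.app K)) ≫ ·)
        (?_ : _ = eP.hom.app N ≫ Q.map (β₀.app M) ≫ eT.inv.app M)).trans ?_
      · rw [← Category.assoc (P'.map (R'.map _)), ← Category.assoc (P'.map (ePR.inv.app K))]
        exact (congrArg (· ≫ _) hc).trans (Category.id_comp _)
      · rw [← Category.assoc, n3]
        simp only [Category.assoc]
        rfl
    have h1 := β'.naturality (P'.map e.hom)
    have h2 := α'.naturality (P'.map e.hom)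
    have h3 := congrArg P'.map (w'.hom.naturality e.hom)
    rw [P'.map_comp, P'.map_comp] at h3
    have : IsIso (P'.map e.hom) := inferInstance
    rw [← cancel_epi (P'.map e.hom)]
    refine Eq.trans ?_ h2.symm
    rw [← key, Category.assoc, ← h1]
    exact (Category.assoc _ _ _).symm.trans ((congrArg (· ≫ _) h3).trans (Category.assoc _ _ _))
  exact fullyFaithful_of_zigzag P' R' T' α' β' w' hα' hw' X Y

end Derived

end Groth.Agent.FibDescLib
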