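import Groth.Agent.FibDescLib.OpenRestr
import Groth.Agent.FibDescLib.UnitCrit
import Groth.Agent.FibDescLib.Criterion

/-!
Cohomological descent is local on the base.
-/

set_option autoImplicit false
set_option backward.isDefEq.respectTransparency false
set_option backward.isDefEq.respectTransparency.types false
set_option backward.defeqAttrib.useBackward true
set_option linter.style.haveILetI false

universe u

open CategoryTheory CategoryTheory.Limits Opposite TopologicalSpace Topology

namespace Groth.Agent.FibDescLib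

attribute [local instance] HasDerivedCategory.standard

namespace OpenMor

variable {Y' Y : (WithInitial SimplexCategory)ᵒᵖ ⥤ TopCat.{u}} (M : OpenMor Y' Y)

/-- The comparison of inverse images and restrictions, as a natural transformation. -/
noncomputable def pullCompNat : M.jS ⋙ pullF Y' ⟶ pullF Y ⋙ M.jT where
  app K := M.pullComp K
  naturality K K' f := by
    show (pullF Y').map (M.jS.map f) ≫ M.pullComp K' = M.pullComp K ≫ M.jT.map ((pullF Y).map f)
    apply ((padj (Y := Y')).homEquiv _ _).injective
    unfold pullComp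
    rw [Adjunction.homEquiv_naturality_left, Adjunction.homEquiv_naturality_right, Equiv.apply_symm_apply,
      Equiv.apply_symm_apply, Category.assoc]
    have h2 := M.pushIso.hom.naturality ((pullF Y).map f)
    refine Eq.trans ?_ (congrArg (M.jS.map ((padj (Y := Y)).unit.app K) ≫ ·) h2)
    refine (Category.assoc _ _ _).symm.trans (Eq.trans ?_ (Category.assoc _ _ _))
    refine congrArg (· ≫ M.pushIso.hom.app _) ?_
    exact (M.jS.map_comp _ _).symm.trans
      ((congrArg M.jS.map ((padj (Y := Y)).unit.naturality f)).trans (M.jS.map_comp _ _))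

instance : IsIso M.pullCompNat := by
  have : ∀ K, IsIso (M.pullCompNat.app K) := M.isIso_pullComp
  exact NatIso.isIso_of_isIso_app _

instance jT_lex : PreservesFiniteLimits M.jT := by
  have := (M.Im.sheafAdjunctionContinuous AddCommGrpCat.{u} (totTop Y') (totTop Y)).rightAdjoint_preservesLimits
  infer_instance

instance jT_rex : PreservesFiniteColimits M.jT := by
  have := (M.Im.sheafAdjunctionCocontinuous AddCommGrpCat.{u} (totTop Y') (totTop Y)).leftAdjoint_preservesColimits
  infer_instance

instance jS_lex : PreservesFiniteLimits M.jS := by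
  have := ((imgF M.embb).sheafAdjunctionContinuous AddCommGrpCat.{u}
    (FibDesc.topAugTop Y' (FibDesc.bot SimplexCategory))
    (FibDesc.topAugTop Y (FibDesc.bot SimplexCategory))).rightAdjoint_preservesLimits
  infer_instance

instance jS_rex : PreservesFiniteColimits M.jS := by
  have := ((imgF M.embb).sheafAdjunctionCocontinuous AddCommGrpCat.{u}
    (FibDesc.topAugTop Y' (FibDesc.bot SimplexCategory))
    (FibDesc.topAugTop Y (FibDesc.bot SimplexCategory))).leftAdjoint_preservesColimits
  infer_instance

instance jT_additive : M.jT.Additive where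

instance jS_additive : M.jS.Additive where

/-- The transpose commutes with restriction. -/
theorem map_transpose {L : BS Y} {J : DS Y} (q : (pullF Y).obj L ⟶ J) :
    M.jS.map ((padj (Y := Y)).unit.app L ≫ (pushF Y).map q) ≫ M.pushIso.hom.app J =
      (padj (Y := Y')).unit.app (M.jS.obj L) ≫ (pushF Y').map (M.pullCompNat.app L ≫ M.jT.map q) := by
  refine Eq.trans ?_ ((padj (Y := Y')).homEquiv_unit (M.jS.obj L) _ (M.pullComp L ≫ M.jT.map q))
  refine Eq.trans ?_ ((padj (Y := Y')).homEquiv_naturality_right (M.pullComp L) (M.jT.map q)).symm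
  unfold pullComp
  rw [Equiv.apply_symm_apply, Functor.map_comp, Category.assoc]
  refine (congrArg (M.jS.map ((padj (Y := Y)).unit.app L) ≫ ·) (M.pushIso.hom.naturality q)).trans ?_
  exact (Category.assoc _ _ _).symm

set_option maxHeartbeats 1000000 in
theorem quasiIso_jS_transpose (h : FibDesc.IsCohDescentTop Y')
    (L : CochainComplex (BS Y) ℤ) (J : CochainComplex (DS Y) ℤ) (a : ℤ) [L.IsStrictlyGE a] [J.IsStrictlyGE a]
    [∀ i, Injective (L.X i)] [∀ i, Injective (J.X i)]
    (q : ((pullF Y).mapHomologicalComplex (ComplexShape.up ℤ)).obj L ⟶ J) [QuasiIso q] :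
    QuasiIso ((M.jS.mapHomologicalComplex (ComplexShape.up ℤ)).map (cxTranspose (padj (Y := Y)) q)) := by
  obtain ⟨_, _, _, _, _, hlex, hFF⟩ := h
  let c := ComplexShape.up ℤ
  let L' := (M.jS.mapHomologicalComplex c).obj L
  let J' := (M.jT.mapHomologicalComplex c).obj J
  have : ∀ i, Injective (L'.X i) := fun i => M.injective_jS (L.X i)
  have : ∀ i, Injective (J'.X i) := fun i => M.injective_jT (J.X i)
  have : CochainComplex.IsStrictlyGE L' a :=
    inferInstanceAs (CochainComplex.IsStrictlyGE ((M.jS.mapHomologicalComplex c).obj L) a)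
  have : CochainComplex.IsStrictlyGE J' a :=
    inferInstanceAs (CochainComplex.IsStrictlyGE ((M.jT.mapHomologicalComplex c).obj J) a)
  let pc : ((pullF Y').mapHomologicalComplex c).obj L' ⟶
      (M.jT.mapHomologicalComplex c).obj (((pullF Y).mapHomologicalComplex c).obj L) :=
    { f := fun i => M.pullCompNat.app (L.X i)
      comm' := fun i j _ => (M.pullCompNat.naturality (L.d i j)).symm }
  have : ∀ i, IsIso (pc.f i) := fun i => M.isIso_pullComp (L.X i)
  have : IsIso pc := HomologicalComplex.Hom.isIso_of_components pc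
  let q' : ((pullF Y').mapHomologicalComplex c).obj L' ⟶ J' := pc ≫ (M.jT.mapHomologicalComplex c).map q
  have : QuasiIso ((M.jT.mapHomologicalComplex c).map q) := inferInstance
  have : QuasiIso q' := inferInstanceAs (QuasiIso (pc ≫ (M.jT.mapHomologicalComplex c).map q))
  have hq := quasiIso_transpose (padj (Y := Y')) hFF a q'
  let ps : (M.jS.mapHomologicalComplex c).obj (((pushF Y).mapHomologicalComplex c).obj J) ⟶
      ((pushF Y').mapHomologicalComplex c).obj J' :=
    { f := fun i => M.pushIso.hom.app (J.X i)
      comm' := fun i j _ => (M.pushIso.hom.naturality (J.d i j)).symm }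
  have : ∀ i, IsIso (ps.f i) := fun i => inferInstanceAs (IsIso (M.pushIso.hom.app (J.X i)))
  have : IsIso ps := HomologicalComplex.Hom.isIso_of_components ps
  have e : (M.jS.mapHomologicalComplex c).map (cxTranspose (padj (Y := Y)) q) ≫ ps =
      cxTranspose (padj (Y := Y')) q' := by
    apply HomologicalComplex.hom_ext
    intro i
    exact M.map_transpose (q.f i)
  exact (quasiIso_iff_comp_right _ ps).1 (e ▸ hq)

theorem bijective_app {K L : BS Y} {f : K ⟶ L} (hf : IsIso (M.jS.map f)) {W : Opens (base Y)}
    (hW : (W : Set (base Y)) ⊆ Set.range M.fb) : Function.Bijective (f.hom.app (op W)) := by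
  have e : (imgF M.embb).obj ((Opens.map M.fb).obj W) = W := by
    apply Opens.ext
    exact Set.image_preimage_eq_of_subset hW
  rw [← e]
  have : IsIso (((sheafToPresheaf _ _).map (M.jS.map f)).app (op ((Opens.map M.fb).obj W))) := inferInstance
  exact ConcreteCategory.bijective_of_isIso (C := AddCommGrpCat.{u})
    (((sheafToPresheaf _ _).map (M.jS.map f)).app (op ((Opens.map M.fb).obj W)))

end OpenMor

theorem isIso_of_cover {Y : (WithInitial SimplexCategory)ᵒᵖ ⥤ TopCat.{u}} {ι : Type u}
    {Y' : ι → (WithInitial SimplexCategory)ᵒᵖ ⥤ TopCat.{u}} (M : ∀ i, OpenMor (Y' i) Y)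
    (hcov : ∀ x : base Y, ∃ i, x ∈ Set.range (M i).fb)
    ⦃K L : BS Y⦄ (f : K ⟶ L) (hf : ∀ i, IsIso ((M i).jS.map f)) : IsIso f := by
  refine (Sheaf.isLocallyBijective_iff_isIso (J := Opens.grothendieckTopology (base Y)) (f := f)).1 ?_
  constructor
  · constructor
    intro U x y h p hp
    obtain ⟨i, hi⟩ := hcov p
    let W : Opens (base Y) := U.unop ⊓ ⟨Set.range (M i).fb, (M i).embb.isOpen_range⟩
    refine ⟨W, homOfLE inf_le_left, ?_, hp, hi⟩
    refine ((M i).bijective_app (hf i) (W := W) (fun z hz => hz.2)).1 ?_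
    rw [NatTrans.naturality_apply, NatTrans.naturality_apply, h]
  · constructor
    intro U s p hp
    obtain ⟨i, hi⟩ := hcov p
    let W : Opens (base Y) := U ⊓ ⟨Set.range (M i).fb, (M i).embb.isOpen_range⟩
    exact ⟨W, homOfLE inf_le_left, ((M i).bijective_app (hf i) (W := W) (fun z hz => hz.2)).2 _, hp, hi⟩

/-- Cohomological descent is local on the base. -/
theorem isCohDescentTop_of_cover {Y : (WithInitial SimplexCategory)ᵒᵖ ⥤ TopCat.{u}} {ι : Type u}
    {Y' : ι → (WithInitial SimplexCategory)ᵒᵖ ⥤ TopCat.{u}} (M : ∀ i, OpenMor (Y' i) Y)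
    (hcov : ∀ x : base Y, ∃ i, x ∈ Set.range (M i).fb)
    (h : ∀ i, FibDesc.IsCohDescentTop (Y' i)) : FibDesc.IsCohDescentTop Y := by
  refine ⟨inferInstance, inferInstance, inferInstance, inferInstance, inferInstance, inferInstance, ?_⟩
  refine bijective_of_quasiIso_transpose (padj (Y := Y)) fun L J a _ _ _ _ q _ => ?_
  exact quasiIso_of_jointly (fun i => (M i).jS) (isIso_of_cover M hcov) _
    fun i => (M i).quasiIso_jS_transpose (h i) L J a q

end Groth.Agent.FibDescLib
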