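import Groth.Prelude.Def_FibDesc
import Groth.Agent.FibSiteLib.Total
import Mathlib.CategoryTheory.Sites.Pullback
import Mathlib.CategoryTheory.Functor.Flat

/-!
The total category of an augmented simplicial space: morphisms, topology, continuity.
-/

set_option autoImplicit false
set_option backward.isDefEq.respectTransparency false
set_option backward.isDefEq.respectTransparency.types false
set_option backward.defeqAttrib.useBackward true
set_option linter.style.haveILetI false

universe u

open CategoryTheory CategoryTheory.Limits Opposite TopologicalSpace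
open CategoryTheory.Pseudofunctor CategoryTheory.Pseudofunctor.CoGrothendieck

namespace Groth.Agent.FibDescLib

variable {Ix : Type} [SmallCategory Ix] (Y : (WithInitial Ix)ᵒᵖ ⥤ TopCat.{u})

/-- The total category of the simplicial part. -/
abbrev Tot : Type u := ∫ᶜ (FibDesc.part (FibDesc.topAug Y))

/-- The total category of the augmented family. -/
abbrev Aug : Type u := ∫ᶜ (FibDesc.topAug Y)

/-- The space in degree `n`. -/
abbrev sp (n : Ix) : TopCat.{u} := Y.obj (op (WithInitial.of n))

/-- The base space. -/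
abbrev base : TopCat.{u} := Y.obj (FibDesc.bot Ix)

/-- A simplicial operator. -/
abbrev spMap {n m : Ix} (a : n ⟶ m) : sp Y m ⟶ sp Y n :=
  Y.map ((WithInitial.incl (C := Ix)).map a).op

/-- The augmentation. -/
abbrev θ (n : Ix) : sp Y n ⟶ base Y := Y.map (WithInitial.homTo n).op

theorem θ_comp {n m : Ix} (a : n ⟶ m) : spMap Y a ≫ θ Y n = θ Y m := by
  rw [← Y.map_comp]
  rfl

theorem spMap_id (n : Ix) : spMap Y (𝟙 n) = 𝟙 _ := by
  simp [spMap]
  exact Y.map_id _

theorem spMap_comp {n m l : Ix} (a : n ⟶ m) (b : m ⟶ l) :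
    spMap Y (a ≫ b) = spMap Y b ≫ spMap Y a := by
  simp [spMap]

variable {Y}

theorem opens_thin {X : TopCat.{u}} {U V : Opens X} (f g : U ⟶ V) : f = g := Subsingleton.elim f g

/-- The open set underlying an object. -/
abbrev fib (x : Tot Y) : Opens (sp Y x.base.unop) := x.fiber

/-- An object of the total category. -/
abbrev pob (n : Ix) (U : Opens (sp Y n)) : Tot Y := ⟨op n, U⟩

/-- A morphism of the total category. -/
abbrev ph {n m : Ix} (a : n ⟶ m) {U : Opens (sp Y m)} {W : Opens (sp Y n)}
    (h : U ≤ (Opens.map (spMap Y a)).obj W) : pob m U ⟶ pob n W :=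
  ⟨a.op, (show U ⟶ (Opens.map (spMap Y a)).obj W from homOfLE h)⟩

theorem pobj_eq (x : Tot Y) : x = pob x.base.unop x.fiber := rfl

/-- A morphism of the augmented total category into the base. -/
abbrev toBot {n : Ix} {V : Opens (sp Y n)} {U : Opens (base Y)}
    (h : V ≤ (Opens.map (θ Y n)).obj U) :
    (FibDesc.incl (FibDesc.topAug Y)).obj (pob n V) ⟶ (FibDesc.eps (FibDesc.topAug Y)).obj U :=
  ⟨(WithInitial.homTo n).op, (show V ⟶ (Opens.map (θ Y n)).obj U from homOfLE h)⟩

theorem hom_le {x y : Tot Y} (g : x ⟶ y) : fib x ≤ (Opens.map (spMap Y g.base.unop)).obj (fib y) :=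
  leOfHom (show fib x ⟶ (Opens.map (spMap Y g.base.unop)).obj (fib y) from g.fiber)

theorem toBot_le {x : Tot Y} {U : Opens (base Y)}
    (g : (FibDesc.incl (FibDesc.topAug Y)).obj x ⟶ (FibDesc.eps (FibDesc.topAug Y)).obj U) :
    fib x ≤ (Opens.map (θ Y x.base.unop)).obj U := by
  have h : g.base = (WithInitial.homTo x.base.unop).op :=
    Quiver.Hom.unop_inj (WithInitial.starInitial.hom_ext _ _)
  have h' := leOfHom (show fib x ⟶ (Opens.map (Y.map g.base)).obj U from g.fiber)
  rw [h] at h'
  exact h'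

theorem tot_hom_ext {x y : Tot Y} {g g' : x ⟶ y} (h : g.base = g'.base) : g = g' := by
  obtain ⟨b, f⟩ := g
  obtain ⟨b', f'⟩ := g'
  dsimp at h
  subst h
  congr
  exact opens_thin (X := sp Y x.base.unop) f f'

theorem aug_hom_ext {x y : Aug Y} {g g' : x ⟶ y} (h : g.base = g'.base) : g = g' := by
  obtain ⟨b, f⟩ := g
  obtain ⟨b', f'⟩ := g'
  dsimp at h
  subst h
  congr
  exact opens_thin (X := Y.obj x.base) f f'

theorem toBot_ext {x : Tot Y} {U : Opens (base Y)}
    (g g' : (FibDesc.incl (FibDesc.topAug Y)).obj x ⟶ (FibDesc.eps (FibDesc.topAug Y)).obj U) : g = g' :=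
  aug_hom_ext (Quiver.Hom.unop_inj (WithInitial.starInitial.hom_ext _ _))

theorem ph_eq {x y : Tot Y} (g : x ⟶ y) : g = ph g.base.unop (hom_le g) := tot_hom_ext rfl

section Sites

theorem isPreFibSite : FibSite.IsPreFibSite (FibDesc.topAug Y) (FibDesc.topAugTop Y) :=
  fun _ _ f => inferInstanceAs ((Opens.map (Y.map f)).IsContinuous _ _)

theorem isPreFibSite_part :
    FibSite.IsPreFibSite (FibDesc.part (FibDesc.topAug Y))
      (FibDesc.partTop (FibDesc.topAug Y) (FibDesc.topAugTop Y)) :=
  fun _ _ f => inferInstanceAs ((Opens.map (Y.map ((FibDesc.toAug Ix).map f))).IsContinuous _ _)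

end Sites

section BaseChange

variable {𝒮 : Type} [SmallCategory 𝒮] {𝒮' : Type} [SmallCategory 𝒮']
  {F : Pseudofunctor (LocallyDiscrete 𝒮ᵒᵖ) Cat.{u, u}} {J : FibSite.Topologies F} (ψ : 𝒮' ⥤ 𝒮)

theorem baseChange_isPreFibSite (hF : FibSite.IsPreFibSite F J) :
    FibSite.IsPreFibSite (FibSite.baseChange F ψ) (FibSite.baseChangeTop J ψ) :=
  fun _ _ f => hF (ψ.map f)

theorem baseChangeFunctor_map_ι {i : 𝒮'} {V W : (FibSite.baseChange F ψ).obj ⟨op i⟩} (φ : V ⟶ W) :
    (FibSite.baseChangeFunctor F ψ).map ((ι (FibSite.baseChange F ψ) i).map φ) = (ι F (ψ.obj i)).map φ := by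
  ext
  · simp
  · simp [FibSite.baseChange, Pseudofunctor.comp_mapId, PrelaxFunctor.map₂_eqToHom]

/-- The base change functor on a fibre. -/
def baseChangeιIso (i : 𝒮') :
    ι (FibSite.baseChange F ψ) i ⋙ FibSite.baseChangeFunctor F ψ ≅ ι F (ψ.obj i) :=
  NatIso.ofComponents (fun _ => Iso.refl _) fun φ =>
    (Category.comp_id _).trans ((baseChangeFunctor_map_ι ψ φ).trans (Category.id_comp _).symm)

variable (hF : FibSite.IsPreFibSite F J)
include hF

theorem baseChange_isContinuous :
    (FibSite.baseChangeFunctor F ψ).IsContinuous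
      (FibSite.totalTopology (FibSite.baseChange F ψ) (FibSite.baseChangeTop J ψ))
      (FibSite.totalTopology F J) := by
  rw [FibSiteLib.isContinuous_iff (baseChange_isPreFibSite ψ hF)]
  intro i
  have := FibSiteLib.isContinuous_ι hF (ψ.obj i)
  exact Functor.isContinuous_of_iso (baseChangeιIso ψ i).symm _ _

theorem baseChange_isCocontinuous :
    (FibSite.baseChangeFunctor F ψ).IsCocontinuous
      (FibSite.totalTopology (FibSite.baseChange F ψ) (FibSite.baseChangeTop J ψ))
      (FibSite.totalTopology F J) := by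
  refine ⟨fun {X} S hS => ?_⟩
  rw [FibSiteLib.mem_totalTopology_iff hF] at hS
  rw [FibSiteLib.mem_totalTopology_iff (baseChange_isPreFibSite ψ hF)]
  refine (J (ψ.obj X.base)).superset_covering ?_ hS
  intro V v hv
  show S ((FibSite.baseChangeFunctor F ψ).map ((ι (FibSite.baseChange F ψ) X.base).map v))
  rw [baseChangeFunctor_map_ι ψ v]
  exact hv

end BaseChange

end Groth.Agent.FibDescLib
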