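import Groth.Agent.FibDescLib.BiCech
import Groth.Agent.FibDescLib.Cech

/-!
Permanence properties of maps universally of cohomological descent.
-/

set_option autoImplicit false
set_option backward.isDefEq.respectTransparency false
set_option backward.isDefEq.respectTransparency.types false
set_option linter.style.haveILetI false

universe u

open CategoryTheory CategoryTheory.Limits Opposite TopologicalSpace

namespace Groth.Agent.FibDescLib

theorem isCohDescentMap_of_arrowIso {X X' S S' : TopCat.{u}} {f : X ⟶ S} {f' : X' ⟶ S'}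
    (e : Arrow.mk f ≅ Arrow.mk f') (h : FibDesc.IsCohDescentMap f) : FibDesc.IsCohDescentMap f' :=
  isCohDescentTop_of_iso (AugmentedSimplexCategory.equivAugmentedSimplicialObject.inverse.mapIso
    (SimplicialObject.augmentedCechNerve.mapIso e)) h

variable {P X S T : TopCat.{u}} {fst : P ⟶ X} {snd : P ⟶ T} {f : X ⟶ S} {g : T ⟶ S}

theorem isCohDescentMap_of_isPullback (sq : IsPullback fst snd f g)
    (h : FibDesc.IsCohDescentMap (pullback.snd f g)) : FibDesc.IsCohDescentMap snd :=
  isCohDescentMap_of_arrowIso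
    (Arrow.isoMk sq.isoPullback.symm (Iso.refl _) (by
      show sq.isoPullback.inv ≫ snd = pullback.snd f g ≫ 𝟙 _
      rw [sq.isoPullback_inv_snd, Category.comp_id])) h

theorem isCohDescentMap_pullback_of_isPullback (sq : IsPullback fst snd f g)
    (h : FibDesc.IsCohDescentMap snd) : FibDesc.IsCohDescentMap (pullback.snd f g) :=
  isCohDescentMap_of_arrowIso
    (Arrow.isoMk sq.isoPullback (Iso.refl _) (by
      show sq.isoPullback.hom ≫ pullback.snd f g = snd ≫ 𝟙 _
      rw [sq.isoPullback_hom_snd, Category.comp_id])) h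

/-- Universality is stable under base change. -/
theorem isUnivCohDescentMap_of_isPullback (sq : IsPullback fst snd f g)
    (h : FibDesc.IsUnivCohDescentMap f) : FibDesc.IsUnivCohDescentMap snd := fun T' k =>
  isCohDescentMap_of_isPullback ((IsPullback.of_hasPullback snd k).paste_horiz sq) (h T' (k ≫ g))

/-- A map is of descent if it is so after base change along the terms of a universal descent map. -/
theorem isCohDescentMap_of_cover {Z : TopCat.{u}} (u : X ⟶ S) (v : Z ⟶ S) (hv : FibDesc.IsUnivCohDescentMap v)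
    (h : ∀ (T : TopCat.{u}) (b : T ⟶ Z), FibDesc.IsCohDescentMap (pullback.snd u (b ≫ v))) :
    FibDesc.IsCohDescentMap u :=
  isCohDescentMap_of_baseChange_cech u v hv fun n => by
    have e : θ (FibDesc.cechAug v) n = (WidePullback.π (fun _ : Fin (n.len + 1) => v) 0 : pow v n.len ⟶ Z) ≫ v := by
      rw [cech_θ]
      exact (WidePullback.π_arrow _ 0).symm
    rw [e]
    exact h _ _

theorem isUnivCohDescentMap_iff_baseChange {X S S' : TopCat.{u}} (f : X ⟶ S) (g : S' ⟶ S)
    (hg : FibDesc.IsUnivCohDescentMap g) :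
    FibDesc.IsUnivCohDescentMap f ↔ FibDesc.IsUnivCohDescentMap (pullback.snd f g) := by
  refine ⟨isUnivCohDescentMap_of_isPullback (IsPullback.of_hasPullback f g), fun h T k => ?_⟩
  refine isCohDescentMap_of_cover (pullback.snd f k) (pullback.snd g k)
    (isUnivCohDescentMap_of_isPullback (IsPullback.of_hasPullback g k) hg) fun U b => ?_
  have sq₁ : IsPullback (pullback.fst (pullback.snd f k) (b ≫ pullback.snd g k) ≫ pullback.fst f k)
      (pullback.snd (pullback.snd f k) (b ≫ pullback.snd g k)) f ((b ≫ pullback.snd g k) ≫ k) :=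
    (IsPullback.of_hasPullback _ _).paste_horiz (IsPullback.of_hasPullback f k)
  have e : (b ≫ pullback.snd g k) ≫ k = (b ≫ pullback.fst g k) ≫ g := by
    rw [Category.assoc, Category.assoc, pullback.condition]
  rw [e] at sq₁
  refine isCohDescentMap_of_isPullback sq₁ ?_
  exact isCohDescentMap_pullback_of_isPullback
    ((IsPullback.of_hasPullback (pullback.snd f g) (b ≫ pullback.fst g k)).paste_horiz
      (IsPullback.of_hasPullback f g)) (h _ _)

theorem isUnivCohDescentMap_of_comp {X Y S : TopCat.{u}} (f : X ⟶ Y) (g : Y ⟶ S)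
    (h : FibDesc.IsUnivCohDescentMap (f ≫ g)) : FibDesc.IsUnivCohDescentMap g := fun T k => by
  refine isCohDescentMap_of_cover (pullback.snd g k) (pullback.snd (f ≫ g) k)
    (isUnivCohDescentMap_of_isPullback (IsPullback.of_hasPullback (f ≫ g) k) h) fun U b => ?_
  let s : U ⟶ pullback g k := pullback.lift (b ≫ pullback.fst (f ≫ g) k ≫ f) (b ≫ pullback.snd (f ≫ g) k) (by
    simp [pullback.condition])
  exact isCohDescentMap_of_section _
    (pullback.lift s (𝟙 U) (by rw [Category.id_comp]; exact pullback.lift_snd _ _ _))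
    (pullback.lift_snd _ _ _)

theorem isUnivCohDescentMap_comp {X Y S : TopCat.{u}} (f : X ⟶ Y) (g : Y ⟶ S)
    (hf : FibDesc.IsUnivCohDescentMap f) (hg : FibDesc.IsUnivCohDescentMap g) :
    FibDesc.IsUnivCohDescentMap (f ≫ g) := fun T k => by
  refine isCohDescentMap_of_cover (pullback.snd (f ≫ g) k) (pullback.snd g k)
    (isUnivCohDescentMap_of_isPullback (IsPullback.of_hasPullback g k) hg) fun U b => ?_
  let bY : U ⟶ Y := b ≫ pullback.fst g k
  let q := pullback.snd (pullback.snd (f ≫ g) k) (b ≫ pullback.snd g k)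
  let a : pullback f bY ⟶ pullback (pullback.snd (f ≫ g) k) (b ≫ pullback.snd g k) :=
    pullback.lift
      (pullback.lift (pullback.fst f bY) (pullback.snd f bY ≫ b ≫ pullback.snd g k) (by
        rw [pullback.condition_assoc]
        simp [bY, pullback.condition]))
      (pullback.snd f bY) (pullback.lift_snd _ _ _)
  have ha : FibDesc.IsUnivCohDescentMap (a ≫ q) := by
    rw [show a ≫ q = pullback.snd f bY from pullback.lift_snd _ _ _]
    exact isUnivCohDescentMap_of_isPullback (IsPullback.of_hasPullback f bY) hf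
  exact isCohDescentMap_of_univ _ (isUnivCohDescentMap_of_comp a q ha)

theorem isUnivCohDescentMap_pullback_map {X X' Y Y' S : TopCat.{u}} (pX : X' ⟶ S) (pY : Y' ⟶ S)
    (f : X ⟶ X') (g : Y ⟶ Y') (hf : FibDesc.IsUnivCohDescentMap f) (hg : FibDesc.IsUnivCohDescentMap g) :
    FibDesc.IsUnivCohDescentMap
      (pullback.map (f ≫ pX) (g ≫ pY) pX pY f g (𝟙 S) (Category.comp_id _) (Category.comp_id _)) := by
  let a : pullback (f ≫ pX) (g ≫ pY) ⟶ pullback pX (g ≫ pY) :=
    pullback.map _ _ _ _ f (𝟙 _) (𝟙 S) (Category.comp_id _) (by simp)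
  let b : pullback pX (g ≫ pY) ⟶ pullback pX pY :=
    pullback.map _ _ _ _ (𝟙 _) g (𝟙 S) (by simp) (Category.comp_id _)
  have e : pullback.map (f ≫ pX) (g ≫ pY) pX pY f g (𝟙 S) (Category.comp_id _) (Category.comp_id _) = a ≫ b := by
    refine pullback.hom_ext ?_ ?_ <;> simp [a, b]
  rw [e]
  have sa : IsPullback (pullback.fst (f ≫ pX) (g ≫ pY)) a f (pullback.fst pX (g ≫ pY)) := by
    refine IsPullback.of_bot ?_ (by simp [a]) (IsPullback.of_hasPullback pX (g ≫ pY))
    have ea : a ≫ pullback.snd pX (g ≫ pY) = pullback.snd (f ≫ pX) (g ≫ pY) := by simp [a]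
    rw [ea]
    exact IsPullback.of_hasPullback _ _
  have sb : IsPullback (pullback.snd pX (g ≫ pY)) b g (pullback.snd pX pY) := by
    refine IsPullback.of_bot ?_ (by simp [b]) (IsPullback.of_hasPullback pX pY).flip
    have eb : b ≫ pullback.fst pX pY = pullback.fst pX (g ≫ pY) := by simp [b]
    rw [eb]
    exact (IsPullback.of_hasPullback _ _).flip
  exact isUnivCohDescentMap_comp a b (isUnivCohDescentMap_of_isPullback sa hf)
    (isUnivCohDescentMap_of_isPullback sb hg)

end Groth.Agent.FibDescLib
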