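import Groth.Agent.FibDescLib.Reindex
import Groth.Agent.FibDescLib.Pull
import Groth.Agent.FibDescLib.UnitCritGen
import Groth.Agent.SSExist.Hyper
import Groth.Agent.SSExist.PullTop

/-!
Inverse image along a map of augmented families; the base change map; descent after inverse image.
-/

set_option autoImplicit false
set_option backward.isDefEq.respectTransparency false
set_option backward.isDefEq.respectTransparency.types false
set_option backward.defeqAttrib.useBackward true
set_option linter.style.haveILetI false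

universe u

open CategoryTheory CategoryTheory.Limits Opposite TopologicalSpace
open CategoryTheory.Pseudofunctor CategoryTheory.Pseudofunctor.CoGrothendieck

namespace Groth.Agent.FibDescLib

attribute [local instance] HasDerivedCategory.standard

variable {D : Type} [SmallCategory D]

/-- A map of augmented families over a map of bases. -/
structure AugMap (Y' Y : (WithInitial D)ᵒᵖ ⥤ TopCat.{u}) where
  /-- The levelwise map. -/
  τ : LMap Y' Y
  /-- The map of bases. -/
  g : base Y' ⟶ base Y
  w : ∀ n, τ.t n ≫ θ Y n = θ Y' n ≫ g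

namespace AugMap

variable {Y' Y : (WithInitial D)ᵒᵖ ⥤ TopCat.{u}} (M : AugMap Y' Y)

theorem preimage_eq (n : D) (U : Opens (base Y)) :
    (Opens.map (M.τ.t n)).obj ((Opens.map (θ Y n)).obj U) = (Opens.map (θ Y' n)).obj ((Opens.map M.g).obj U) := by
  show (Opens.map (M.τ.t n ≫ θ Y n)).obj U = (Opens.map (θ Y' n ≫ M.g)).obj U
  rw [M.w]

/-- The identification. -/
noncomputable abbrev eU (n : D) (U : Opens (base Y)) :
    pob n ((Opens.map (θ Y' n)).obj ((Opens.map M.g).obj U)) ⟶ M.τ.H.obj (pob n ((Opens.map (θ Y n)).obj U)) :=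
  (ph (𝟙 n) (by rw [spMap_id]; exact (M.preimage_eq n U).ge) :
    pob n ((Opens.map (θ Y' n)).obj ((Opens.map M.g).obj U)) ⟶
      pob n ((Opens.map (M.τ.t n)).obj ((Opens.map (θ Y n)).obj U)))

/-- The inverse identification. -/
noncomputable abbrev eU' (n : D) (U : Opens (base Y)) :
    M.τ.H.obj (pob n ((Opens.map (θ Y n)).obj U)) ⟶ pob n ((Opens.map (θ Y' n)).obj ((Opens.map M.g).obj U)) :=
  (ph (𝟙 n) (by rw [spMap_id]; exact (M.preimage_eq n U).le) :
    pob n ((Opens.map (M.τ.t n)).obj ((Opens.map (θ Y n)).obj U)) ⟶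
      pob n ((Opens.map (θ Y' n)).obj ((Opens.map M.g).obj U)))

theorem exists_pushHom (N : DS Y') (U : Opens (base Y)) :
    ∃ f : ((pushF Y).obj (M.τ.pushL.obj N)).obj.obj (op U) ⟶ ((pushF Y').obj N).obj.obj (op ((Opens.map M.g).obj U)),
      ∀ n, f ≫ pπ N (n := n) le_rfl = pπ (M.τ.pushL.obj N) (n := n) le_rfl ≫ N.obj.map (M.eU n U).op :=
  exists_plift (N := N) (U := (Opens.map M.g).obj U)
    (fun n => pπ (M.τ.pushL.obj N) (n := n) (U := U) le_rfl ≫ N.obj.map (M.eU n U).op) fun n m a h => by
    rw [← pπ_compat (M.τ.pushL.obj N) a U]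
    refine (Category.assoc _ _ _).trans (Eq.trans ?_ (Category.assoc _ _ _).symm)
    refine congrArg (pπ (M.τ.pushL.obj N) le_rfl ≫ ·) ?_
    show N.obj.map (M.τ.H.map (phθ a U)).op ≫ N.obj.map (M.eU m U).op = N.obj.map (M.eU n U).op ≫ N.obj.map (ph a h).op
    rw [← Functor.map_comp, ← Functor.map_comp, ← op_comp, ← op_comp]
    congr 2
    exact tot_hom_ext (by simp [LMap.H])

theorem exists_pushInv (N : DS Y') (U : Opens (base Y)) :
    ∃ f : ((pushF Y').obj N).obj.obj (op ((Opens.map M.g).obj U)) ⟶ ((pushF Y).obj (M.τ.pushL.obj N)).obj.obj (op U),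
      ∀ n, f ≫ pπ (M.τ.pushL.obj N) (n := n) le_rfl = pπ N (n := n) le_rfl ≫ N.obj.map (M.eU' n U).op :=
  exists_plift (N := M.τ.pushL.obj N) (U := U)
    (fun n => (pπ N (n := n) (U := (Opens.map M.g).obj U) le_rfl ≫ N.obj.map (M.eU' n U).op :
      _ ⟶ (M.τ.pushL.obj N).obj.obj (op (pob n ((Opens.map (θ Y n)).obj U))))) fun n m a h => by
    rw [← pπ_compat N a ((Opens.map M.g).obj U)]
    refine (Category.assoc _ _ _).trans (Eq.trans ?_ (Category.assoc _ _ _).symm)
    refine congrArg (pπ N le_rfl ≫ ·) ?_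
    show N.obj.map (phθ a _).op ≫ N.obj.map (M.eU' m U).op = N.obj.map (M.eU' n U).op ≫ N.obj.map (M.τ.H.map (ph a h)).op
    rw [← Functor.map_comp, ← Functor.map_comp, ← op_comp, ← op_comp]
    congr 2
    exact tot_hom_ext (by simp [LMap.H])

/-- The components of the comparison of direct images. -/
noncomputable def pushApp (N : DS Y') (U : Opens (base Y)) :
    ((pushF Y).obj (M.τ.pushL.obj N)).obj.obj (op U) ≅ ((pushF Y').obj N).obj.obj (op ((Opens.map M.g).obj U)) where
  hom := (M.exists_pushHom N U).choose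
  inv := (M.exists_pushInv N U).choose
  hom_inv_id := pπ_ext fun n => by
    rw [Category.assoc, (M.exists_pushInv N U).choose_spec, ← Category.assoc, (M.exists_pushHom N U).choose_spec,
      Category.assoc, Category.id_comp, ← Functor.map_comp, ← op_comp]
    have e : M.eU' n U ≫ M.eU n U = 𝟙 _ := tot_hom_ext (by simp [LMap.H])
    rw [e]
    exact (congrArg (_ ≫ ·) (N.obj.map_id _)).trans (Category.comp_id _)
  inv_hom_id := pπ_ext fun n => by
    rw [Category.assoc, (M.exists_pushHom N U).choose_spec, ← Category.assoc, (M.exists_pushInv N U).choose_spec,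
      Category.assoc, Category.id_comp, ← Functor.map_comp, ← op_comp]
    have e : M.eU n U ≫ M.eU' n U = 𝟙 _ := tot_hom_ext (by simp [LMap.H])
    rw [e]
    exact (congrArg (_ ≫ ·) (N.obj.map_id _)).trans (Category.comp_id _)

theorem pushApp_spec (N : DS Y') (U : Opens (base Y)) (n : D) :
    (M.pushApp N U).hom ≫ pπ N (n := n) le_rfl = pπ (M.τ.pushL.obj N) (n := n) le_rfl ≫ N.obj.map (M.eU n U).op :=
  (M.exists_pushHom N U).choose_spec n

/-- Direct images commute. -/
noncomputable def pushIso : M.τ.pushL ⋙ pushF Y ≅ pushF Y' ⋙ CohTop.push M.g :=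
  NatIso.ofComponents (fun N =>
    (fullyFaithfulSheafToPresheaf _ _).preimageIso (NatIso.ofComponents (fun U => M.pushApp N U.unop) fun {U U'} i =>
      pπ_ext fun n => by
        have h : (Opens.map (θ Y n)).obj U'.unop ≤ (Opens.map (spMap Y (𝟙 n))).obj ((Opens.map (θ Y n)).obj U.unop) := by
          rw [spMap_id]; exact ((Opens.map _).map i.unop).le
        have h' : (Opens.map (θ Y' n)).obj ((Opens.map M.g).obj U'.unop) ≤
            (Opens.map (spMap Y' (𝟙 n))).obj ((Opens.map (θ Y' n)).obj ((Opens.map M.g).obj U.unop)) := by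
          rw [spMap_id]; exact ((Opens.map _).map ((Opens.map M.g).map i.unop)).le
        show (((pushF Y).obj (M.τ.pushL.obj N)).obj.map i.unop.op ≫ (M.pushApp N U'.unop).hom) ≫ _ =
          ((M.pushApp N U.unop).hom ≫ ((pushF Y').obj N).obj.map ((Opens.map M.g).map i.unop).op) ≫ _
        refine (Category.assoc _ _ _).trans ((congrArg (_ ≫ ·) (M.pushApp_spec N U'.unop n)).trans ?_)
        refine (Category.assoc _ _ _).symm.trans ((congrArg (· ≫ _) (map_pπ (M.τ.pushL.obj N) i.unop h)).trans ?_)
        refine Eq.trans ?_ (Category.assoc _ _ _).symm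
        refine Eq.trans ?_ (congrArg (_ ≫ ·) (map_pπ N ((Opens.map M.g).map i.unop) h')).symm
        refine Eq.trans ?_ (Category.assoc _ _ _)
        refine Eq.trans ?_ (congrArg (· ≫ _) (M.pushApp_spec N U.unop n)).symm
        refine (Category.assoc _ _ _).trans (Eq.trans ?_ (Category.assoc _ _ _).symm)
        refine congrArg (pπ (M.τ.pushL.obj N) le_rfl ≫ ·) ?_
        show N.obj.map (M.τ.H.map (ph (𝟙 n) h)).op ≫ N.obj.map (M.eU n U'.unop).op = _
        rw [← Functor.map_comp, ← Functor.map_comp, ← op_comp, ← op_comp]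
        congr 2))
    fun {N N'} f => by
      apply Sheaf.hom_ext
      apply NatTrans.ext
      funext U
      refine pπ_ext fun n => ?_
      show (((pushF Y).map (M.τ.pushL.map f)).hom.app (op U.unop) ≫ (M.pushApp N' U.unop).hom) ≫ _ =
        ((M.pushApp N U.unop).hom ≫ ((pushF Y').map f).hom.app (op ((Opens.map M.g).obj U.unop))) ≫ _
      refine (Category.assoc _ _ _).trans ((congrArg (_ ≫ ·) (M.pushApp_spec N' U.unop n)).trans ?_)
      refine (Category.assoc _ _ _).symm.trans ((congrArg (· ≫ _) (pushMap_pπ (M.τ.pushL.map f))).trans ?_)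
      refine Eq.trans ?_ (Category.assoc _ _ _).symm
      refine Eq.trans ?_ (congrArg (_ ≫ ·) (pushMap_pπ f)).symm
      refine Eq.trans ?_ (Category.assoc _ _ _)
      refine Eq.trans ?_ (congrArg (· ≫ _) (M.pushApp_spec N U.unop n)).symm
      refine (Category.assoc _ _ _).trans (Eq.trans ?_ (Category.assoc _ _ _).symm)
      exact congrArg (_ ≫ ·) (f.hom.naturality (M.eU n U.unop).op).symm

/-- Inverse image on total sites. -/
noncomputable abbrev jP : DS Y ⥤ DS Y' :=
  M.τ.H.sheafPullback AddCommGrpCat.{u} (totTop Y) (totTop Y')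

/-- Its adjunction. -/
noncomputable abbrev ladj : M.jP ⊣ M.τ.pushL :=
  M.τ.H.sheafAdjunctionContinuous AddCommGrpCat.{u} (totTop Y) (totTop Y')

/-- Inverse image on bases. -/
noncomputable abbrev jB : BS Y ⥤ BS Y' := CohTop.pull M.g

/-- Its adjunction. -/
noncomputable abbrev badj : M.jB ⊣ CohTop.push M.g :=
  TopCat.Sheaf.pullbackPushforwardAdjunction AddCommGrpCat.{u} M.g

instance jP_additive : M.jP.Additive := M.ladj.left_adjoint_additive

instance jP_lex : PreservesFiniteLimits M.jP := preservesFiniteLimits_sheafPullback (totTop Y) (totTop Y') M.τ.H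

instance jP_rex : PreservesFiniteColimits M.jP := by
  have : PreservesColimitsOfSize.{0, 0} M.jP := M.ladj.leftAdjoint_preservesColimits
  exact PreservesColimitsOfSize.preservesFiniteColimits _

instance jB_additive : M.jB.Additive :=
  haveI : (CohTop.push M.g).Additive := { map_add := rfl }
  M.badj.left_adjoint_additive

instance jB_lex : PreservesFiniteLimits M.jB := SSExist.preservesFiniteLimits_pullTop M.g

instance jB_rex : PreservesFiniteColimits M.jB := by
  have : PreservesColimitsOfSize.{0, 0} M.jB := M.badj.leftAdjoint_preservesColimits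
  exact PreservesColimitsOfSize.preservesFiniteColimits _

/-- Inverse images commute. -/
noncomputable def pc : M.jB ⋙ pullF Y' ≅ pullF Y ⋙ M.jP :=
  (M.badj.comp (padj (Y := Y'))).leftAdjointUniq (((padj (Y := Y)).comp M.ladj).ofNatIsoRight M.pushIso)

/-- The base change map. -/
noncomputable def β (N : DS Y) : M.jB.obj ((pushF Y).obj N) ⟶ (pushF Y').obj (M.jP.obj N) :=
  (M.badj.homEquiv _ _).symm ((pushF Y).map (M.ladj.unit.app N) ≫ M.pushIso.hom.app (M.jP.obj N))

theorem β_natural {N N' : DS Y} (f : N ⟶ N') :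
    M.jB.map ((pushF Y).map f) ≫ M.β N' = M.β N ≫ (pushF Y').map (M.jP.map f) := by
  apply (M.badj.homEquiv _ _).injective
  unfold β
  rw [Adjunction.homEquiv_naturality_left, Adjunction.homEquiv_naturality_right, Equiv.apply_symm_apply,
    Equiv.apply_symm_apply, ← Category.assoc, ← Functor.map_comp, Category.assoc]
  refine Eq.trans ?_ (congrArg (_ ≫ ·) (M.pushIso.hom.naturality (M.jP.map f)))
  refine Eq.trans ?_ (Category.assoc _ _ _)
  refine congrArg (· ≫ _) ?_
  exact ((congrArg (pushF Y).map (M.ladj.unit.naturality f)).trans ((pushF Y).map_comp _ _))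

/-- The transpose commutes with inverse images. -/
theorem map_transpose {L : BS Y} {J : DS Y} (q : (pullF Y).obj L ⟶ J) :
    M.jB.map ((padj (Y := Y)).unit.app L ≫ (pushF Y).map q) ≫ M.β J =
      (padj (Y := Y')).unit.app (M.jB.obj L) ≫ (pushF Y').map (M.pc.hom.app L ≫ M.jP.map q) := by
  rw [Functor.map_comp, Category.assoc, M.β_natural q, ← Category.assoc, Functor.map_comp, ← Category.assoc]
  refine congrArg (· ≫ _) ?_
  apply (M.badj.homEquiv _ _).injective
  unfold β
  refine (M.badj.homEquiv_naturality_left _ _).trans ?_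
  refine (congrArg ((padj (Y := Y)).unit.app L ≫ ·) (Equiv.apply_symm_apply _ _)).trans ?_
  refine Eq.trans ?_ (M.badj.homEquiv_unit _ _ _).symm
  have h := Adjunction.unit_leftAdjointUniq_hom_app (M.badj.comp (padj (Y := Y')))
    (((padj (Y := Y)).comp M.ladj).ofNatIsoRight M.pushIso) L
  have u2 : (((padj (Y := Y)).comp M.ladj).ofNatIsoRight M.pushIso).unit.app L =
      ((padj (Y := Y)).comp M.ladj).unit.app L ≫ M.pushIso.hom.app (M.jP.obj ((pullF Y).obj L)) := by
    rw [← Adjunction.homEquiv_id, Adjunction.homEquiv_ofNatIsoRight_apply, Adjunction.homEquiv_id]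
    rfl
  refine Eq.trans ?_ (congrArg (M.badj.unit.app L ≫ ·) ((CohTop.push M.g).map_comp _ _)).symm
  refine Eq.trans ?_ (Category.assoc _ _ _)
  refine Eq.trans ?_ (congrArg (· ≫ _) (Adjunction.comp_unit_app M.badj (padj (Y := Y')) L))
  refine Eq.trans ?_ h.symm
  rw [u2]
  exact (Category.assoc _ _ _).symm.trans (congrArg (· ≫ _) (Adjunction.comp_unit_app (padj (Y := Y)) M.ladj L).symm)

set_option maxHeartbeats 1000000 in
theorem quasiIso_jB_transpose (h : FibDesc.IsCohDescentTop Y') [HasSheafify (totTop Y') AddCommGrpCat.{u}]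
    (hβ : ∀ N : DS Y, Injective N → IsIso (M.β N))
    (hac : ∀ N : DS Y, Injective N → TriH.IsAcyclicObj (pushF Y') (M.jP.obj N))
    (L : CochainComplex (BS Y) ℤ) (J : CochainComplex (DS Y) ℤ) (a : ℤ) [L.IsStrictlyGE a] [J.IsStrictlyGE a]
    [∀ i, Injective (J.X i)]
    (q : ((pullF Y).mapHomologicalComplex (ComplexShape.up ℤ)).obj L ⟶ J) [QuasiIso q] :
    QuasiIso ((M.jB.mapHomologicalComplex (ComplexShape.up ℤ)).map (cxTranspose (padj (Y := Y)) q)) := by
  obtain ⟨_, _, _, _, _, hlex, hFF⟩ := h
  let c := ComplexShape.up ℤ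
  let L' := (M.jB.mapHomologicalComplex c).obj L
  let J' := (M.jP.mapHomologicalComplex c).obj J
  haveI : CochainComplex.IsStrictlyGE L' a :=
    inferInstanceAs (CochainComplex.IsStrictlyGE ((M.jB.mapHomologicalComplex c).obj L) a)
  haveI : CochainComplex.IsStrictlyGE J' a :=
    inferInstanceAs (CochainComplex.IsStrictlyGE ((M.jP.mapHomologicalComplex c).obj J) a)
  let pcc : ((pullF Y').mapHomologicalComplex c).obj L' ⟶
      (M.jP.mapHomologicalComplex c).obj (((pullF Y).mapHomologicalComplex c).obj L) :=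
    { f := fun i => M.pc.hom.app (L.X i)
      comm' := fun i j _ => (M.pc.hom.naturality (L.d i j)).symm }
  have : ∀ i, IsIso (pcc.f i) := fun i => inferInstanceAs (IsIso (M.pc.hom.app (L.X i)))
  have : IsIso pcc := HomologicalComplex.Hom.isIso_of_components pcc
  let q' : ((pullF Y').mapHomologicalComplex c).obj L' ⟶ J' := pcc ≫ (M.jP.mapHomologicalComplex c).map q
  have : QuasiIso ((M.jP.mapHomologicalComplex c).map q) := inferInstance
  have : QuasiIso q' := inferInstanceAs (QuasiIso (pcc ≫ (M.jP.mapHomologicalComplex c).map q))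
  obtain ⟨I, r, _, hI, _⟩ := exists_injective_resolution J' a
  have : QuasiIso (q' ≫ r) := inferInstance
  have hq := quasiIso_transpose_gen (padj (Y := Y')) hFF a (q' ≫ r)
  haveI : PreservesFiniteLimits (pushF Y') := by
    have := (padj (Y := Y')).rightAdjoint_preservesLimits
    infer_instance
  have hr : QuasiIso (((pushF Y').mapHomologicalComplex c).map r) :=
    (HomotopyCategory.quotient_map_mem_quasiIso_iff _).1
      (TriH.quasiIso_map_of_acyclic (pushF Y') r a a (fun n => hac (J.X n) inferInstance)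
        (fun n => TriH.isAcyclicObj_of_injective (pushF Y') (I.X n)))
  have hq' : QuasiIso (cxTranspose (padj (Y := Y')) q') := by
    have e : cxTranspose (padj (Y := Y')) (q' ≫ r) =
        cxTranspose (padj (Y := Y')) q' ≫ ((pushF Y').mapHomologicalComplex c).map r := by
      unfold cxTranspose
      rw [Functor.map_comp, Category.assoc]
    rw [e] at hq
    exact (quasiIso_iff_comp_right _ (((pushF Y').mapHomologicalComplex c).map r)).1 hq
  let ps : (M.jB.mapHomologicalComplex c).obj (((pushF Y).mapHomologicalComplex c).obj J) ⟶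
      ((pushF Y').mapHomologicalComplex c).obj J' :=
    { f := fun i => M.β (J.X i)
      comm' := fun i j _ => (M.β_natural (J.d i j)).symm }
  have : ∀ i, IsIso (ps.f i) := fun i => hβ (J.X i) inferInstance
  have : IsIso ps := HomologicalComplex.Hom.isIso_of_components ps
  have e : (M.jB.mapHomologicalComplex c).map (cxTranspose (padj (Y := Y)) q) ≫ ps =
      cxTranspose (padj (Y := Y')) q' := by
    apply HomologicalComplex.hom_ext
    intro i
    exact M.map_transpose (q.f i)
  exact (quasiIso_iff_comp_right _ ps).1 (e ▸ hq')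

end AugMap

end Groth.Agent.FibDescLib
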