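import Groth.Agent.FibDescLib.Pull

/-!
Existence of morphisms out of a restriction of the inverse image.
-/

set_option autoImplicit false
set_option backward.isDefEq.respectTransparency false
set_option backward.isDefEq.respectTransparency.types false
set_option backward.defeqAttrib.useBackward true
set_option linter.style.haveILetI false

universe u

open CategoryTheory CategoryTheory.Limits Opposite TopologicalSpace

namespace Groth.Agent.FibDescLib

variable {Ix : Type} [SmallCategory Ix] {Y : (WithInitial Ix)ᵒᵖ ⥤ TopCat.{u}} (K : BS Y)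

/-- A compatible family of maps gives a morphism out of the restriction of the inverse image. -/
theorem exists_restr_pull {E : Type u} [SmallCategory E] (JE : GrothendieckTopology E) (H : E ⥤ Tot Y)
    [H.IsContinuous JE (totTop Y)] [H.IsCocontinuous JE (totTop Y)] (P : Sheaf JE AddCommGrpCat.{u})
    (Φ : ∀ (c : E) (m : Ix) (U : Opens (base Y)),
      (H.obj c ⟶ pob m ((Opens.map (θ Y m)).obj U)) → (K.obj.obj (op U) ⟶ P.obj.obj (op c)))
    (hnat : ∀ c c' m U (h : c' ⟶ c) (g : H.obj c ⟶ pob m ((Opens.map (θ Y m)).obj U)),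
      Φ c' m U (H.map h ≫ g) = Φ c m U g ≫ P.obj.map h.op)
    (hcompat : ∀ c n m U (a : n ⟶ m) (g : H.obj c ⟶ pob m ((Opens.map (θ Y m)).obj U)),
      Φ c n U (g ≫ phθ a U) = Φ c m U g)
    (hres : ∀ c m (U U' : Opens (base Y)) (i : U' ⟶ U)
      (h : (Opens.map (θ Y m)).obj U' ≤ (Opens.map (spMap Y (𝟙 m))).obj ((Opens.map (θ Y m)).obj U))
      (g : H.obj c ⟶ pob m ((Opens.map (θ Y m)).obj U')),
      K.obj.map i.op ≫ Φ c m U' g = Φ c m U (g ≫ ph (𝟙 m) h)) :
    ∃ f : (H.sheafPushforwardContinuous AddCommGrpCat.{u} JE (totTop Y)).obj ((pullF Y).obj K) ⟶ P,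
      ∀ c m U (g : H.obj c ⟶ pob m ((Opens.map (θ Y m)).obj U)),
        pu K m U ≫ ((pullF Y).obj K).obj.map g.op ≫ f.hom.app (op c) = Φ c m U g := by
  have hW : ∀ m U, ∃ f : K.obj.obj (op U) ⟶
      ((H.sheafPushforwardCocontinuous AddCommGrpCat.{u} JE (totTop Y)).obj P).obj.obj
        (op (pob m ((Opens.map (θ Y m)).obj U))), ∀ c g, f ≫ rπ H P.obj g = Φ c m U g :=
    fun m U => exists_rlift (G := H) (P := P.obj) (fun c g => Φ c m U g) fun c c' h g => hnat c c' m U h g
  choose fW fW_spec using hW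
  have fW_compat : ∀ U {n m : Ix} (a : n ⟶ m), fW m U = fW n U ≫
      ((H.sheafPushforwardCocontinuous AddCommGrpCat.{u} JE (totTop Y)).obj P).obj.map (phθ a U).op := by
    intro U n m a
    refine rπ_ext (G := H) fun c g => ?_
    refine Eq.trans ?_ ((congrArg (fW n U ≫ ·) (map_rπ (G := H) _ (phθ a U) g)).symm.trans (Category.assoc _ _ _).symm)
    exact (fW_spec m U c g).trans ((hcompat c n m U a g).symm.trans (fW_spec n U c _).symm)
  have hU : ∀ U, ∃ f : K.obj.obj (op U) ⟶
      ((pushF Y).obj ((H.sheafPushforwardCocontinuous AddCommGrpCat.{u} JE (totTop Y)).obj P)).obj.obj (op U),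
      ∀ m, f ≫ pπ _ (n := m) le_rfl = fW m U :=
    fun U => exists_plift (fun m => fW m U) (fun _ _ a _ => fW_compat U a)
  choose fU fU_spec using hU
  let fam : K ⟶ (pushF Y).obj ((H.sheafPushforwardCocontinuous AddCommGrpCat.{u} JE (totTop Y)).obj P) :=
    ⟨{ app := fun U => fU U.unop
       naturality := fun U U' i => pπ_ext fun m => by
         have h : (Opens.map (θ Y m)).obj U'.unop ≤
             (Opens.map (spMap Y (𝟙 m))).obj ((Opens.map (θ Y m)).obj U.unop) := by
           rw [spMap_id]; exact ((Opens.map _).map i.unop).le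
         show (K.obj.map i.unop.op ≫ fU U'.unop) ≫ _ = (fU U.unop ≫ _) ≫ _
         refine (Category.assoc _ _ _).trans ((congrArg (K.obj.map i.unop.op ≫ ·) (fU_spec U'.unop m)).trans ?_)
         refine Eq.trans ?_ (Category.assoc _ _ _).symm
         refine Eq.trans ?_ (congrArg (fU U.unop ≫ ·) (map_pπ _ i.unop h)).symm
         refine Eq.trans ?_ (Category.assoc _ _ _)
         refine Eq.trans ?_ (congrArg (· ≫ _) (fU_spec U.unop m)).symm
         refine rπ_ext (G := H) fun c g => ?_
         refine (Category.assoc _ _ _).trans ((congrArg (K.obj.map i.unop.op ≫ ·) (fW_spec _ _ c g)).trans ?_)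
         refine Eq.trans ?_ (Category.assoc _ _ _).symm
         refine Eq.trans ?_ (congrArg (fW m U.unop ≫ ·) (map_rπ (G := H) _ (ph (𝟙 m) h) g)).symm
         refine Eq.trans ?_ (fW_spec _ _ c _).symm
         exact hres c m _ _ i.unop h g }⟩
  refine ⟨((H.sheafAdjunctionCocontinuous AddCommGrpCat.{u} JE (totTop Y)).homEquiv _ _).symm
    (((padj (Y := Y)).homEquiv K _).symm fam), fun c m U g => ?_⟩
  have h1 := homEquiv_rπ (G := H) JE (totTop Y)
    (((H.sheafAdjunctionCocontinuous AddCommGrpCat.{u} JE (totTop Y)).homEquiv _ _).symm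
      (((padj (Y := Y)).homEquiv K _).symm fam)) g
  rw [Equiv.apply_symm_apply] at h1
  refine (congrArg (pu K m U ≫ ·) h1.symm).trans ?_
  refine (Category.assoc _ _ _).symm.trans ((congrArg (· ≫ _) (symm_pπ fam m U)).trans ?_)
  refine (Category.assoc _ _ _).trans ?_
  refine (Category.assoc _ _ _).symm.trans ((congrArg (· ≫ rπ H _ g) (fU_spec U m)).trans ?_)
  exact fW_spec m U c g

end Groth.Agent.FibDescLib
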