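import Groth.Agent.FibDescLib.Transf
import Groth.Agent.FibDescLib.Criterion

/-!
An augmented simplicial space with a section and an extra degeneracy is of cohomological descent.
-/

set_option autoImplicit false
set_option backward.isDefEq.respectTransparency false
set_option backward.isDefEq.respectTransparency.types false
set_option backward.defeqAttrib.useBackward true
set_option linter.style.haveILetI false

universe u

open CategoryTheory CategoryTheory.Limits Opposite TopologicalSpace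
open CategoryTheory.Pseudofunctor CategoryTheory.Pseudofunctor.CoGrothendieck

namespace Groth.Agent.FibDescLib

section Tools

variable {C : Type u} [SmallCategory C] (M : Cᵒᵖ ⥤ AddCommGrpCat.{u})

theorem map3 {x y z : C} (f : y ⟶ x) (g : z ⟶ y) {Z : AddCommGrpCat.{u}} (p : Z ⟶ M.obj (op x)) :
    (p ≫ M.map f.op) ≫ M.map g.op = p ≫ M.map (g ≫ f).op := by
  rw [Category.assoc, ← M.map_comp, op_comp]

theorem map_congr {x y : C} {f f' : y ⟶ x} (h : f = f') : M.map f.op = M.map f'.op := by rw [h]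

end Tools

attribute [local instance] HasDerivedCategory.standard

namespace Split

variable {Y : (WithInitial SimplexCategory)ᵒᵖ ⥤ TopCat.{u}} (D : Split Y) (K : BS Y)

theorem ε_le {c : Dec D} {m : SimplexCategory} {U : Opens (base Y)}
    (g : D.B.obj c ⟶ pob m ((Opens.map (θ Y m)).obj U)) :
    fib (D.Φ.obj c) ≤ (Opens.map (spMap Y (𝟙 c.base.unop))).obj ((Opens.map (θ Y c.base.unop)).obj U) := by
  refine le_map_id _ (le_trans ((Opens.map (D.sh c.base.unop)).map (homOfLE (hom_le g))).le (le_of_eq ?_))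
  show (Opens.map _).obj ((Opens.map _).obj ((Opens.map _).obj U)) = _
  exact (congrArg (Opens.map (D.sh c.base.unop)).obj (map_map_obj (θ_comp Y g.base.unop) U)).trans
    (map_map_obj (D.sh_θ c.base.unop) U)

/-- The identification in degree `n`. -/
noncomputable abbrev lε {c : Dec D} {m : SimplexCategory} {U : Opens (base Y)}
    (g : D.B.obj c ⟶ pob m ((Opens.map (θ Y m)).obj U)) :
    D.Φ.obj c ⟶ pob c.base.unop ((Opens.map (θ Y c.base.unop)).obj U) :=
  ph (𝟙 _) (D.ε_le g)

/-- The auxiliary sheaf. -/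
noncomputable abbrev WK : DS Y :=
  (D.B.sheafPushforwardCocontinuous AddCommGrpCat.{u} D.decTot (totTop Y)).obj
    ((D.Φ.sheafPushforwardContinuous AddCommGrpCat.{u} D.decTot (totTop Y)).obj ((pullF Y).obj K))

theorem exists_lift_W (m : SimplexCategory) (U : Opens (base Y)) :
    ∃ f : K.obj.obj (op U) ⟶ (D.WK K).obj.obj (op (pob m ((Opens.map (θ Y m)).obj U))),
      ∀ c (g : D.B.obj c ⟶ pob m ((Opens.map (θ Y m)).obj U)),
        f ≫ rπ D.B _ g = pu K c.base.unop U ≫ ((pullF Y).obj K).obj.map (D.lε g).op :=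
  exists_rlift (G := D.B) (P := ((D.Φ.sheafPushforwardContinuous AddCommGrpCat.{u} D.decTot (totTop Y)).obj ((pullF Y).obj K)).obj)
    (fun c g => pu K c.base.unop U ≫ ((pullF Y).obj K).obj.map (D.lε g).op) fun c c' h g => by
      show pu K c'.base.unop U ≫ _ =
        (pu K c.base.unop U ≫ ((pullF Y).obj K).obj.map (D.lε g).op) ≫ ((pullF Y).obj K).obj.map (D.Φ.map h).op
      rw [map3, ← pu_compat K h.base.unop U, Category.assoc, ← Functor.map_comp, ← op_comp]
      congr 2

/-- The lift defining the inverse of `α`. -/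
noncomputable def fW (m : SimplexCategory) (U : Opens (base Y)) :
    K.obj.obj (op U) ⟶ (D.WK K).obj.obj (op (pob m ((Opens.map (θ Y m)).obj U))) :=
  (D.exists_lift_W K m U).choose

theorem fW_spec {m : SimplexCategory} {U : Opens (base Y)} (c : Dec D)
    (g : D.B.obj c ⟶ pob m ((Opens.map (θ Y m)).obj U)) :
    D.fW K m U ≫ rπ D.B _ g = pu K c.base.unop U ≫ ((pullF Y).obj K).obj.map (D.lε g).op :=
  (D.exists_lift_W K m U).choose_spec c g

theorem fW_compat (U : Opens (base Y)) {n m : SimplexCategory} (a : n ⟶ m) :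
    D.fW K m U = D.fW K n U ≫ (D.WK K).obj.map (phθ a U).op := by
  refine rπ_ext (G := D.B) fun c g => ?_
  refine Eq.trans ?_ ((congrArg (D.fW K n U ≫ ·) (map_rπ (G := D.B) _ (phθ a U) g)).symm.trans (Category.assoc _ _ _).symm)
  rw [fW_spec, fW_spec]

/-- The lift to the direct image. -/
noncomputable def fU (U : Opens (base Y)) : K.obj.obj (op U) ⟶ ((pushF Y).obj (D.WK K)).obj.obj (op U) :=
  (exists_plift (fun m => D.fW K m U) (fun _ _ a _ => D.fW_compat K U a)).choose

theorem fU_spec (U : Opens (base Y)) (m : SimplexCategory) : D.fU K U ≫ pπ _ (n := m) le_rfl = D.fW K m U :=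
  (exists_plift (fun m => D.fW K m U) (fun _ _ a _ => D.fW_compat K U a)).choose_spec m

/-- The family defining the inverse of `α`. -/
noncomputable def fam : K ⟶ (pushF Y).obj (D.WK K) :=
  ⟨{ app := fun U => D.fU K U.unop
     naturality := fun U U' i => pπ_ext fun m => by
       have h : (Opens.map (θ Y m)).obj U'.unop ≤
           (Opens.map (spMap Y (𝟙 m))).obj ((Opens.map (θ Y m)).obj U.unop) :=
         le_map_id _ ((Opens.map _).map i.unop).le
       show (K.obj.map i.unop.op ≫ D.fU K U'.unop) ≫ _ =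
         (D.fU K U.unop ≫ ((pushF Y).obj (D.WK K)).obj.map i.unop.op) ≫ _
       refine (Category.assoc _ _ _).trans ((congrArg (K.obj.map i.unop.op ≫ ·) (D.fU_spec K U'.unop m)).trans ?_)
       refine Eq.trans ?_ (Category.assoc _ _ _).symm
       refine Eq.trans ?_ (congrArg (D.fU K U.unop ≫ ·) (map_pπ _ i.unop h)).symm
       refine Eq.trans ?_ (Category.assoc _ _ _)
       refine Eq.trans ?_ (congrArg (· ≫ _) (D.fU_spec K U.unop m)).symm
       refine rπ_ext (G := D.B) fun c g => ?_
       refine (Category.assoc _ _ _).trans ((congrArg (K.obj.map i.unop.op ≫ ·) (D.fW_spec K c g)).trans ?_)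
       refine Eq.trans ?_ (Category.assoc _ _ _).symm
       refine Eq.trans ?_ (congrArg (D.fW K m U.unop ≫ ·) (map_rπ (G := D.B) _ (ph (𝟙 m) h) g)).symm
       refine Eq.trans ?_ (D.fW_spec K c _).symm
       have h' : (Opens.map (θ Y c.base.unop)).obj U'.unop ≤
           (Opens.map (spMap Y (𝟙 _))).obj ((Opens.map (θ Y c.base.unop)).obj U.unop) :=
         le_map_id _ ((Opens.map _).map i.unop).le
       refine (Category.assoc _ _ _).symm.trans ((congrArg (· ≫ _) (pu_map i.unop h')).trans ?_)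
       rw [map3]
       congr 2 }⟩

/-- The inverse of `α`, before extension along the extra degeneracy. -/
noncomputable def e : D.ρ.obj ((pullF Y).obj K) ⟶
    (D.Φ.sheafPushforwardContinuous AddCommGrpCat.{u} D.decTot (totTop Y)).obj ((pullF Y).obj K) :=
  ((D.B.sheafAdjunctionCocontinuous AddCommGrpCat.{u} D.decTot (totTop Y)).homEquiv _ _).symm
    (((padj (Y := Y)).homEquiv K (D.WK K)).symm (D.fam K))

theorem e_spec {c : Dec D} {m : SimplexCategory} {U : Opens (base Y)}
    (g : D.B.obj c ⟶ pob m ((Opens.map (θ Y m)).obj U)) :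
    pu K m U ≫ ((pullF Y).obj K).obj.map g.op ≫ (D.e K).hom.app (op c) =
      pu K c.base.unop U ≫ ((pullF Y).obj K).obj.map (D.lε g).op := by
  have h1 := homEquiv_rπ (G := D.B) D.decTot (totTop Y) (D.e K) g
  have h2 : (D.B.sheafAdjunctionCocontinuous AddCommGrpCat.{u} D.decTot (totTop Y)).homEquiv _ _ (D.e K) =
      ((padj (Y := Y)).homEquiv K (D.WK K)).symm (D.fam K) := Equiv.apply_symm_apply _ _
  rw [h2] at h1
  refine (congrArg (pu K m U ≫ ·) h1.symm).trans ?_
  refine (Category.assoc _ _ _).symm.trans ((congrArg (· ≫ _) (symm_pπ (D.fam K) m U)).trans ?_)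
  refine (Category.assoc _ _ _).trans ?_
  refine (Category.assoc _ _ _).symm.trans ((congrArg (· ≫ rπ D.B _ g) (D.fU_spec K U m)).trans ?_)
  exact D.fW_spec K c g

/-- The inverse of `α` on inverse images. -/
noncomputable def ε : D.T.obj ((pullF Y).obj K) ⟶ (pullF Y).obj K :=
  (D.Φadj.homEquiv _ _).symm (D.e K)

theorem eta_ε (c : Dec D) :
    D.eta ((pullF Y).obj K) c ≫ (D.ε K).hom.app (op (D.Φ.obj c)) = (D.e K).hom.app (op c) := by
  have h : D.Φadj.homEquiv _ _ (D.ε K) = D.e K := Equiv.apply_symm_apply _ _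
  rw [Adjunction.homEquiv_unit] at h
  exact congrArg (fun k => k.hom.app (op c)) h

theorem α_ε : D.α.app ((pullF Y).obj K) ≫ D.ε K = 𝟙 _ := by
  refine pull_ext fun n U => ?_
  let x := pob n ((Opens.map (θ Y n)).obj U)
  have h1 : (D.T.obj ((pullF Y).obj K)).obj.map (D.lα x).op ≫ (D.ε K).hom.app (op x) =
      (D.ε K).hom.app (op (D.Φ.obj (D.cα x))) ≫ ((pullF Y).obj K).obj.map (D.lα x).op :=
    (D.ε K).hom.naturality (D.lα x).op
  have h2 : (D.α.app ((pullF Y).obj K) ≫ D.ε K).hom.app (op x) =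
      ((pullF Y).obj K).obj.map (D.kα x).op ≫ (D.e K).hom.app (op (D.cα x)) ≫
        ((pullF Y).obj K).obj.map (D.lα x).op := by
    show (_ ≫ _ ≫ _) ≫ _ = _
    rw [← D.eta_ε K]
    refine (Category.assoc _ _ _).trans (congrArg (((pullF Y).obj K).obj.map (D.kα x).op ≫ ·) ?_)
    refine (Category.assoc _ _ _).trans (Eq.trans ?_ (Category.assoc _ _ _).symm)
    exact congrArg (D.eta _ _ ≫ ·) h1
  refine (congrArg (pu K n U ≫ ·) h2).trans ?_
  refine Eq.trans ?_ (Category.comp_id _).symm
  refine (congrArg (pu K n U ≫ ·) (Category.assoc _ _ _).symm).trans ?_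
  refine (Category.assoc _ _ _).symm.trans ?_
  refine (congrArg (· ≫ ((pullF Y).obj K).obj.map (D.lα x).op) (D.e_spec K (D.kα x))).trans ?_
  rw [map3]
  refine (congrArg (pu K n U ≫ ·) (map_congr _ (tot_hom_ext ?_ : D.lα x ≫ D.lε (D.kα x) = 𝟙 _))).trans ?_
  · simp [x, Φ]
  · exact (congrArg (pu K n U ≫ ·) (((pullF Y).obj K).obj.map_id _)).trans (Category.comp_id _)

theorem eta_chain (M : DS Y) {c c' : Dec D} (r : c ⟶ c') {x y z : Tot Y} (l : z ⟶ D.Φ.obj c) (l' : y ⟶ z)
    {Z : AddCommGrpCat.{u}} (p : Z ⟶ M.obj.obj (op x)) (k : D.B.obj c ⟶ x) (p' : Z ⟶ M.obj.obj (op (D.B.obj c')))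
    (h : p ≫ M.obj.map k.op = p' ≫ M.obj.map (D.B.map r).op) :
    p ≫ (M.obj.map k.op ≫ D.eta M c ≫ (D.T.obj M).obj.map l.op) ≫ (D.T.obj M).obj.map l'.op =
      p' ≫ D.eta M c' ≫ (D.T.obj M).obj.map ((l' ≫ l) ≫ D.Φ.map r).op := by
  simp only [op_comp, Functor.map_comp, Category.assoc]
  refine (Category.assoc _ _ _).symm.trans ((congrArg (· ≫ _) h).trans ((Category.assoc _ _ _).trans ?_))
  refine congrArg (p' ≫ ·) ?_
  exact (Category.assoc _ _ _).symm.trans
    ((congrArg (· ≫ _) (D.eta_map M r)).trans (Category.assoc _ _ _))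

theorem ε_α : D.ε K ≫ D.α.app ((pullF Y).obj K) = 𝟙 _ := by
  refine D.T_ext fun c => ?_
  have key : D.e K ≫ (D.Φ.sheafPushforwardContinuous AddCommGrpCat.{u} D.decTot (totTop Y)).map
      (D.α.app ((pullF Y).obj K)) = D.Φadj.unit.app (D.ρ.obj ((pullF Y).obj K)) := by
    refine restr_pull_ext D.decTot D.B fun c U g hg => ?_
    let M := (pullF Y).obj K
    let n := c.base.unop
    let z := pob n ((Opens.map (θ Y n)).obj U)
    show pu K (D.σ.obj n) U ≫ M.obj.map g.op ≫ (D.e K).hom.app (op c) ≫ (D.α.app M).hom.app (op (D.Φ.obj c)) =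
      pu K (D.σ.obj n) U ≫ M.obj.map g.op ≫ D.eta M c
    have hnat : M.obj.map (D.lε g).op ≫ (D.α.app M).hom.app (op (D.Φ.obj c)) =
        (D.α.app M).hom.app (op z) ≫ (D.T.obj M).obj.map (D.lε g).op :=
      (D.α.app M).hom.naturality (D.lε g).op
    refine (congrArg (pu K (D.σ.obj n) U ≫ ·) (Category.assoc _ _ _).symm).trans ((Category.assoc _ _ _).symm.trans
      ((congrArg (· ≫ (D.α.app M).hom.app (op (D.Φ.obj c))) (D.e_spec K g)).trans ((Category.assoc _ _ _).trans
        ((congrArg (pu K n U ≫ ·) hnat).trans ?_))))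
    let c' : Dec D := D.dob n ((Opens.map (θ Y (D.σ.obj n))).obj U)
    let q : c ⟶ c' := D.dh (𝟙 n) (by
      rw [D.σ.map_id]
      exact le_map_id _ (le_trans (hom_le g) (le_of_eq (map_map_obj (θ_comp Y g.base.unop) U))))
    let r : D.cα z ⟶ c' := D.dh (𝟙 n) (by
      rw [D.σ.map_id]
      exact le_map_id _ (le_of_eq (map_map_obj (θ_comp Y (D.ι.app n)) U)))
    have s1 : pu K n U ≫ M.obj.map (D.kα z).op = pu K (D.σ.obj n) U ≫ M.obj.map (D.B.map r).op := by
      rw [← pu_compat K (D.ι.app n) U, Category.assoc, ← Functor.map_comp, ← op_comp]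
      congr 3
      exact tot_hom_ext (by simp [r, z]; rw [D.σ.map_id]; exact (Category.id_comp _).symm)
    have s2 : M.obj.map g.op = M.obj.map (D.B.map q).op := map_congr _ (tot_hom_ext (by
      apply Quiver.Hom.unop_inj
      rw [hg]
      simp [q]
      exact (D.σ.map_id _).symm))
    refine (D.eta_chain M r (D.lα z) (D.lε g) (pu K n U) (D.kα z) (pu K (D.σ.obj n) U) s1).trans ?_
    refine Eq.trans ?_ (congrArg (pu K (D.σ.obj n) U ≫ ·) ((congrArg (· ≫ D.eta M c) s2).trans (D.eta_map M q))).symm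
    refine congrArg (fun t => pu K (D.σ.obj n) U ≫ D.eta M c' ≫ t) (map_congr _ (tot_hom_ext ?_))
    simp [q, r, z, Φ]
  have := congrArg (fun k => k.hom.app (op c)) key
  refine Eq.trans ?_ (Category.comp_id _).symm
  refine Eq.trans ?_ this
  refine (Category.assoc _ _ _).symm.trans ?_
  exact congrArg (· ≫ _) (D.eta_ε K c)

theorem isIso_α : IsIso (D.α.app ((pullF Y).obj K)) := ⟨D.ε K, D.α_ε K, D.ε_α K⟩

/-- The constant vertex. -/
noncomputable abbrev tn (n : SimplexCategory) : n ⟶ SimplexCategory.mk 0 :=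
  SimplexCategory.const n (SimplexCategory.mk 0) 0

theorem tn_comp {n m : SimplexCategory} (a : n ⟶ m) : a ≫ tn m = tn n :=
  SimplexCategory.isTerminalZero.hom_ext _ _

/-- The sections in all degrees. -/
noncomputable abbrev secn (n : SimplexCategory) : base Y ⟶ sp Y n := D.sec ≫ spMap Y (tn n)

theorem secn_nat {n m : SimplexCategory} (a : n ⟶ m) : D.secn m ≫ spMap Y a = D.secn n := by
  rw [secn, secn, Category.assoc, ← spMap_comp, tn_comp]

theorem secn_θ (n : SimplexCategory) : D.secn n ≫ θ Y n = 𝟙 _ := by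
  rw [secn, Category.assoc, θ_comp, D.sec_θ]

theorem secn_zero : D.secn (SimplexCategory.mk 0) = D.sec := by
  rw [secn, show tn (SimplexCategory.mk 0) = 𝟙 _ from SimplexCategory.isTerminalZero.hom_ext _ _, spMap_id,
    Category.comp_id]

/-- Pulling back along the sections. -/
noncomputable def Sn : Tot Y ⥤ Opens (base Y) where
  obj x := (Opens.map (D.secn x.base.unop)).obj (fib x)
  map {x x'} g := homOfLE (by
    refine le_trans ((Opens.map _).map (homOfLE (hom_le g))).le (le_of_eq ?_)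
    rw [map_map_obj (D.secn_nat g.base.unop)])
  map_id _ := Subsingleton.elim _ _
  map_comp _ _ := Subsingleton.elim _ _

instance Sn_isContinuous : D.Sn.IsContinuous (totTop Y) (Opens.grothendieckTopology (base Y)) := by
  rw [Groth.Agent.FibSiteLib.isContinuous_iff (isPreFibSite_part (Y := Y))]
  intro i
  have e : Pseudofunctor.CoGrothendieck.ι (FibDesc.part (FibDesc.topAug Y)) i ⋙ D.Sn ≅ Opens.map (D.secn i.unop) :=
    NatIso.ofComponents (fun _ => Iso.refl _) fun _ => opens_thin _ _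
  have : (Opens.map (D.secn i.unop)).IsContinuous
      (FibDesc.partTop (FibDesc.topAug Y) (FibDesc.topAugTop Y) i) (Opens.grothendieckTopology (base Y)) :=
    inferInstanceAs ((Opens.map (D.secn i.unop)).IsContinuous (Opens.grothendieckTopology (sp Y i.unop))
      (Opens.grothendieckTopology (base Y)))
  exact Functor.isContinuous_of_iso e.symm _ _

/-- The sheaf of sections along the sections. -/
noncomputable abbrev NK : DS Y :=
  (D.Sn.sheafPushforwardContinuous AddCommGrpCat.{u} (totTop Y) (Opens.grothendieckTopology (base Y))).obj K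

theorem secn_le (n : SimplexCategory) (U : Opens (base Y)) :
    D.Sn.obj (pob n ((Opens.map (θ Y n)).obj U)) ≤ U := by
  show (Opens.map _).obj ((Opens.map _).obj U) ≤ U
  rw [map_map_obj (D.secn_θ n)]
  exact le_rfl

theorem exists_fN (U : Opens (base Y)) :
    ∃ f : K.obj.obj (op U) ⟶ ((pushF Y).obj (D.NK K)).obj.obj (op U),
      ∀ n, f ≫ pπ (D.NK K) (n := n) le_rfl = K.obj.map (homOfLE (D.secn_le n U)).op :=
  exists_plift (N := D.NK K) (U := U) (fun n => K.obj.map (homOfLE (D.secn_le n U)).op) fun n m a h => by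
    show K.obj.map _ = K.obj.map _ ≫ K.obj.map _
    rw [← Functor.map_comp]
    congr 1

/-- The map to the sheaf of sections. -/
noncomputable def famN : K ⟶ (pushF Y).obj (D.NK K) :=
  ⟨{ app := fun U => (D.exists_fN K U.unop).choose
     naturality := fun U U' i => pπ_ext fun m => by
       have h : (Opens.map (θ Y m)).obj U'.unop ≤
           (Opens.map (spMap Y (𝟙 m))).obj ((Opens.map (θ Y m)).obj U.unop) :=
         le_map_id _ ((Opens.map _).map i.unop).le
       refine (Category.assoc _ _ _).trans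
         ((congrArg (K.obj.map i ≫ ·) ((D.exists_fN K U'.unop).choose_spec m)).trans ?_)
       refine Eq.trans ?_ (Category.assoc _ _ _).symm
       refine Eq.trans ?_ (congrArg (_ ≫ ·) (map_pπ _ i.unop h)).symm
       refine Eq.trans ?_ (Category.assoc _ _ _)
       refine Eq.trans ?_ (congrArg (· ≫ _) ((D.exists_fN K U.unop).choose_spec m)).symm
       show _ = K.obj.map _ ≫ K.obj.map _
       exact (K.obj.map_comp i _).symm.trans ((congrArg _ (Subsingleton.elim _ _)).trans (K.obj.map_comp _ _)) }⟩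

/-- The comparison with the sheaf of sections. -/
noncomputable def Γ : (pullF Y).obj K ⟶ D.NK K := ((padj (Y := Y)).homEquiv K (D.NK K)).symm (D.famN K)

theorem pu_Γ (n : SimplexCategory) (U : Opens (base Y)) :
    pu K n U ≫ (D.Γ K).hom.app (op (pob n ((Opens.map (θ Y n)).obj U))) =
      K.obj.map (homOfLE (D.secn_le n U)).op :=
  (symm_pπ (D.famN K) n U).trans ((D.exists_fN K U).choose_spec n)

theorem sec_le_Sn (W : Opens (sp Y (SimplexCategory.mk 0))) :
    (Opens.map D.sec).obj W ≤ D.Sn.obj (pob (SimplexCategory.mk 0) W) := by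
  show _ ≤ (Opens.map _).obj W
  rw [D.secn_zero]

/-- The inverse of `w`, before extension along the section. -/
noncomputable def c0 : ((ιo (Y := Y)).sheafPushforwardContinuous AddCommGrpCat.{u} oTop (totTop Y)).obj ((pullF Y).obj K) ⟶
    ((Opens.map D.sec).sheafPushforwardContinuous AddCommGrpCat.{u} oTop
      (FibDesc.topAugTop Y (FibDesc.bot SimplexCategory))).obj K :=
  ⟨{ app := fun W => (D.Γ K).hom.app (op (pob (SimplexCategory.mk 0) W.unop)) ≫
       K.obj.map (homOfLE (D.sec_le_Sn W.unop)).op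
     naturality := fun W W' i => by
       refine (Category.assoc _ _ _).symm.trans
         ((congrArg (· ≫ _) ((D.Γ K).hom.naturality (ιo.map i.unop).op)).trans ?_)
       refine (Category.assoc _ _ _).trans (Eq.trans ?_ (Category.assoc _ _ _).symm)
       refine congrArg (_ ≫ ·) ?_
       exact (K.obj.map_comp _ _).symm.trans ((congrArg _ (Subsingleton.elim _ _)).trans (K.obj.map_comp _ _)) }⟩

/-- The inverse of `w`. -/
noncomputable def cinv : D.R.obj ((pullF Y).obj K) ⟶ K := (D.secAdj.homEquiv _ _).symm (D.c0 K)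

theorem etaR_cinv (W : Opens (sp Y (SimplexCategory.mk 0))) :
    D.etaR ((pullF Y).obj K) W ≫ (D.cinv K).hom.app (op ((Opens.map D.sec).obj W)) =
      (D.Γ K).hom.app (op (pob (SimplexCategory.mk 0) W)) ≫ K.obj.map (homOfLE (D.sec_le_Sn W)).op := by
  have h : D.secAdj.homEquiv _ _ (D.cinv K) = D.c0 K := Equiv.apply_symm_apply _ _
  rw [Adjunction.homEquiv_unit] at h
  exact congrArg (fun k => k.hom.app (op W)) h

theorem w_cinv : D.w.app K ≫ D.cinv K = 𝟙 K := by
  apply Sheaf.hom_ext
  apply NatTrans.ext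
  funext U
  let W := (Opens.map (θ Y (SimplexCategory.mk 0))).obj U.unop
  show (pu K _ _ ≫ D.etaR _ W ≫ (D.R.obj ((pullF Y).obj K)).obj.map (homOfLE (D.sec_θ_le U.unop)).op) ≫
    (D.cinv K).hom.app (op U.unop) = 𝟙 _
  have h : (D.R.obj ((pullF Y).obj K)).obj.map (homOfLE (D.sec_θ_le U.unop)).op ≫ (D.cinv K).hom.app (op U.unop) =
      (D.cinv K).hom.app (op ((Opens.map D.sec).obj W)) ≫ K.obj.map (homOfLE (D.sec_θ_le U.unop)).op :=
    (D.cinv K).hom.naturality _
  refine (Category.assoc _ _ _).trans ((congrArg (pu K _ _ ≫ ·) ((Category.assoc _ _ _).trans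
    ((congrArg (D.etaR _ W ≫ ·) h).trans ((Category.assoc _ _ _).symm.trans (congrArg (· ≫ _) (D.etaR_cinv K W)))))).trans ?_)
  refine (congrArg (pu K _ _ ≫ ·) (Category.assoc _ _ _)).trans ?_
  refine (Category.assoc _ _ _).symm.trans ((congrArg (· ≫ _) (D.pu_Γ K _ U.unop)).trans ?_)
  refine (congrArg (K.obj.map _ ≫ ·) (K.obj.map_comp _ _).symm).trans ?_
  refine (K.obj.map_comp _ _).symm.trans ?_
  exact (congrArg _ (Subsingleton.elim _ (𝟙 _))).trans (K.obj.map_id _)

theorem cinv_w : D.cinv K ≫ D.w.app K = 𝟙 _ := by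
  apply (D.secAdj.homEquiv _ _).injective
  refine restr_pull_ext oTop ιo fun W U g _ => ?_
  let M := (pullF Y).obj K
  let V := (Opens.map (θ Y (SimplexCategory.mk 0))).obj U
  rw [Adjunction.homEquiv_unit, Adjunction.homEquiv_unit]
  show pu K _ U ≫ M.obj.map g.op ≫ D.etaR M W ≫ ((D.cinv K).hom.app _ ≫ (D.w.app K).hom.app _) =
    pu K _ U ≫ M.obj.map g.op ≫ D.etaR M W ≫ 𝟙 _
  have hle : W ≤ V := by
    have h1 := hom_le g
    have h0 : spMap Y g.base.unop = 𝟙 _ := by
      rw [show g.base.unop = 𝟙 _ from SimplexCategory.isTerminalZero.hom_ext _ _]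
      exact spMap_id Y _
    rw [h0] at h1
    exact h1
  have hg : g = ιo.map (homOfLE hle) := tot_hom_ext (Quiver.Hom.unop_inj (SimplexCategory.isTerminalZero.hom_ext _ _))
  have e1 : M.obj.map g.op ≫ D.etaR M W = D.etaR M V ≫ (D.R.obj M).obj.map ((Opens.map D.sec).map (homOfLE hle)).op := by
    rw [hg]
    exact (D.secAdj.unit.app _).hom.naturality (homOfLE hle).op
  have e2 : pu K _ U ≫ D.etaR M V = (D.w.app K).hom.app (op U) ≫
      (D.R.obj M).obj.map (homOfLE (le_of_eq (map_map_obj D.sec_θ U) : (Opens.map D.sec).obj V ≤ U)).op := by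
    show _ = (pu K _ U ≫ D.etaR M V ≫ _) ≫ _
    refine Eq.trans ?_ ((congrArg (pu K _ U ≫ ·) (Category.assoc _ _ _).symm).trans (Category.assoc _ _ _).symm)
    refine congrArg (pu K _ U ≫ ·) ?_
    refine Eq.trans ?_ (congrArg (D.etaR M V ≫ ·) ((D.R.obj M).obj.map_comp _ _))
    exact ((congrArg (D.etaR M V ≫ ·) ((congrArg _ (Subsingleton.elim _ (𝟙 _))).trans
      ((D.R.obj M).obj.map_id _))).trans (Category.comp_id _)).symm
  let p := D.cinv K ≫ D.w.app K
  let k := ((D.R.obj M).obj.map (homOfLE (le_of_eq (map_map_obj D.sec_θ U) : (Opens.map D.sec).obj V ≤ U)).op)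
  have hp : (D.w.app K).hom.app (op U) ≫ p.hom.app (op U) = (D.w.app K).hom.app (op U) :=
    congrArg (fun q => q.hom.app (op U)) ((Category.assoc _ _ _).symm.trans
      ((congrArg (· ≫ D.w.app K) (D.w_cinv K)).trans (Category.id_comp _)) : D.w.app K ≫ p = D.w.app K)
  have k1 : pu K _ U ≫ D.etaR M V ≫ p.hom.app (op ((Opens.map D.sec).obj V)) = pu K _ U ≫ D.etaR M V := by
    refine (Category.assoc _ _ _).symm.trans ((congrArg (· ≫ _) e2).trans (Eq.trans ?_ e2.symm))
    refine (Category.assoc _ _ _).trans ((congrArg (_ ≫ ·) (p.hom.naturality _)).trans ?_)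
    exact (Category.assoc _ _ _).symm.trans (congrArg (· ≫ k) hp)
  refine Eq.trans ?_ (congrArg (pu K _ U ≫ ·) (congrArg (M.obj.map g.op ≫ ·) (Category.comp_id (D.etaR M W)))).symm
  refine (congrArg (pu K _ U ≫ ·) (Category.assoc _ _ _).symm).trans ?_
  refine (congrArg (fun t => pu K _ U ≫ t ≫ p.hom.app (op ((Opens.map D.sec).obj W))) e1).trans ?_
  refine (congrArg (pu K _ U ≫ ·) ((Category.assoc _ _ _).trans
    (congrArg (D.etaR M V ≫ ·) (p.hom.naturality _)))).trans ?_
  refine ((congrArg (pu K _ U ≫ ·) (Category.assoc _ _ _).symm).trans ((Category.assoc _ _ _).symm.trans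
    (congrArg (· ≫ _) k1))).trans ?_
  exact (Category.assoc _ _ _).trans (congrArg (pu K _ U ≫ ·) e1.symm)

theorem isIso_w : IsIso (D.w.app K) := ⟨D.cinv K, D.w_cinv K, D.cinv_w K⟩

theorem w_β : (pullF Y).map (D.w.app K) ≫ D.β.app ((pullF Y).obj K) = D.α.app ((pullF Y).obj K) := by
  refine pull_ext fun n U => ?_
  let M := (pullF Y).obj K
  let W := (Opens.map (θ Y (SimplexCategory.mk 0))).obj U
  have hb : pu (D.R.obj M) n U ≫ (D.β.app M).hom.app (op (pob n ((Opens.map (θ Y n)).obj U))) =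
      (D.b.app M).hom.app (op U) ≫ pπ _ le_rfl := symm_pπ (D.b.app M) n U
  have hw : (D.w.app K).hom.app (op U) ≫ (D.b.app M).hom.app (op U) =
      pu K _ U ≫ D.b0app M W ≫ ((pushF Y).obj (D.T.obj M)).obj.map (homOfLE (D.sec_θ_le U)).op := by
    refine (Category.assoc _ _ _).trans (congrArg (pu K _ U ≫ ·) ?_)
    refine (Category.assoc _ _ _).trans ?_
    refine (congrArg (D.etaR M W ≫ ·) ((D.b.app M).hom.naturality (homOfLE (D.sec_θ_le U)).op)).trans ?_
    exact (Category.assoc _ _ _).symm.trans (congrArg (· ≫ _) (D.etaR_b M W))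
  have h : (Opens.map (θ Y n)).obj U ≤ (Opens.map (spMap Y (𝟙 n))).obj ((Opens.map (θ Y n)).obj ((Opens.map D.sec).obj W)) :=
    le_map_id _ ((Opens.map _).map (homOfLE (D.sec_θ_le U))).le
  let z := pob n ((Opens.map (θ Y n)).obj U)
  have step : pu K n U ≫ ((pullF Y).map (D.w.app K) ≫ D.β.app M).hom.app (op z) =
      pu K _ U ≫ D.φβ M n W ≫ (D.T.obj M).obj.map (ph (𝟙 n) h).op := by
    refine (Category.assoc _ _ _).symm.trans ((congrArg (· ≫ _) (pu_naturality (D.w.app K) n U)).trans ?_)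
    refine (Category.assoc _ _ _).trans ((congrArg (_ ≫ ·) hb).trans ?_)
    refine (Category.assoc _ _ _).symm.trans ((congrArg (· ≫ _) hw).trans ?_)
    refine (Category.assoc _ _ _).trans (congrArg (pu K _ U ≫ ·) ?_)
    refine (Category.assoc _ _ _).trans ((congrArg (D.b0app M W ≫ ·) (map_pπ _ (homOfLE (D.sec_θ_le U)) h)).trans ?_)
    exact (Category.assoc _ _ _).symm.trans (congrArg (· ≫ _) (D.b0app_spec M W n))
  refine step.trans ?_
  rw [α_app]
  let c' : Dec D := D.dob n ((Opens.map (θ Y (D.σ.obj n))).obj U)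
  let r : D.cα z ⟶ c' := D.dh (𝟙 n) (by
    rw [D.σ.map_id]
    exact le_map_id _ (le_of_eq (map_map_obj (θ_comp Y (D.ι.app n)) U)))
  let s : D.cβ n W ⟶ c' := D.dh (𝟙 n) (by
    rw [D.σ.map_id]
    exact le_map_id _ (le_of_eq (map_map_obj (θ_comp Y (D.v n)) U)))
  have s1 : pu K n U ≫ M.obj.map (D.kα z).op = pu K (D.σ.obj n) U ≫ M.obj.map (D.B.map r).op := by
    rw [← pu_compat K (D.ι.app n) U, Category.assoc, ← Functor.map_comp, ← op_comp]
    congr 3
    exact tot_hom_ext (by simp [r, z]; rw [D.σ.map_id]; exact (Category.id_comp _).symm)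
  have s2 : pu K _ U ≫ M.obj.map (D.kβ n W).op = pu K (D.σ.obj n) U ≫ M.obj.map (D.B.map s).op := by
    rw [← pu_compat K (D.v n) U, Category.assoc, ← Functor.map_comp, ← op_comp]
    congr 3
    exact tot_hom_ext (by simp [s]; rw [D.σ.map_id]; exact (Category.id_comp _).symm)
  refine (D.eta_chain M s (D.lβ n W) (ph (𝟙 n) h) (pu K _ U) (D.kβ n W) (pu K (D.σ.obj n) U) s2).trans ?_
  have h1 := D.eta_chain M r (D.lα z) (𝟙 z) (pu K n U) (D.kα z) (pu K (D.σ.obj n) U) s1
  rw [op_id, (D.T.obj M).obj.map_id, Category.comp_id] at h1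
  refine Eq.trans ?_ h1.symm
  refine congrArg (fun t => pu K (D.σ.obj n) U ≫ D.eta M c' ≫ t) (map_congr _ (tot_hom_ext ?_))
  simp [s, r, z, Φ]

include D in
theorem isCohDescentTop : FibDesc.IsCohDescentTop Y := by
  refine ⟨inferInstance, inferInstance, inferInstance, inferInstance, inferInstance, inferInstance, fun K L => ?_⟩
  have := fun K => D.isIso_w K
  have : IsIso D.w := NatIso.isIso_of_isIso_app _
  exact mapDerivedCategory_bijective (pullF Y) D.R D.T D.α D.β (asIso D.w) D.isIso_α D.w_β K.obj L.obj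

end Split

end Groth.Agent.FibDescLib
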