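import Groth.Agent.FibDescLib.CechOpen

/-!
A surjective local homeomorphism is universally of cohomological descent.
-/

set_option autoImplicit false
set_option backward.isDefEq.respectTransparency false
set_option backward.isDefEq.respectTransparency.types false
set_option linter.style.haveILetI false

universe u

open CategoryTheory CategoryTheory.Limits Opposite TopologicalSpace Topology

namespace Groth.Agent.FibDescLib

theorem isUnivCohDescentMap_of_localSections {X S : TopCat.{u}} (f : X ⟶ S)
    (h : ∀ y : S, ∃ T : Opens S, y ∈ T ∧ ∃ s : TopCat.of T ⟶ X, s ≫ f = openIncl T) :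
    FibDesc.IsUnivCohDescentMap f := by
  intro S' g
  choose T hT s hs using h
  let V : S' → Opens S' := fun y => (Opens.map g).obj (T (g y))
  refine isCohDescentMap_of_openCover (pullback.snd f g) V ?_ fun y => ?_
  · rw [eq_top_iff]
    exact fun y _ => Opens.mem_iSup.2 ⟨y, hT (g y)⟩
  · let gy : TopCat.of (V y) ⟶ TopCat.of (T (g y)) :=
      TopCat.ofHom ⟨fun z => ⟨g z.1, z.2⟩, by fun_prop⟩
    have hgy : (gy ≫ s (g y)) ≫ f = openIncl (V y) ≫ g := by
      rw [Category.assoc, hs]
      exact ConcreteCategory.hom_ext _ _ fun _ => rfl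
    refine isCohDescentMap_of_section (restrMap (pullback.snd f g) (V y))
      (pullback.lift (pullback.lift (gy ≫ s (g y)) (openIncl (V y)) hgy) (𝟙 _) ?_) (pullback.lift_snd _ _ _)
    rw [pullback.lift_snd, Category.id_comp]

theorem isUnivCohDescentMap_of_isLocalHomeomorph {X S : TopCat.{u}} (f : X ⟶ S)
    (hf : IsLocalHomeomorph f) (hsurj : Function.Surjective f) : FibDesc.IsUnivCohDescentMap f := by
  refine isUnivCohDescentMap_of_localSections f fun y => ?_
  obtain ⟨x, rfl⟩ := hsurj y
  obtain ⟨e, hx, he⟩ := hf x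
  refine ⟨⟨e.target, e.open_target⟩, ?_, TopCat.ofHom ⟨fun z => e.symm z.1, ?_⟩, ?_⟩
  · show f x ∈ e.target
    exact he ▸ e.map_source hx
  · exact continuousOn_iff_continuous_domRestrict.1 e.continuousOn_symm
  · refine ConcreteCategory.hom_ext _ _ fun z => ?_
    show f (e.symm z.1) = z.1
    rw [he]
    exact e.right_inv z.2

end Groth.Agent.FibDescLib
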