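import Groth.Agent.FibDescLib.Glue
import Mathlib

/-!
Restriction of an augmented simplicial space to an open subspace of the base.
-/

set_option autoImplicit false
set_option backward.isDefEq.respectTransparency false
set_option backward.isDefEq.respectTransparency.types false
set_option backward.defeqAttrib.useBackward true
set_option linter.style.haveILetI false

universe u

open CategoryTheory CategoryTheory.Limits Opposite TopologicalSpace Topology
open CategoryTheory.Pseudofunctor CategoryTheory.Pseudofunctor.CoGrothendieck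

namespace Groth.Agent.FibDescLib

/-- A levelwise open immersion of augmented simplicial spaces, cartesian over the base. -/
structure OpenMor (Y' Y : (WithInitial SimplexCategory)ᵒᵖ ⥤ TopCat.{u}) where
  /-- The map. -/
  φ : Y' ⟶ Y
  emb : ∀ x, IsOpenEmbedding (φ.app x)
  range_eq : ∀ n, Set.range (φ.app (op (WithInitial.of n))) =
    (θ Y n) ⁻¹' Set.range (φ.app (FibDesc.bot SimplexCategory))

section OpensFunctor

variable {X' X : TopCat.{u}} {f : X' ⟶ X} (hf : IsOpenEmbedding f)

/-- Images of open sets. -/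
abbrev imgF : Opens X' ⥤ Opens X := hf.isOpenMap.functor

theorem imgF_isCocontinuous : (imgF hf).IsCocontinuous (Opens.grothendieckTopology X') (Opens.grothendieckTopology X) := by
  refine ⟨fun {U} S hS x hx => ?_⟩
  obtain ⟨V, i, hi, hxV⟩ := hS (f x) ⟨x, hx, rfl⟩
  let V' : Opens X' := (Opens.map f).obj V
  have hV' : V' ≤ U := fun y hy => by
    obtain ⟨z, hz, e⟩ := i.le (show f y ∈ V from hy)
    rwa [← hf.injective e]
  refine ⟨V', homOfLE hV', ?_, hxV⟩
  show S ((imgF hf).map (homOfLE hV'))
  have hle : (imgF hf).obj V' ≤ V := by rintro _ ⟨y, hy, rfl⟩; exact hy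
  rw [show (imgF hf).map (homOfLE hV') = homOfLE hle ≫ i from Subsingleton.elim _ _]
  exact S.downward_closed hi _

theorem imgF_isContinuous : (imgF hf).IsContinuous (Opens.grothendieckTopology X') (Opens.grothendieckTopology X) :=
  hf.functor_isContinuous

theorem imgF_sub {U : Opens X'} {V : Opens X} (h : (imgF hf).obj U ≤ V) : U ≤ (Opens.map f).obj V :=
  fun x hx => h ⟨x, hx, rfl⟩

theorem imgF_structuredArrow_isCofiltered (V : Opens X) [Nonempty (StructuredArrow V (imgF hf))] :
    IsCofiltered (StructuredArrow V (imgF hf)) := by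
  obtain ⟨A₀⟩ := ‹Nonempty (StructuredArrow V (imgF hf))›
  let W : Opens X' := (Opens.map f).obj V
  let low : StructuredArrow V (imgF hf) := StructuredArrow.mk (Y := W) (homOfLE (by
    intro y hy
    obtain ⟨z, -, rfl⟩ := leOfHom A₀.hom hy
    exact ⟨z, hy, rfl⟩))
  have hle : ∀ A : StructuredArrow V (imgF hf), W ≤ A.right := by
    intro A y hy
    obtain ⟨z, hz, e⟩ := leOfHom A.hom (show f y ∈ V from hy)
    rwa [← hf.injective e]
  let proj : ∀ A, low ⟶ A := fun A => StructuredArrow.homMk (homOfLE (hle A)) (Subsingleton.elim _ _)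
  have : IsCofilteredOrEmpty (StructuredArrow V (imgF hf)) :=
    { cone_objs := fun A A' => ⟨low, proj A, proj A', trivial⟩
      cone_maps := fun A A' a b => ⟨low, proj A, by
        ext : 1; exact Subsingleton.elim _ _⟩ }
  exact IsCofiltered.mk

theorem imgF_lan_preservesMono :
    ((imgF hf).op.lan : ((Opens X')ᵒᵖ ⥤ AddCommGrpCat.{u}) ⥤ _).PreservesMonomorphisms := by
  refine ⟨fun {F G} a _ => ?_⟩
  have : ∀ K, Mono (((imgF hf).op.lan.map a).app K) := by
    intro K
    let ev := lanEvaluationIsoColim (E := AddCommGrpCat.{u}) (imgF hf).op K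
    refine ((MorphismProperty.monomorphisms AddCommGrpCat.{u}).arrow_mk_iso_iff
      (Arrow.isoMk (ev.app F) (ev.app G) (ev.hom.naturality a).symm)).2 ?_
    show Mono _
    rcases isEmpty_or_nonempty (StructuredArrow K.unop (imgF hf)) with he | hne
    · have : IsEmpty (CostructuredArrow (imgF hf).op K) :=
        ⟨fun A => he.false ((structuredArrowOpEquivalence (imgF hf) K.unop).inverse.obj A).unop⟩
      have hz : IsZero (colimit (CostructuredArrow.proj (imgF hf).op K ⋙ F)) := by
        rw [IsZero.iff_id_eq_zero]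
        exact colimit.hom_ext fun j => isEmptyElim j
      exact ⟨fun g h _ => hz.eq_of_tgt g h⟩
    · have := imgF_structuredArrow_isCofiltered hf K.unop
      have : IsFiltered (CostructuredArrow (imgF hf).op K) :=
        IsFiltered.of_equivalence (structuredArrowOpEquivalence (imgF hf) K.unop)
      have : ∀ j, Mono ((Functor.whiskerLeft (CostructuredArrow.proj (imgF hf).op K) a).app j) := fun j =>
        inferInstanceAs (Mono (a.app _))
      have : Mono (Functor.whiskerLeft (CostructuredArrow.proj (imgF hf).op K) a) := NatTrans.mono_of_mono_app _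
      have : PreservesFiniteLimits (colim (J := CostructuredArrow (imgF hf).op K) (C := AddCommGrpCat.{u})) :=
        HasExactColimitsOfShape.preservesFiniteLimits
      exact (inferInstance : Mono ((colim (J := CostructuredArrow (imgF hf).op K) (C := AddCommGrpCat.{u})).map
        (Functor.whiskerLeft (CostructuredArrow.proj (imgF hf).op K) a)))
  exact NatTrans.mono_of_mono_app _

end OpensFunctor

namespace OpenMor

variable {Y' Y : (WithInitial SimplexCategory)ᵒᵖ ⥤ TopCat.{u}} (M : OpenMor Y' Y)

/-- The component in degree `n`. -/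
abbrev fn (n : SimplexCategory) : sp Y' n ⟶ sp Y n := M.φ.app (op (WithInitial.of n))

/-- The component at the base. -/
abbrev fb : base Y' ⟶ base Y := M.φ.app (FibDesc.bot SimplexCategory)

theorem embn (n : SimplexCategory) : IsOpenEmbedding (M.fn n) := M.emb _

theorem embb : IsOpenEmbedding M.fb := M.emb _

theorem nat_apply {n m : SimplexCategory} (a : n ⟶ m) (y : sp Y' m) :
    M.fn n (spMap Y' a y) = spMap Y a (M.fn m y) :=
  ConcreteCategory.congr_hom (M.φ.naturality ((WithInitial.incl (C := SimplexCategory)).map a).op) y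

theorem θ_apply (n : SimplexCategory) (y : sp Y' n) : M.fb (θ Y' n y) = θ Y n (M.fn n y) :=
  ConcreteCategory.congr_hom (M.φ.naturality (WithInitial.homTo n).op) y

theorem θ_img (n : SimplexCategory) (W : Opens (base Y')) :
    (imgF (M.embn n)).obj ((Opens.map (θ Y' n)).obj W) = (Opens.map (θ Y n)).obj ((imgF M.embb).obj W) := by
  apply le_antisymm
  · rintro _ ⟨y, hy, rfl⟩
    exact ⟨θ Y' n y, hy, M.θ_apply n y⟩
  · rintro y ⟨w, hw, e⟩
    obtain ⟨y', rfl⟩ : y ∈ Set.range (M.fn n) := by rw [M.range_eq]; exact ⟨w, e⟩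
    refine ⟨y', ?_, rfl⟩
    have : θ Y' n y' = w := M.embb.injective ((M.θ_apply n y').trans e.symm)
    show θ Y' n y' ∈ W
    rw [this]; exact hw

/-- The functor of total categories given by images. -/
noncomputable def Im : Tot Y' ⥤ Tot Y where
  obj c := pob c.base.unop ((imgF (M.embn c.base.unop)).obj (fib c))
  map {c c'} g := ph g.base.unop (by
    rintro _ ⟨y, hy, rfl⟩
    exact ⟨spMap Y' g.base.unop y, hom_le g hy, M.nat_apply _ y⟩)
  map_id _ := tot_hom_ext rfl
  map_comp _ _ := tot_hom_ext rfl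

/-- Images on a fibre. -/
noncomputable def ImιIso (i : SimplexCategoryᵒᵖ) :
    Pseudofunctor.CoGrothendieck.ι (FibDesc.part (FibDesc.topAug Y')) i ⋙ M.Im ≅
      imgF (M.embn i.unop) ⋙ Pseudofunctor.CoGrothendieck.ι (FibDesc.part (FibDesc.topAug Y)) i :=
  NatIso.ofComponents (fun _ => Iso.refl _) fun φ => tot_hom_ext (by simp [Im])

instance Im_isContinuous : M.Im.IsContinuous (totTop Y') (totTop Y) := by
  rw [Groth.Agent.FibSiteLib.isContinuous_iff (isPreFibSite_part (Y := Y'))]
  intro i
  have := Groth.Agent.FibSiteLib.isContinuous_ι (isPreFibSite_part (Y := Y)) i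
  have : (imgF (M.embn i.unop) ⋙ Pseudofunctor.CoGrothendieck.ι (FibDesc.part (FibDesc.topAug Y)) i).IsContinuous
      (FibDesc.partTop (FibDesc.topAug Y') (FibDesc.topAugTop Y') i) (totTop Y) :=
    @Functor.isContinuous_comp _ _ _ _ _ _ (imgF (M.embn i.unop))
      (Pseudofunctor.CoGrothendieck.ι (FibDesc.part (FibDesc.topAug Y)) i)
      (Opens.grothendieckTopology (sp Y' i.unop)) (Opens.grothendieckTopology (sp Y i.unop)) (totTop Y)
      (imgF_isContinuous _) ‹_›
  exact Functor.isContinuous_of_iso (M.ImιIso i).symm _ _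

instance Im_isCocontinuous : M.Im.IsCocontinuous (totTop Y') (totTop Y) := by
  refine ⟨fun {X} S hS => ?_⟩
  rw [Groth.Agent.FibSiteLib.mem_totalTopology_iff (isPreFibSite_part (Y := Y))] at hS
  rw [Groth.Agent.FibSiteLib.mem_totalTopology_iff (isPreFibSite_part (Y := Y'))]
  refine (Opens.grothendieckTopology (sp Y' X.base.unop)).superset_covering ?_
    ((imgF_isCocontinuous (M.embn X.base.unop)).cover_lift hS)
  intro V v hv
  show S (M.Im.map ((Pseudofunctor.CoGrothendieck.ι (FibDesc.part (FibDesc.topAug Y')) X.base).map v))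
  have e : M.Im.map ((Pseudofunctor.CoGrothendieck.ι (FibDesc.part (FibDesc.topAug Y')) X.base).map v) =
      (Pseudofunctor.CoGrothendieck.ι (FibDesc.part (FibDesc.topAug Y)) X.base).map
        ((imgF (M.embn X.base.unop)).map v) := tot_hom_ext (by simp [Im])
  exact (congrArg (fun m => S m) e).mpr hv

theorem Im_structuredArrow_isCofiltered (x : Tot Y) [Nonempty (StructuredArrow x M.Im)] :
    IsCofiltered (StructuredArrow x M.Im) := by
  obtain ⟨A₀⟩ := ‹Nonempty (StructuredArrow x M.Im)›
  let n := x.base.unop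
  let W : Opens (sp Y' n) := (Opens.map (M.fn n)).obj (fib x)
  have hrange : (fib x : Set (sp Y n)) ⊆ Set.range (M.fn n) := by
    intro y hy
    rw [M.range_eq]
    obtain ⟨u, -, hu'⟩ := hom_le A₀.hom hy
    refine ⟨θ Y' _ u, ?_⟩
    refine (M.θ_apply _ u).trans ((congrArg (θ Y A₀.right.base.unop) hu').trans ?_)
    exact ConcreteCategory.congr_hom (θ_comp Y A₀.hom.base.unop) y
  let low : StructuredArrow x M.Im := StructuredArrow.mk (Y := pob n W)
    (ph (𝟙 n) (by
      rw [spMap_id]
      intro y hy
      obtain ⟨y', rfl⟩ := hrange hy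
      exact ⟨y', hy, rfl⟩) : pob n (fib x) ⟶ M.Im.obj (pob n W))
  have hle : ∀ A : StructuredArrow x M.Im,
      W ≤ (Opens.map (spMap Y' A.hom.base.unop)).obj (fib A.right) := by
    intro A y hy
    obtain ⟨u, hu, hu'⟩ := hom_le A.hom (show M.fn n y ∈ fib x from hy)
    have : spMap Y' A.hom.base.unop y = u :=
      (M.embn _).injective ((M.nat_apply A.hom.base.unop y).trans hu'.symm)
    show spMap Y' A.hom.base.unop y ∈ fib A.right
    rw [this]; exact hu
  let proj : ∀ A : StructuredArrow x M.Im, low ⟶ A := fun A =>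
    StructuredArrow.homMk (ph A.hom.base.unop (hle A) : pob n W ⟶ pob A.right.base.unop (fib A.right))
      (tot_hom_ext (by simp [low, Im]; exact Category.id_comp _))
  have : IsCofilteredOrEmpty (StructuredArrow x M.Im) :=
    { cone_objs := fun A A' => ⟨low, proj A, proj A', trivial⟩
      cone_maps := fun A A' f g => ⟨low, proj A, by
        refine StructuredArrow.ext _ _ (tot_hom_ext ?_)
        have hf := congrArg CoGrothendieck.Hom.base (StructuredArrow.w f)
        have hg := congrArg CoGrothendieck.Hom.base (StructuredArrow.w g)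
        simpa [proj, Im] using hf.trans hg.symm⟩ }
  exact IsCofiltered.mk

theorem lan_preservesMono : (M.Im.op.lan : ((Tot Y')ᵒᵖ ⥤ AddCommGrpCat.{u}) ⥤ _).PreservesMonomorphisms := by
  refine ⟨fun {F G} f _ => ?_⟩
  have : ∀ K, Mono ((M.Im.op.lan.map f).app K) := by
    intro K
    have h : Mono ((M.Im.op.lan ⋙ (evaluation _ AddCommGrpCat.{u}).obj K).map f) := by
      let ev := lanEvaluationIsoColim (E := AddCommGrpCat.{u}) M.Im.op K
      refine ((MorphismProperty.monomorphisms AddCommGrpCat.{u}).arrow_mk_iso_iff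
        (Arrow.isoMk (ev.app F) (ev.app G) (ev.hom.naturality f).symm)).2 ?_
      show Mono _
      rcases isEmpty_or_nonempty (StructuredArrow K.unop M.Im) with he | hne
      · have : IsEmpty (CostructuredArrow M.Im.op K) :=
          ⟨fun A => he.false ((structuredArrowOpEquivalence M.Im K.unop).inverse.obj A).unop⟩
        have hz : IsZero (colimit (CostructuredArrow.proj M.Im.op K ⋙ F)) := by
          rw [IsZero.iff_id_eq_zero]
          exact colimit.hom_ext fun j => isEmptyElim j
        exact ⟨fun g h _ => hz.eq_of_tgt g h⟩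
      · have := M.Im_structuredArrow_isCofiltered K.unop
        have : IsFiltered (CostructuredArrow M.Im.op K) :=
          IsFiltered.of_equivalence (structuredArrowOpEquivalence M.Im K.unop)
        have : ∀ j, Mono ((Functor.whiskerLeft (CostructuredArrow.proj M.Im.op K) f).app j) := fun j =>
          inferInstanceAs (Mono (f.app _))
        have : Mono (Functor.whiskerLeft (CostructuredArrow.proj M.Im.op K) f) := NatTrans.mono_of_mono_app _
        have : PreservesFiniteLimits (colim (J := CostructuredArrow M.Im.op K) (C := AddCommGrpCat.{u})) :=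
          HasExactColimitsOfShape.preservesFiniteLimits
        exact (inferInstance : Mono ((colim (J := CostructuredArrow M.Im.op K) (C := AddCommGrpCat.{u})).map
          (Functor.whiskerLeft (CostructuredArrow.proj M.Im.op K) f)))
    exact h
  exact NatTrans.mono_of_mono_app _

theorem extend_preservesMono :
    (M.Im.sheafPullback AddCommGrpCat.{u} (totTop Y') (totTop Y)).PreservesMonomorphisms := by
  have := M.lan_preservesMono
  have : (Functor.sheafPullbackConstruction.sheafPullback M.Im AddCommGrpCat.{u} (totTop Y') (totTop Y)).PreservesMonomorphisms := by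
    unfold Functor.sheafPullbackConstruction.sheafPullback
    infer_instance
  exact Functor.PreservesMonomorphisms.of_iso
    (Functor.sheafPullbackConstruction.sheafPullbackIso M.Im AddCommGrpCat.{u} (totTop Y') (totTop Y)).symm

/-- Restriction on the simplicial part. -/
noncomputable abbrev jT : DS Y ⥤ DS Y' := M.Im.sheafPushforwardContinuous AddCommGrpCat.{u} (totTop Y') (totTop Y)

instance fb_isContinuous : (imgF M.embb).IsContinuous (FibDesc.topAugTop Y' (FibDesc.bot SimplexCategory))
    (FibDesc.topAugTop Y (FibDesc.bot SimplexCategory)) := imgF_isContinuous M.embb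

instance fb_isCocontinuous : (imgF M.embb).IsCocontinuous (FibDesc.topAugTop Y' (FibDesc.bot SimplexCategory))
    (FibDesc.topAugTop Y (FibDesc.bot SimplexCategory)) := imgF_isCocontinuous M.embb

/-- Restriction on the base. -/
noncomputable abbrev jS : BS Y ⥤ BS Y' :=
  (imgF M.embb).sheafPushforwardContinuous AddCommGrpCat.{u}
    (FibDesc.topAugTop Y' (FibDesc.bot SimplexCategory)) (FibDesc.topAugTop Y (FibDesc.bot SimplexCategory))

theorem extendB_preservesMono :
    ((imgF M.embb).sheafPullback AddCommGrpCat.{u} (FibDesc.topAugTop Y' (FibDesc.bot SimplexCategory))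
      (FibDesc.topAugTop Y (FibDesc.bot SimplexCategory))).PreservesMonomorphisms := by
  have := imgF_lan_preservesMono M.embb
  have : (Functor.sheafPullbackConstruction.sheafPullback (imgF M.embb) AddCommGrpCat.{u}
      (FibDesc.topAugTop Y' (FibDesc.bot SimplexCategory))
      (FibDesc.topAugTop Y (FibDesc.bot SimplexCategory))).PreservesMonomorphisms := by
    have h3 : (presheafToSheaf (Opens.grothendieckTopology (base Y)) AddCommGrpCat.{u}).PreservesMonomorphisms :=
      inferInstance
    have h1 : (sheafToPresheaf (Opens.grothendieckTopology (base Y')) AddCommGrpCat.{u}).PreservesMonomorphisms :=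
      inferInstance
    exact @Functor.preservesMonomorphisms_comp _ _ _ _ _ _ _ _ h1 (@Functor.preservesMonomorphisms_comp _ _ _ _ _ _ _ _ this h3)
  exact Functor.PreservesMonomorphisms.of_iso
    (Functor.sheafPullbackConstruction.sheafPullbackIso (imgF M.embb) AddCommGrpCat.{u} _ _).symm

theorem injective_jT (N : DS Y) [Injective N] : Injective (M.jT.obj N) := by
  have := M.extend_preservesMono
  exact Injective.injective_of_adjoint (M.Im.sheafAdjunctionContinuous AddCommGrpCat.{u} (totTop Y') (totTop Y)) N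

theorem injective_jS (K : BS Y) [Injective K] : Injective (M.jS.obj K) := by
  have := M.extendB_preservesMono
  exact Injective.injective_of_adjoint ((imgF M.embb).sheafAdjunctionContinuous AddCommGrpCat.{u} _ _) K

theorem push_le_hom (n : SimplexCategory) (W : Opens (base Y')) :
    (imgF (M.embn n)).obj ((Opens.map (θ Y' n)).obj W) ≤
      (Opens.map (spMap Y (𝟙 n))).obj ((Opens.map (θ Y n)).obj ((imgF M.embb).obj W)) := by
  rw [spMap_id, M.θ_img]; exact le_rfl

theorem push_le_inv (n : SimplexCategory) (W : Opens (base Y')) :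
    (Opens.map (θ Y n)).obj ((imgF M.embb).obj W) ≤
      (Opens.map (spMap Y (𝟙 n))).obj ((imgF (M.embn n)).obj ((Opens.map (θ Y' n)).obj W)) := by
  rw [spMap_id, M.θ_img]; exact le_rfl

/-- The identification. -/
noncomputable abbrev eHom (n : SimplexCategory) (W : Opens (base Y')) :
    M.Im.obj (pob n ((Opens.map (θ Y' n)).obj W)) ⟶ pob n ((Opens.map (θ Y n)).obj ((imgF M.embb).obj W)) :=
  (ph (𝟙 n) (M.push_le_hom n W) :
    pob n ((imgF (M.embn n)).obj ((Opens.map (θ Y' n)).obj W)) ⟶ pob n ((Opens.map (θ Y n)).obj ((imgF M.embb).obj W)))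

/-- The identification, inverse. -/
noncomputable abbrev eInv (n : SimplexCategory) (W : Opens (base Y')) :
    pob n ((Opens.map (θ Y n)).obj ((imgF M.embb).obj W)) ⟶ M.Im.obj (pob n ((Opens.map (θ Y' n)).obj W)) :=
  (ph (𝟙 n) (M.push_le_inv n W) :
    pob n ((Opens.map (θ Y n)).obj ((imgF M.embb).obj W)) ⟶ pob n ((imgF (M.embn n)).obj ((Opens.map (θ Y' n)).obj W)))

theorem eHom_eInv (n : SimplexCategory) (W : Opens (base Y')) : M.eHom n W ≫ M.eInv n W = 𝟙 _ :=
  tot_hom_ext (by simp [Im])

theorem eInv_eHom (n : SimplexCategory) (W : Opens (base Y')) : M.eInv n W ≫ M.eHom n W = 𝟙 _ :=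
  tot_hom_ext (by simp [Im])

theorem eHom_nat {n m : SimplexCategory} (a : n ⟶ m) (W : Opens (base Y')) :
    M.Im.map (phθ a W) ≫ M.eHom n W = M.eHom m W ≫ phθ a ((imgF M.embb).obj W) :=
  tot_hom_ext (by simp [Im])

theorem eInv_nat {n m : SimplexCategory} (a : n ⟶ m) (W : Opens (base Y')) :
    phθ a ((imgF M.embb).obj W) ≫ M.eInv n W = M.eInv m W ≫ M.Im.map (phθ a W) :=
  tot_hom_ext (by simp [Im])

theorem exists_pushHom (N : DS Y) (W : Opens (base Y')) :
    ∃ f : ((pushF Y).obj N).obj.obj (op ((imgF M.embb).obj W)) ⟶ ((pushF Y').obj (M.jT.obj N)).obj.obj (op W),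
      ∀ n, f ≫ pπ (M.jT.obj N) (n := n) le_rfl = pπ N le_rfl ≫ N.obj.map (M.eHom n W).op :=
  exists_plift (N := M.jT.obj N) (U := W) (fun n => pπ N le_rfl ≫ N.obj.map (M.eHom n W).op) fun n m a _ => by
    show pπ N _ ≫ _ = (pπ N _ ≫ _) ≫ N.obj.map (M.Im.map (phθ a W)).op
    rw [Category.assoc, ← Functor.map_comp, ← op_comp, M.eHom_nat, op_comp, Functor.map_comp, ← Category.assoc,
      pπ_compat]

theorem exists_pushInv (N : DS Y) (W : Opens (base Y')) :
    ∃ f : ((pushF Y').obj (M.jT.obj N)).obj.obj (op W) ⟶ ((pushF Y).obj N).obj.obj (op ((imgF M.embb).obj W)),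
      ∀ n, f ≫ pπ N (n := n) le_rfl = pπ (M.jT.obj N) le_rfl ≫ N.obj.map (M.eInv n W).op :=
  exists_plift (N := N) (U := (imgF M.embb).obj W) (fun n => pπ (M.jT.obj N) le_rfl ≫ N.obj.map (M.eInv n W).op)
    fun n m a _ => by
    show pπ (M.jT.obj N) _ ≫ _ = (pπ (M.jT.obj N) _ ≫ _) ≫ _
    rw [Category.assoc, ← Functor.map_comp, ← op_comp, M.eInv_nat, op_comp, Functor.map_comp, ← Category.assoc]
    exact congrArg (· ≫ _) (pπ_compat (M.jT.obj N) a W).symm

/-- The components of the base change isomorphism. -/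
noncomputable def pushApp (N : DS Y) (W : Opens (base Y')) :
    ((pushF Y).obj N).obj.obj (op ((imgF M.embb).obj W)) ≅ ((pushF Y').obj (M.jT.obj N)).obj.obj (op W) where
  hom := (M.exists_pushHom N W).choose
  inv := (M.exists_pushInv N W).choose
  hom_inv_id := pπ_ext fun n => by
    rw [Category.assoc, (M.exists_pushInv N W).choose_spec, ← Category.assoc, (M.exists_pushHom N W).choose_spec,
      Category.assoc, ← Functor.map_comp, ← op_comp, M.eInv_eHom, Category.id_comp]
    exact (congrArg (pπ N _ ≫ ·) (N.obj.map_id _)).trans (Category.comp_id _)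
  inv_hom_id := pπ_ext fun n => by
    rw [Category.assoc, (M.exists_pushHom N W).choose_spec, ← Category.assoc, (M.exists_pushInv N W).choose_spec,
      Category.assoc, ← Functor.map_comp, ← op_comp, M.eHom_eInv, Category.id_comp]
    exact (congrArg (pπ (M.jT.obj N) _ ≫ ·) (N.obj.map_id _)).trans (Category.comp_id _)

theorem pushApp_spec (N : DS Y) (W : Opens (base Y')) (n : SimplexCategory) :
    (M.pushApp N W).hom ≫ pπ (M.jT.obj N) (n := n) le_rfl = pπ N le_rfl ≫ N.obj.map (M.eHom n W).op :=
  (M.exists_pushHom N W).choose_spec n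

/-- Direct image commutes with restriction. -/
noncomputable def pushIso : pushF Y ⋙ M.jS ≅ M.jT ⋙ pushF Y' :=
  NatIso.ofComponents (fun N =>
    (fullyFaithfulSheafToPresheaf _ _).preimageIso (NatIso.ofComponents (fun W => M.pushApp N W.unop) fun {W W'} i =>
      pπ_ext fun n => by
        have h : (Opens.map (θ Y' n)).obj W'.unop ≤
            (Opens.map (spMap Y' (𝟙 n))).obj ((Opens.map (θ Y' n)).obj W.unop) := by
          rw [spMap_id]; exact ((Opens.map _).map i.unop).le
        have h' : (Opens.map (θ Y n)).obj ((imgF M.embb).obj W'.unop) ≤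
            (Opens.map (spMap Y (𝟙 n))).obj ((Opens.map (θ Y n)).obj ((imgF M.embb).obj W.unop)) := by
          rw [spMap_id]; exact ((Opens.map _).map ((imgF M.embb).map i.unop)).le
        show (((pushF Y).obj N).obj.map ((imgF M.embb).map i.unop).op ≫ (M.pushApp N W'.unop).hom) ≫ _ =
          ((M.pushApp N W.unop).hom ≫ ((pushF Y').obj (M.jT.obj N)).obj.map i.unop.op) ≫ _
        refine (Category.assoc _ _ _).trans ((congrArg (_ ≫ ·) (M.pushApp_spec N W'.unop n)).trans ?_)
        refine (Category.assoc _ _ _).symm.trans ((congrArg (· ≫ _) (map_pπ N ((imgF M.embb).map i.unop) h')).trans ?_)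
        refine Eq.trans ?_ (Category.assoc _ _ _).symm
        refine Eq.trans ?_ (congrArg (_ ≫ ·) (map_pπ (M.jT.obj N) i.unop h)).symm
        refine Eq.trans ?_ (Category.assoc _ _ _)
        refine Eq.trans ?_ (congrArg (· ≫ _) (M.pushApp_spec N W.unop n)).symm
        show (pπ N _ ≫ _) ≫ _ = (pπ N _ ≫ _) ≫ N.obj.map (M.Im.map (ph (𝟙 n) h)).op
        rw [Category.assoc, Category.assoc, ← Functor.map_comp, ← Functor.map_comp, ← op_comp, ← op_comp]
        congr 3))
    fun {N N'} f => by
      apply Sheaf.hom_ext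
      apply NatTrans.ext
      funext W
      refine pπ_ext fun n => ?_
      show (((pushF Y).map f).hom.app (op ((imgF M.embb).obj W.unop)) ≫ (M.pushApp N' W.unop).hom) ≫ _ =
        ((M.pushApp N W.unop).hom ≫ ((pushF Y').map (M.jT.map f)).hom.app (op W.unop)) ≫ _
      refine (Category.assoc _ _ _).trans ((congrArg (_ ≫ ·) (M.pushApp_spec N' W.unop n)).trans ?_)
      refine (Category.assoc _ _ _).symm.trans ((congrArg (· ≫ _) (pushMap_pπ f)).trans ?_)
      refine Eq.trans ?_ (Category.assoc _ _ _).symm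
      refine Eq.trans ?_ (congrArg (_ ≫ ·) (pushMap_pπ (M.jT.map f))).symm
      refine Eq.trans ?_ (Category.assoc _ _ _)
      refine Eq.trans ?_ (congrArg (· ≫ _) (M.pushApp_spec N W.unop n)).symm
      refine (Category.assoc _ _ _).trans (Eq.trans ?_ (Category.assoc _ _ _).symm)
      exact congrArg (_ ≫ ·) (f.hom.naturality (M.eHom n W.unop).op).symm

/-- Inverse image commutes with restriction: the comparison. -/
noncomputable def pullComp (K : BS Y) : (pullF Y').obj (M.jS.obj K) ⟶ M.jT.obj ((pullF Y).obj K) :=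
  ((padj (Y := Y')).homEquiv _ _).symm (M.jS.map ((padj (Y := Y)).unit.app K) ≫ M.pushIso.hom.app _)

theorem pu_pullComp (K : BS Y) (n : SimplexCategory) (W : Opens (base Y')) :
    pu (M.jS.obj K) n W ≫ (M.pullComp K).hom.app (op (pob n ((Opens.map (θ Y' n)).obj W))) =
      pu K n ((imgF M.embb).obj W) ≫ ((pullF Y).obj K).obj.map (M.eHom n W).op := by
  refine (symm_pπ _ n W).trans ?_
  refine (Category.assoc _ _ _).trans ?_
  refine (congrArg (((padj (Y := Y)).unit.app K).hom.app (op ((imgF M.embb).obj W)) ≫ ·)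
    (M.pushApp_spec ((pullF Y).obj K) W n)).trans ?_
  exact (Category.assoc _ _ _).symm

theorem img_preimage_le (U : Opens (base Y)) : (imgF M.embb).obj ((Opens.map M.fb).obj U) ≤ U := by
  rintro _ ⟨y, hy, rfl⟩; exact hy

theorem inv_le {c : Tot Y'} {m : SimplexCategory} {U : Opens (base Y)}
    (g : M.Im.obj c ⟶ pob m ((Opens.map (θ Y m)).obj U)) :
    fib c ≤ (Opens.map (spMap Y' (𝟙 c.base.unop))).obj
      ((Opens.map (θ Y' c.base.unop)).obj ((Opens.map M.fb).obj U)) := by
  rw [spMap_id]
  intro y hy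
  have h := hom_le g ⟨y, hy, rfl⟩
  show M.fb (θ Y' c.base.unop y) ∈ U
  rw [M.θ_apply]
  have e := ConcreteCategory.congr_hom (θ_comp Y g.base.unop) (M.fn c.base.unop y)
  exact e ▸ h

/-- The morphism used for the inverse. -/
noncomputable abbrev invHom {c : Tot Y'} {m : SimplexCategory} {U : Opens (base Y)}
    (g : M.Im.obj c ⟶ pob m ((Opens.map (θ Y m)).obj U)) :
    c ⟶ pob c.base.unop ((Opens.map (θ Y' c.base.unop)).obj ((Opens.map M.fb).obj U)) :=
  (ph (𝟙 _) (M.inv_le g) : pob c.base.unop (fib c) ⟶ _)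

theorem isIso_pullComp (K : BS Y) : IsIso (M.pullComp K) := by
  let N' := (pullF Y').obj (M.jS.obj K)
  let Φ : ∀ (c : Tot Y') (m : SimplexCategory) (U : Opens (base Y)),
      (M.Im.obj c ⟶ pob m ((Opens.map (θ Y m)).obj U)) → (K.obj.obj (op U) ⟶ N'.obj.obj (op c)) :=
    fun c m U g => K.obj.map (homOfLE (M.img_preimage_le U)).op ≫
      pu (M.jS.obj K) c.base.unop ((Opens.map M.fb).obj U) ≫ N'.obj.map (M.invHom g).op
  obtain ⟨f, hf⟩ := exists_restr_pull K (totTop Y') M.Im N' Φ
    (fun c c' m U h g => by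
      show K.obj.map _ ≫ pu (M.jS.obj K) _ _ ≫ _ = (K.obj.map _ ≫ pu (M.jS.obj K) _ _ ≫ _) ≫ _
      rw [← pu_compat (M.jS.obj K) h.base.unop, Category.assoc, Category.assoc, Category.assoc,
        ← Functor.map_comp, ← Functor.map_comp, ← op_comp, ← op_comp]
      congr 4)
    (fun c n m U a g => rfl)
    (fun c m U U' i h g => by
      have h' : (Opens.map (θ Y' c.base.unop)).obj ((Opens.map M.fb).obj U') ≤
          (Opens.map (spMap Y' (𝟙 _))).obj ((Opens.map (θ Y' c.base.unop)).obj ((Opens.map M.fb).obj U)) := by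
        rw [spMap_id]; exact ((Opens.map _).map ((Opens.map M.fb).map i)).le
      have hp := pu_map (K := M.jS.obj K) ((Opens.map M.fb).map i) h'
      have e : K.obj.map i.op ≫ K.obj.map (homOfLE (M.img_preimage_le U')).op =
          K.obj.map (homOfLE (M.img_preimage_le U)).op ≫ (M.jS.obj K).obj.map ((Opens.map M.fb).map i).op :=
        (K.obj.map_comp _ _).symm.trans ((congrArg _ (Subsingleton.elim _ _)).trans (K.obj.map_comp _ _))
      show K.obj.map i.op ≫ K.obj.map _ ≫ pu (M.jS.obj K) _ _ ≫ _ = K.obj.map _ ≫ pu (M.jS.obj K) _ _ ≫ _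
      refine (Category.assoc _ _ _).symm.trans ((congrArg (· ≫ _) e).trans ((Category.assoc _ _ _).trans ?_))
      refine congrArg (K.obj.map (homOfLE (M.img_preimage_le U)).op ≫ ·) ?_
      refine (Category.assoc _ _ _).symm.trans ((congrArg (· ≫ _) hp).trans ((Category.assoc _ _ _).trans ?_))
      refine congrArg (pu (M.jS.obj K) _ _ ≫ ·) ?_
      rw [← Functor.map_comp, ← op_comp]
      congr 2)
  refine ⟨f, ?_, ?_⟩
  · refine pull_ext fun n W => ?_
    refine (Category.assoc _ _ _).symm.trans ((congrArg (· ≫ _) (M.pu_pullComp K n W)).trans ?_)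
    refine (Category.assoc _ _ _).trans ((hf _ _ _ (M.eHom n W)).trans ?_)
    have hW : (Opens.map M.fb).obj ((imgF M.embb).obj W) ≤ W := by
      intro y hy
      obtain ⟨z, hz, e⟩ := hy
      exact M.embb.injective e ▸ hz
    have hWn : (Opens.map (θ Y' n)).obj ((Opens.map M.fb).obj ((imgF M.embb).obj W)) ≤
        (Opens.map (spMap Y' (𝟙 n))).obj ((Opens.map (θ Y' n)).obj W) := by
      rw [spMap_id]; exact ((Opens.map _).map (homOfLE hW)).le
    show K.obj.map _ ≫ pu (M.jS.obj K) n _ ≫ _ = pu (M.jS.obj K) n W ≫ 𝟙 _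
    have e : (K.obj.map (homOfLE (M.img_preimage_le ((imgF M.embb).obj W))).op) =
        (M.jS.obj K).obj.map (homOfLE hW).op := congrArg _ (Subsingleton.elim _ _)
    refine (congrArg (· ≫ _) e).trans ?_
    refine (Category.assoc _ _ _).symm.trans ((congrArg (· ≫ _) (pu_map (homOfLE hW) hWn)).trans ?_)
    refine (Category.assoc _ _ _).trans (congrArg (pu (M.jS.obj K) n W ≫ ·) ?_)
    refine (N'.obj.map_comp _ _).symm.trans (Eq.trans ?_ (N'.obj.map_id _))
    exact congrArg (fun t => N'.obj.map t) (congrArg Quiver.Hom.op (tot_hom_ext (by simp) :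
      M.invHom (M.eHom n W) ≫ ph (𝟙 n) hWn = 𝟙 _))
  · refine restr_pull_ext (totTop Y') M.Im fun c U g hg => ?_
    let N := (pullF Y).obj K
    show pu K _ U ≫ N.obj.map g.op ≫ f.hom.app (op c) ≫ (M.pullComp K).hom.app (op c) =
      pu K _ U ≫ N.obj.map g.op ≫ 𝟙 _
    refine (congrArg (pu K _ U ≫ ·) (Category.assoc _ _ _).symm).trans ((Category.assoc _ _ _).symm.trans
      ((congrArg (· ≫ _) (hf c _ U g)).trans ?_))
    show (K.obj.map _ ≫ pu (M.jS.obj K) c.base.unop _ ≫ N'.obj.map (M.invHom g).op) ≫ _ = _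
    refine (Category.assoc _ _ _).trans ((congrArg (K.obj.map _ ≫ ·) ((Category.assoc _ _ _).trans
      ((congrArg (pu (M.jS.obj K) c.base.unop _ ≫ ·) ((M.pullComp K).hom.naturality (M.invHom g).op)).trans
        ((Category.assoc _ _ _).symm.trans (congrArg (· ≫ _) (M.pu_pullComp K _ _)))))).trans ?_)
    have h : (Opens.map (θ Y c.base.unop)).obj ((imgF M.embb).obj ((Opens.map M.fb).obj U)) ≤
        (Opens.map (spMap Y (𝟙 _))).obj ((Opens.map (θ Y c.base.unop)).obj U) := by
      rw [spMap_id]; exact ((Opens.map _).map (homOfLE (M.img_preimage_le U))).le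
    refine (congrArg (K.obj.map _ ≫ ·) (Category.assoc _ _ _)).trans ?_
    refine (Category.assoc _ _ _).symm.trans
      ((congrArg (· ≫ _) (pu_map (homOfLE (M.img_preimage_le U)) h)).trans ?_)
    refine (Category.assoc _ _ _).trans (congrArg (pu K _ U ≫ ·) ?_)
    refine Eq.trans ?_ (Category.comp_id _).symm
    show N.obj.map _ ≫ N.obj.map _ ≫ N.obj.map (M.Im.map (M.invHom g)).op = _
    rw [← Functor.map_comp, ← Functor.map_comp, ← op_comp, ← op_comp]
    refine congrArg (fun t => N.obj.map (Quiver.Hom.op t)) (tot_hom_ext ?_)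
    rw [hg]
    simp [Im]

end OpenMor

end Groth.Agent.FibDescLib
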