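import Groth.Agent.FibDescLib.Basic
import Mathlib.CategoryTheory.Sites.LeftExact

/-!
The direct image of an augmented simplicial space: projections and universal property; exactness of
the inverse image.
-/

set_option autoImplicit false
set_option backward.isDefEq.respectTransparency false
set_option backward.isDefEq.respectTransparency.types false
set_option backward.defeqAttrib.useBackward true
set_option linter.style.haveILetI false

universe u

open CategoryTheory CategoryTheory.Limits Opposite TopologicalSpace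
open CategoryTheory.Pseudofunctor CategoryTheory.Pseudofunctor.CoGrothendieck

namespace Groth.Agent.FibDescLib

theorem preservesFiniteLimits_sheafPullback {C D : Type u} [SmallCategory C] [SmallCategory D]
    (J : GrothendieckTopology C) (K : GrothendieckTopology D) (G : C ⥤ D) [RepresentablyFlat G]
    [G.IsContinuous J K] : PreservesFiniteLimits (G.sheafPullback AddCommGrpCat.{u} J K) := by
  have : PreservesFiniteLimits (G.op.lan : (Cᵒᵖ ⥤ AddCommGrpCat.{u}) ⥤ _) := by
    have : ReflectsLimits (forget AddCommGrpCat.{u}) := reflectsLimits_of_reflectsIsomorphisms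
    exact lan_preservesFiniteLimits_of_flat (E := AddCommGrpCat.{u}) G
  exact Functor.sheafPullbackConstruction.preservesFiniteLimits G AddCommGrpCat.{u} J K

variable {Ix : Type} [SmallCategory Ix] (Y : (WithInitial Ix)ᵒᵖ ⥤ TopCat.{u})

/-- Abelian sheaves on the simplicial part. -/
noncomputable abbrev DS : Type (u + 1) := FibDesc.DSh (FibDesc.topAug Y) (FibDesc.topAugTop Y) AddCommGrpCat.{u}

/-- Abelian sheaves on the base. -/
noncomputable abbrev BS : Type (u + 1) := FibDesc.BaseSh (FibDesc.topAug Y) (FibDesc.topAugTop Y) AddCommGrpCat.{u}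

/-- The topology of the simplicial part. -/
noncomputable abbrev totTop : GrothendieckTopology (Tot Y) := FibDesc.totPart (FibDesc.topAug Y) (FibDesc.topAugTop Y)

instance incl_isContinuous : (FibDesc.incl (FibDesc.topAug Y)).IsContinuous (totTop Y)
    (FibDesc.totAug (FibDesc.topAug Y) (FibDesc.topAugTop Y)) :=
  baseChange_isContinuous _ isPreFibSite

instance incl_isCocontinuous : (FibDesc.incl (FibDesc.topAug Y)).IsCocontinuous (totTop Y)
    (FibDesc.totAug (FibDesc.topAug Y) (FibDesc.topAugTop Y)) :=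
  baseChange_isCocontinuous _ isPreFibSite

instance eps_isContinuous : (FibDesc.eps (FibDesc.topAug Y)).IsContinuous
    (FibDesc.topAugTop Y (FibDesc.bot Ix)) (FibDesc.totAug (FibDesc.topAug Y) (FibDesc.topAugTop Y)) :=
  Groth.Agent.FibSiteLib.isContinuous_ι isPreFibSite _

/-- A morphism of the augmented total category into the fibre over the base. -/
theorem aug_toBot_le {x : Aug Y} {U : Opens (base Y)} (g : x ⟶ (FibDesc.eps (FibDesc.topAug Y)).obj U) :
    (show Opens (Y.obj x.base) from x.fiber) ≤ (Opens.map (Y.map g.base)).obj U :=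
  leOfHom (show (show Opens (Y.obj x.base) from x.fiber) ⟶ (Opens.map (Y.map g.base)).obj U from g.fiber)

theorem aug_bot_ext {x : Aug Y} {U : Opens (base Y)} (g g' : x ⟶ (FibDesc.eps (FibDesc.topAug Y)).obj U) :
    g = g' :=
  aug_hom_ext (Quiver.Hom.unop_inj (WithInitial.starInitial.hom_ext _ _))

instance eps_flat : RepresentablyFlat (FibDesc.eps (FibDesc.topAug Y)) := by
  refine ⟨fun x => ?_⟩
  let b : x.base ⟶ FibDesc.bot Ix := (WithInitial.starInitial.to x.base.unop).op
  have hb : ∀ {U : Opens (base Y)} (g : x ⟶ (FibDesc.eps (FibDesc.topAug Y)).obj U), g.base = b :=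
    fun g => Quiver.Hom.unop_inj (WithInitial.starInitial.hom_ext _ _)
  let V : Opens (Y.obj x.base) := x.fiber
  let mk : ∀ U : Opens (base Y), V ≤ (Opens.map (Y.map b)).obj U →
      StructuredArrow x (FibDesc.eps (FibDesc.topAug Y)) := fun U h =>
    StructuredArrow.mk (Y := U) ⟨b, (show V ⟶ (Opens.map (Y.map b)).obj U from homOfLE h)⟩
  have hle : ∀ A : StructuredArrow x (FibDesc.eps (FibDesc.topAug Y)),
      V ≤ (Opens.map (Y.map b)).obj (show Opens (base Y) from A.right) := fun A => by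
    have := aug_toBot_le Y A.hom
    rwa [hb] at this
  have : IsCofilteredOrEmpty (StructuredArrow x (FibDesc.eps (FibDesc.topAug Y))) :=
    { cone_objs := fun A B => ⟨mk ((show Opens (base Y) from A.right) ⊓ (show Opens (base Y) from B.right))
          (le_inf (hle A) (hle B)),
        StructuredArrow.homMk (show _ ⟶ (show Opens (base Y) from A.right) from homOfLE inf_le_left)
          (aug_bot_ext Y _ _),
        StructuredArrow.homMk (show _ ⟶ (show Opens (base Y) from B.right) from homOfLE inf_le_right)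
          (aug_bot_ext Y _ _), trivial⟩
      cone_maps := fun A B f g => ⟨A, 𝟙 A, by
        congr 1
        exact StructuredArrow.ext _ _ (opens_thin (X := base Y) f.right g.right)⟩ }
  have : Nonempty (StructuredArrow x (FibDesc.eps (FibDesc.topAug Y))) :=
    ⟨mk ⊤ fun _ _ => trivial⟩
  exact IsCofiltered.mk

instance extend_lex : PreservesFiniteLimits
    (FibSite.extend (FibDesc.topAug Y) (FibDesc.topAugTop Y) AddCommGrpCat.{u} (FibDesc.bot Ix)) :=
  preservesFiniteLimits_sheafPullback _ _ _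

instance pull_lex : PreservesFiniteLimits
    (FibDesc.pull (FibDesc.topAug Y) (FibDesc.topAugTop Y) AddCommGrpCat.{u}) := by
  have : (Functor.sheafPushforwardContinuous (FibDesc.incl (FibDesc.topAug Y)) AddCommGrpCat.{u} (totTop Y)
      (FibDesc.totAug (FibDesc.topAug Y) (FibDesc.topAugTop Y))).IsLeftAdjoint :=
    ((FibDesc.incl (FibDesc.topAug Y)).sheafAdjunctionCocontinuous _ _ _).isLeftAdjoint
  have : PreservesFiniteLimits (Functor.sheafPushforwardContinuous (FibDesc.incl (FibDesc.topAug Y))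
      AddCommGrpCat.{u} (totTop Y) (FibDesc.totAug (FibDesc.topAug Y) (FibDesc.topAugTop Y))) := by
    have : PreservesLimitsOfSize.{0, 0} (Functor.sheafPushforwardContinuous (FibDesc.incl (FibDesc.topAug Y))
        AddCommGrpCat.{u} (totTop Y) (FibDesc.totAug (FibDesc.topAug Y) (FibDesc.topAugTop Y))) :=
      ((FibDesc.incl (FibDesc.topAug Y)).sheafAdjunctionContinuous AddCommGrpCat.{u} (totTop Y)
        (FibDesc.totAug (FibDesc.topAug Y) (FibDesc.topAugTop Y))).rightAdjoint_preservesLimits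
    exact PreservesLimitsOfSize.preservesFiniteLimits _
  exact comp_preservesFiniteLimits _ _

/-- The inverse image. -/
noncomputable abbrev pullF : BS Y ⥤ DS Y :=
  FibDesc.pull (FibDesc.topAug Y) (FibDesc.topAugTop Y) AddCommGrpCat.{u}

/-- The direct image. -/
noncomputable abbrev pushF : DS Y ⥤ BS Y :=
  FibDesc.push (FibDesc.topAug Y) (FibDesc.topAugTop Y) AddCommGrpCat.{u}

section RanTools

variable {C D : Type u} [SmallCategory C] [SmallCategory D] (G : C ⥤ D)

/-- Reading a right Kan extension along an arrow. -/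
noncomputable def rπ (P : Cᵒᵖ ⥤ AddCommGrpCat.{u}) {d : D} {c : C} (g : G.obj c ⟶ d) :
    (G.op.ran.obj P).obj (op d) ⟶ P.obj (op c) :=
  (G.op.ran.obj P).map g.op ≫ (G.op.ranCounit.app P).app (op c)

variable {G}

theorem rπ_comp (P : Cᵒᵖ ⥤ AddCommGrpCat.{u}) {d : D} {c c' : C} (h : c' ⟶ c) (g : G.obj c ⟶ d) :
    rπ G P (G.map h ≫ g) = rπ G P g ≫ P.map h.op := by
  have := (G.op.ranCounit.app P).naturality h.op
  simp only [rπ, op_comp, Functor.map_comp, Category.assoc]
  exact congrArg ((G.op.ran.obj P).map g.op ≫ ·) this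

theorem map_rπ (P : Cᵒᵖ ⥤ AddCommGrpCat.{u}) {d d' : D} {c : C} (k : d' ⟶ d) (g : G.obj c ⟶ d') :
    (G.op.ran.obj P).map k.op ≫ rπ G P g = rπ G P (g ≫ k) := by
  simp only [rπ, op_comp, Functor.map_comp, Category.assoc]

theorem ran_map_rπ {P Q : Cᵒᵖ ⥤ AddCommGrpCat.{u}} (f : P ⟶ Q) {d : D} {c : C} (g : G.obj c ⟶ d) :
    (G.op.ran.map f).app (op d) ≫ rπ G Q g = rπ G P g ≫ f.app (op c) := by
  have := congrArg (fun t => NatTrans.app t (op c)) (G.op.ranCounit.naturality f)
  simp only [rπ, Category.assoc, ← (G.op.ran.map f).naturality_assoc]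
  exact congrArg ((G.op.ran.obj P).map g.op ≫ ·) this

theorem rπ_ext {P : Cᵒᵖ ⥤ AddCommGrpCat.{u}} {d : D} {Z : AddCommGrpCat.{u}}
    {f f' : Z ⟶ (G.op.ran.obj P).obj (op d)}
    (h : ∀ (c : C) (g : G.obj c ⟶ d), f ≫ rπ G P g = f' ≫ rπ G P g) : f = f' :=
  (G.op.isPointwiseRightKanExtensionRanCounit P (op d)).hom_ext fun j => h j.right.unop j.hom.unop

theorem exists_rlift {P : Cᵒᵖ ⥤ AddCommGrpCat.{u}} {d : D} {Z : AddCommGrpCat.{u}}
    (Φ : ∀ c : C, (G.obj c ⟶ d) → (Z ⟶ P.obj (op c)))
    (hΦ : ∀ (c c' : C) (h : c' ⟶ c) (g : G.obj c ⟶ d), Φ c' (G.map h ≫ g) = Φ c g ≫ P.map h.op) :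
    ∃ f : Z ⟶ (G.op.ran.obj P).obj (op d), ∀ c g, f ≫ rπ G P g = Φ c g := by
  let s : Cone (StructuredArrow.proj (op d) G.op ⋙ P) :=
    { pt := Z
      π :=
        { app := fun j => Φ j.right.unop j.hom.unop
          naturality := fun j j' φ => by
            have hw : G.map φ.right.unop ≫ j.hom.unop = j'.hom.unop := by
              rw [← StructuredArrow.w φ]; rfl
            show 𝟙 Z ≫ Φ j'.right.unop j'.hom.unop = Φ j.right.unop j.hom.unop ≫ P.map φ.right
            rw [Category.id_comp, ← hw]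
            exact hΦ _ _ φ.right.unop j.hom.unop } }
  exact ⟨(G.op.isPointwiseRightKanExtensionRanCounit P (op d)).lift s,
    fun c g => (G.op.isPointwiseRightKanExtensionRanCounit P (op d)).fac s (StructuredArrow.mk g.op)⟩

theorem homEquiv_rπ (J : GrothendieckTopology C) (K : GrothendieckTopology D) [G.IsContinuous J K]
    [G.IsCocontinuous J K] {X : Sheaf K AddCommGrpCat.{u}} {P : Sheaf J AddCommGrpCat.{u}}
    (f : (G.sheafPushforwardContinuous AddCommGrpCat.{u} J K).obj X ⟶ P) {d : D} {c : C} (g : G.obj c ⟶ d) :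
    ((G.sheafAdjunctionCocontinuous AddCommGrpCat.{u} J K).homEquiv X P f).hom.app (op d) ≫ rπ G P.obj g =
      X.obj.map g.op ≫ f.hom.app (op c) := by
  let φ := (G.sheafAdjunctionCocontinuous AddCommGrpCat.{u} J K).homEquiv X P f
  have hf : f = (G.sheafPushforwardContinuous AddCommGrpCat.{u} J K).map φ ≫
      (G.sheafAdjunctionCocontinuous AddCommGrpCat.{u} J K).counit.app P :=
    (Equiv.symm_apply_apply _ f).symm.trans (Adjunction.homEquiv_counit _ X P φ)
  have hc := G.sheafAdjunctionCocontinuous_counit_app_hom AddCommGrpCat.{u} J K P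
  rw [Functor.ranAdjunction_counit] at hc
  have hf' : f.hom.app (op c) = φ.hom.app (op (G.obj c)) ≫ (G.op.ranCounit.app P.obj).app (op c) := by
    refine (congrArg (fun k => k.hom.app (op c)) hf).trans ?_
    show φ.hom.app (op (G.obj c)) ≫ ((G.sheafAdjunctionCocontinuous AddCommGrpCat.{u} J K).counit.app P).hom.app (op c) = _
    rw [hc]
  show φ.hom.app (op d) ≫ (G.op.ran.obj P.obj).map g.op ≫ (G.op.ranCounit.app P.obj).app (op c) = _
  rw [hf']
  exact (reassoc_of% (φ.hom.naturality g.op).symm) _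

end RanTools

variable {Y}

/-- The projections of the direct image. -/
noncomputable def pπ (N : DS Y) {n : Ix} {V : Opens (sp Y n)} {U : Opens (base Y)}
    (h : V ≤ (Opens.map (θ Y n)).obj U) :
    ((pushF Y).obj N).obj.obj (op U) ⟶ N.obj.obj (op (pob n V)) :=
  rπ (FibDesc.incl (FibDesc.topAug Y)) N.obj (toBot h)

theorem pπ_ext {N : DS Y} {U : Opens (base Y)} {Z : AddCommGrpCat.{u}}
    {f f' : Z ⟶ ((pushF Y).obj N).obj.obj (op U)}
    (h : ∀ n, f ≫ pπ N (n := n) (U := U) le_rfl = f' ≫ pπ N le_rfl) : f = f' := by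
  refine rπ_ext (G := FibDesc.incl (FibDesc.topAug Y)) fun c g => ?_
  let k : c ⟶ pob c.base.unop ((Opens.map (θ Y c.base.unop)).obj U) :=
    ph (𝟙 _) (by rw [spMap_id]; exact toBot_le g)
  have e : g = (FibDesc.incl (FibDesc.topAug Y)).map k ≫ toBot le_rfl := toBot_ext _ _
  rw [e, rπ_comp]
  exact (Category.assoc _ _ _).symm.trans ((congrArg (· ≫ _) (h c.base.unop)).trans (Category.assoc _ _ _))

theorem exists_plift {N : DS Y} {U : Opens (base Y)} {Z : AddCommGrpCat.{u}}
    (φ : ∀ n, Z ⟶ N.obj.obj (op (pob n ((Opens.map (θ Y n)).obj U))))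
    (hφ : ∀ n m (a : n ⟶ m) (h : (Opens.map (θ Y m)).obj U ≤ (Opens.map (spMap Y a)).obj ((Opens.map (θ Y n)).obj U)),
      φ m = φ n ≫ N.obj.map (ph a h).op) :
    ∃ f : Z ⟶ ((pushF Y).obj N).obj.obj (op U), ∀ n, f ≫ pπ N (n := n) (U := U) le_rfl = φ n := by
  let k : ∀ c : Tot Y, ((FibDesc.incl (FibDesc.topAug Y)).obj c ⟶ (FibDesc.eps (FibDesc.topAug Y)).obj U) →
      (c ⟶ pob c.base.unop ((Opens.map (θ Y c.base.unop)).obj U)) :=
    fun c g => ph (𝟙 _) (by rw [spMap_id]; exact toBot_le g)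
  obtain ⟨f, hf⟩ := exists_rlift (G := FibDesc.incl (FibDesc.topAug Y)) (P := N.obj)
    (fun c g => φ c.base.unop ≫ N.obj.map (k c g).op) (fun c c' h g => by
      have hθ : (Opens.map (θ Y c'.base.unop)).obj U ≤
          (Opens.map (spMap Y h.base.unop)).obj ((Opens.map (θ Y c.base.unop)).obj U) := by
        intro y hy
        show (spMap Y h.base.unop ≫ θ Y c.base.unop) y ∈ U
        rw [θ_comp]
        exact hy
      rw [hφ _ _ h.base.unop hθ, Category.assoc, Category.assoc, ← N.obj.map_comp, ← N.obj.map_comp,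
        ← op_comp, ← op_comp]
      congr 3
      exact tot_hom_ext (by simp [k]))
  refine ⟨f, fun n => (hf _ _).trans ?_⟩
  have : k (pob n ((Opens.map (θ Y n)).obj U)) (toBot le_rfl) = 𝟙 _ := tot_hom_ext (by simp [k])
  rw [this]
  exact (congrArg (φ n ≫ ·) (N.obj.map_id _)).trans (Category.comp_id _)

theorem map_pπ (N : DS Y) {n : Ix} {U U' : Opens (base Y)} (i : U' ⟶ U)
    (h : (Opens.map (θ Y n)).obj U' ≤ (Opens.map (spMap Y (𝟙 n))).obj ((Opens.map (θ Y n)).obj U)) :
    ((pushF Y).obj N).obj.map i.op ≫ pπ N (n := n) (U := U') le_rfl =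
      pπ N (U := U) le_rfl ≫ N.obj.map (ph (𝟙 n) h).op := by
  refine (map_rπ (G := FibDesc.incl (FibDesc.topAug Y)) N.obj ((FibDesc.eps (FibDesc.topAug Y)).map i) _).trans ?_
  refine Eq.trans ?_ (rπ_comp N.obj (ph (𝟙 n) h) _)
  exact congrArg _ (toBot_ext _ _)

theorem pushMap_pπ {N N' : DS Y} (f : N ⟶ N') {n : Ix} {U : Opens (base Y)} :
    ((pushF Y).map f).hom.app (op U) ≫ pπ N' (n := n) le_rfl =
      pπ N le_rfl ≫ f.hom.app (op (pob n ((Opens.map (θ Y n)).obj U))) :=
  ran_map_rπ f.hom _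

end Groth.Agent.FibDescLib
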