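import Groth.Agent.FibDescLib.Glue
import Groth.Agent.FibDescLib.MonoLan

/-!
Augmented families built from levels; reindexing and levelwise maps, on total sites.
-/

set_option autoImplicit false
set_option backward.isDefEq.respectTransparency false
set_option backward.isDefEq.respectTransparency.types false
set_option backward.defeqAttrib.useBackward true
set_option linter.style.haveILetI false

universe u

open CategoryTheory CategoryTheory.Limits Opposite TopologicalSpace
open CategoryTheory.Pseudofunctor CategoryTheory.Pseudofunctor.CoGrothendieck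

namespace Groth.Agent.FibDescLib

section Make

variable {D : Type} [SmallCategory D]

/-- The levels of an augmented family. -/
abbrev lev (Y : (WithInitial D)ᵒᵖ ⥤ TopCat.{u}) : Dᵒᵖ ⥤ TopCat.{u} := (FibDesc.toAug D) ⋙ Y

/-- An augmented family from its levels and augmentation. -/
def mkAug (S : TopCat.{u}) (Zl : Dᵒᵖ ⥤ TopCat.{u}) (θl : ∀ d, Zl.obj (op d) ⟶ S)
    (hθ : ∀ {n m : D} (a : n ⟶ m), Zl.map a.op ≫ θl n = θl m) : (WithInitial D)ᵒᵖ ⥤ TopCat.{u} :=
  (WithInitial.lift (D := TopCat.{u}ᵒᵖ) Zl.rightOp (Z := op S) (fun d => (θl d).op)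
    (fun _ _ a => by
      simp only [Functor.rightOp_map, ← op_comp, hθ])).leftOp

variable {S : TopCat.{u}} {Zl : Dᵒᵖ ⥤ TopCat.{u}} {θl : ∀ d, Zl.obj (op d) ⟶ S}
  {hθ : ∀ {n m : D} (a : n ⟶ m), Zl.map a.op ≫ θl n = θl m}

theorem mkAug_spMap {n m : D} (a : n ⟶ m) : spMap (mkAug S Zl θl hθ) a = Zl.map a.op := rfl

theorem mkAug_θ (n : D) : θ (mkAug S Zl θl hθ) n = θl n := rfl

end Make

section Reindex

variable {D D' : Type} [SmallCategory D] [SmallCategory D'] (Y : (WithInitial D)ᵒᵖ ⥤ TopCat.{u})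
  (ψ : D' ⥤ D) (S' : TopCat.{u}) (θ' : ∀ k, sp Y (ψ.obj k) ⟶ S')
  (hθ' : ∀ {n m : D'} (a : n ⟶ m), spMap Y (ψ.map a) ≫ θ' n = θ' m)

/-- The reindexed family, with a new augmentation. -/
abbrev reAug : (WithInitial D')ᵒᵖ ⥤ TopCat.{u} := mkAug S' (ψ.op ⋙ lev Y) θ' (fun a => hθ' a)

/-- The functor of total categories of a reindexing. -/
noncomputable def Re : Tot (reAug Y ψ S' θ' hθ') ⥤ Tot Y where
  obj c := pob (ψ.obj c.base.unop) (fib c)
  map {c c'} g := ph (ψ.map g.base.unop) (fun _ hy => hom_le g hy)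
  map_id c := tot_hom_ext (by
    show (ψ.map (𝟙 c.base.unop)).op = 𝟙 _
    rw [ψ.map_id]; rfl)
  map_comp g g' := tot_hom_ext (by
    show (ψ.map (g'.base.unop ≫ g.base.unop)).op = _
    rw [ψ.map_comp]; rfl)

theorem Re_map_base {c c' : Tot (reAug Y ψ S' θ' hθ')} (g : c ⟶ c') :
    ((Re Y ψ S' θ' hθ').map g).base = (ψ.map g.base.unop).op := rfl

/-- Reindexing on a fibre. -/
noncomputable def ReιIso (i : D'ᵒᵖ) :
    Pseudofunctor.CoGrothendieck.ι (FibDesc.part (FibDesc.topAug (reAug Y ψ S' θ' hθ'))) i ⋙ Re Y ψ S' θ' hθ' ≅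
      Pseudofunctor.CoGrothendieck.ι (FibDesc.part (FibDesc.topAug Y)) (op (ψ.obj i.unop)) :=
  NatIso.ofComponents (fun _ => Iso.refl _) fun φ => tot_hom_ext (by
    simp [Re])

instance Re_isContinuous : (Re Y ψ S' θ' hθ').IsContinuous (totTop (reAug Y ψ S' θ' hθ')) (totTop Y) := by
  rw [Groth.Agent.FibSiteLib.isContinuous_iff (isPreFibSite_part (Y := reAug Y ψ S' θ' hθ'))]
  intro i
  have : (Pseudofunctor.CoGrothendieck.ι (FibDesc.part (FibDesc.topAug Y)) (op (ψ.obj i.unop))).IsContinuous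
      (FibDesc.partTop (FibDesc.topAug (reAug Y ψ S' θ' hθ')) (FibDesc.topAugTop (reAug Y ψ S' θ' hθ')) i)
      (totTop Y) := Groth.Agent.FibSiteLib.isContinuous_ι (isPreFibSite_part (Y := Y)) (op (ψ.obj i.unop))
  exact Functor.isContinuous_of_iso (ReιIso Y ψ S' θ' hθ' i).symm _ _

instance Re_isCocontinuous : (Re Y ψ S' θ' hθ').IsCocontinuous (totTop (reAug Y ψ S' θ' hθ')) (totTop Y) := by
  refine ⟨fun {X} T hT => ?_⟩
  rw [Groth.Agent.FibSiteLib.mem_totalTopology_iff (isPreFibSite_part (Y := Y))] at hT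
  rw [Groth.Agent.FibSiteLib.mem_totalTopology_iff (isPreFibSite_part (Y := reAug Y ψ S' θ' hθ'))]
  refine (Opens.grothendieckTopology (sp Y (ψ.obj X.base.unop))).superset_covering ?_ hT
  intro V v hv
  show T ((Re Y ψ S' θ' hθ').map ((Pseudofunctor.CoGrothendieck.ι
    (FibDesc.part (FibDesc.topAug (reAug Y ψ S' θ' hθ'))) X.base).map v))
  have e : (Re Y ψ S' θ' hθ').map ((Pseudofunctor.CoGrothendieck.ι
      (FibDesc.part (FibDesc.topAug (reAug Y ψ S' θ' hθ'))) X.base).map v) =
      (Pseudofunctor.CoGrothendieck.ι (FibDesc.part (FibDesc.topAug Y)) (op (ψ.obj X.base.unop))).map v :=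
    tot_hom_ext (by
      simp [Re])
  exact (congrArg (fun m => T m) e).mpr hv

/-- Restriction along a reindexing. -/
noncomputable abbrev jR : DS Y ⥤ DS (reAug Y ψ S' θ' hθ') :=
  (Re Y ψ S' θ' hθ').sheafPushforwardContinuous AddCommGrpCat.{u} (totTop (reAug Y ψ S' θ' hθ')) (totTop Y)

/-- Coextension along a reindexing. -/
noncomputable abbrev ranR : DS (reAug Y ψ S' θ' hθ') ⥤ DS Y :=
  (Re Y ψ S' θ' hθ').sheafPushforwardCocontinuous AddCommGrpCat.{u} (totTop (reAug Y ψ S' θ' hθ')) (totTop Y)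

instance jR_additive : (jR Y ψ S' θ' hθ').Additive where

instance jR_lex : PreservesFiniteLimits (jR Y ψ S' θ' hθ') := by
  have := ((Re Y ψ S' θ' hθ').sheafAdjunctionContinuous AddCommGrpCat.{u}
    (totTop (reAug Y ψ S' θ' hθ')) (totTop Y)).rightAdjoint_preservesLimits
  infer_instance

instance jR_rex : PreservesFiniteColimits (jR Y ψ S' θ' hθ') := by
  have := ((Re Y ψ S' θ' hθ').sheafAdjunctionCocontinuous AddCommGrpCat.{u}
    (totTop (reAug Y ψ S' θ' hθ')) (totTop Y)).leftAdjoint_preservesColimits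
  infer_instance

theorem injective_ranR (M : DS (reAug Y ψ S' θ' hθ')) [Injective M] :
    Injective ((ranR Y ψ S' θ' hθ').obj M) := by
  have : (jR Y ψ S' θ' hθ').PreservesMonomorphisms := inferInstance
  exact Injective.injective_of_adjoint
    ((Re Y ψ S' θ' hθ').sheafAdjunctionCocontinuous AddCommGrpCat.{u} (totTop (reAug Y ψ S' θ' hθ')) (totTop Y)) M

end Reindex

/-- A levelwise map between families with the same index category. -/
structure LMap {D : Type} [SmallCategory D] (Z Y : (WithInitial D)ᵒᵖ ⥤ TopCat.{u}) where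
  /-- The components. -/
  t : ∀ d, sp Z d ⟶ sp Y d
  nat : ∀ {n m : D} (a : n ⟶ m), spMap Z a ≫ t n = t m ≫ spMap Y a

namespace LMap

variable {D : Type} [SmallCategory D] {Z Y : (WithInitial D)ᵒᵖ ⥤ TopCat.{u}} (τ : LMap Z Y)

theorem nat_apply {n m : D} (a : n ⟶ m) (z : sp Z m) : τ.t n (spMap Z a z) = spMap Y a (τ.t m z) :=
  ConcreteCategory.congr_hom (τ.nat a) z

/-- The functor of preimages. -/
noncomputable def H : Tot Y ⥤ Tot Z where
  obj c := pob c.base.unop ((Opens.map (τ.t c.base.unop)).obj (fib c))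
  map {c c'} g := ph g.base.unop (by
    intro z hz
    show τ.t c'.base.unop (spMap Z g.base.unop z) ∈ fib c'
    rw [τ.nat_apply]
    exact hom_le g hz)
  map_id _ := tot_hom_ext rfl
  map_comp _ _ := tot_hom_ext rfl

theorem H_map_base {c c' : Tot Y} (g : c ⟶ c') : (τ.H.map g).base = g.base := rfl

/-- Preimages on a fibre. -/
noncomputable def HιIso (i : Dᵒᵖ) :
    Pseudofunctor.CoGrothendieck.ι (FibDesc.part (FibDesc.topAug Y)) i ⋙ τ.H ≅
      Opens.map (τ.t i.unop) ⋙ Pseudofunctor.CoGrothendieck.ι (FibDesc.part (FibDesc.topAug Z)) i :=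
  NatIso.ofComponents (fun _ => Iso.refl _) fun φ => tot_hom_ext (by simp [H])

instance H_isContinuous : τ.H.IsContinuous (totTop Y) (totTop Z) := by
  rw [Groth.Agent.FibSiteLib.isContinuous_iff (isPreFibSite_part (Y := Y))]
  intro i
  have := Groth.Agent.FibSiteLib.isContinuous_ι (isPreFibSite_part (Y := Z)) i
  have : (Opens.map (τ.t i.unop) ⋙ Pseudofunctor.CoGrothendieck.ι (FibDesc.part (FibDesc.topAug Z)) i).IsContinuous
      (FibDesc.partTop (FibDesc.topAug Y) (FibDesc.topAugTop Y) i) (totTop Z) :=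
    @Functor.isContinuous_comp _ _ _ _ _ _ (Opens.map (τ.t i.unop))
      (Pseudofunctor.CoGrothendieck.ι (FibDesc.part (FibDesc.topAug Z)) i)
      (Opens.grothendieckTopology (sp Y i.unop)) (Opens.grothendieckTopology (sp Z i.unop)) (totTop Z)
      inferInstance ‹_›
  exact Functor.isContinuous_of_iso (τ.HιIso i).symm _ _

theorem le_low {x : Tot Z} (A : StructuredArrow x τ.H) :
    fib x ≤ (Opens.map (spMap Z (𝟙 x.base.unop))).obj
      ((Opens.map (τ.t x.base.unop)).obj ((Opens.map (spMap Y A.hom.base.unop)).obj (fib A.right))) := by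
  rw [spMap_id]
  intro z hz
  show spMap Y A.hom.base.unop (τ.t x.base.unop z) ∈ fib A.right
  rw [← τ.nat_apply]
  exact hom_le A.hom hz

instance H_flat : RepresentablyFlat τ.H := by
  refine ⟨fun x => ?_⟩
  let n := x.base.unop
  let low : ∀ (W : Opens (sp Y n)), fib x ≤ (Opens.map (spMap Z (𝟙 n))).obj ((Opens.map (τ.t n)).obj W) →
      StructuredArrow x τ.H := fun W h =>
    StructuredArrow.mk (Y := pob n W) (ph (𝟙 n) h : pob n (fib x) ⟶ pob n ((Opens.map (τ.t n)).obj W))
  have : Nonempty (StructuredArrow x τ.H) := ⟨low ⊤ fun _ _ => trivial⟩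
  have proj : ∀ (A : StructuredArrow x τ.H) (W : Opens (sp Y n)) (h) (_ : W ≤ (Opens.map (spMap Y A.hom.base.unop)).obj (fib A.right)),
      ∃ f : low W h ⟶ A, f.right.base = A.hom.base := fun A W h hW =>
    ⟨StructuredArrow.homMk (ph A.hom.base.unop hW : pob n W ⟶ pob A.right.base.unop (fib A.right))
      (tot_hom_ext (by simp [low, H]; exact Category.id_comp _)), rfl⟩
  have : IsCofilteredOrEmpty (StructuredArrow x τ.H) :=
    { cone_objs := fun A B => by
        let W := (Opens.map (spMap Y A.hom.base.unop)).obj (fib A.right) ⊓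
          (Opens.map (spMap Y B.hom.base.unop)).obj (fib B.right)
        have h : fib x ≤ (Opens.map (spMap Z (𝟙 n))).obj ((Opens.map (τ.t n)).obj W) :=
          fun z hz => ⟨τ.le_low A hz, τ.le_low B hz⟩
        obtain ⟨f, -⟩ := proj A W h inf_le_left
        obtain ⟨g, -⟩ := proj B W h inf_le_right
        exact ⟨low W h, f, g, trivial⟩
      cone_maps := fun A B f g => by
        obtain ⟨h, hh⟩ := proj A _ (τ.le_low A) le_rfl
        refine ⟨_, h, StructuredArrow.ext _ _ (tot_hom_ext ?_)⟩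
        have hf := congrArg CoGrothendieck.Hom.base (StructuredArrow.w f)
        have hg := congrArg CoGrothendieck.Hom.base (StructuredArrow.w g)
        simp [hh]
        exact hf.trans hg.symm }
  exact IsCofiltered.mk

/-- Direct image along a levelwise map. -/
noncomputable abbrev pushL : DS Z ⥤ DS Y :=
  τ.H.sheafPushforwardContinuous AddCommGrpCat.{u} (totTop Y) (totTop Z)

instance pushL_additive : τ.pushL.Additive where

theorem injective_pushL (N : DS Z) [Injective N] : Injective (τ.pushL.obj N) := by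
  have := preservesFiniteLimits_sheafPullback (totTop Y) (totTop Z) τ.H
  exact Injective.injective_of_adjoint (τ.H.sheafAdjunctionContinuous AddCommGrpCat.{u} (totTop Y) (totTop Z)) N

end LMap

end Groth.Agent.FibDescLib
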