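import Groth.Agent.FibDescLib.Push
import Mathlib.AlgebraicTopology.SimplexCategory.Basic

/-!
An augmented simplicial space with a section and an extra degeneracy: the exact functors
`R` (the fibre in degree zero, pulled back along the section) and `T` (shift, pulled back along the
extra degeneracy).
-/

set_option autoImplicit false
set_option backward.isDefEq.respectTransparency false
set_option backward.isDefEq.respectTransparency.types false
set_option backward.defeqAttrib.useBackward true
set_option linter.style.haveILetI false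

universe u

open CategoryTheory CategoryTheory.Limits Opposite TopologicalSpace
open CategoryTheory.Pseudofunctor CategoryTheory.Pseudofunctor.CoGrothendieck

namespace Groth.Agent.FibDescLib

/-- A section of the augmentation with an extra degeneracy. -/
structure Split (Y : (WithInitial SimplexCategory)ᵒᵖ ⥤ TopCat.{u}) where
  /-- The section. -/
  sec : base Y ⟶ sp Y (SimplexCategory.mk 0)
  sec_θ : sec ≫ θ Y (SimplexCategory.mk 0) = 𝟙 _
  /-- The shift. -/
  σ : SimplexCategory ⥤ SimplexCategory
  /-- The comparison with the shift. -/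
  ι : 𝟭 SimplexCategory ⟶ σ
  /-- The new vertex. -/
  v : ∀ n, SimplexCategory.mk 0 ⟶ σ.obj n
  v_nat : ∀ {n m : SimplexCategory} (a : n ⟶ m), v n ≫ σ.map a = v m
  /-- The extra degeneracy. -/
  sh : ∀ n, sp Y n ⟶ sp Y (σ.obj n)
  sh_nat : ∀ {n m : SimplexCategory} (a : n ⟶ m), sh m ≫ spMap Y (σ.map a) = spMap Y a ≫ sh n
  sh_ι : ∀ n, sh n ≫ spMap Y (ι.app n) = 𝟙 _
  sh_v : ∀ n, sh n ≫ spMap Y (v n) = θ Y n ≫ sec

variable {Y : (WithInitial SimplexCategory)ᵒᵖ ⥤ TopCat.{u}}

theorem map_map_obj {X X' X'' : TopCat.{u}} {f : X ⟶ X'} {g : X' ⟶ X''} {h : X ⟶ X''} (e : f ≫ g = h)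
    (U : Opens X'') : (Opens.map f).obj ((Opens.map g).obj U) = (Opens.map h).obj U := by
  subst e
  rfl

namespace Split

variable (D : Split Y)

theorem sh_θ (n : SimplexCategory) : D.sh n ≫ θ Y (D.σ.obj n) = θ Y n := by
  rw [← θ_comp Y (D.ι.app n), ← Category.assoc, D.sh_ι, Category.id_comp]
  rfl

/-- The shifted family. -/
noncomputable abbrev decF : Pseudofunctor (LocallyDiscrete (SimplexCategoryᵒᵖ)ᵒᵖ) Cat.{u, u} :=
  FibSite.baseChange (FibDesc.part (FibDesc.topAug Y)) D.σ.op

/-- The total category of the shifted family. -/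
abbrev Dec : Type u := ∫ᶜ (decF D)

/-- The fibre topologies of the shifted family. -/
noncomputable abbrev decTop : FibSite.Topologies (decF D) :=
  FibSite.baseChangeTop (FibDesc.partTop (FibDesc.topAug Y) (FibDesc.topAugTop Y)) D.σ.op

/-- The total topology of the shifted family. -/
noncomputable abbrev decTot : GrothendieckTopology (Dec D) := FibSite.totalTopology (decF D) (decTop D)

/-- An object of the shifted total category. -/
abbrev dob (n : SimplexCategory) (W : Opens (sp Y (D.σ.obj n))) : Dec D := ⟨op n, W⟩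

/-- The open set underlying an object of the shifted total category. -/
abbrev dfib (c : Dec D) : Opens (sp Y (D.σ.obj c.base.unop)) := c.fiber

/-- A morphism of the shifted total category. -/
abbrev dh {n m : SimplexCategory} (a : n ⟶ m) {W : Opens (sp Y (D.σ.obj m))} {W' : Opens (sp Y (D.σ.obj n))}
    (h : W ≤ (Opens.map (spMap Y (D.σ.map a))).obj W') : D.dob m W ⟶ D.dob n W' :=
  ⟨a.op, (show W ⟶ (Opens.map (spMap Y (D.σ.map a))).obj W' from homOfLE h)⟩

theorem dhom_le {c c' : Dec D} (g : c ⟶ c') :
    D.dfib c ≤ (Opens.map (spMap Y (D.σ.map g.base.unop))).obj (D.dfib c') :=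
  leOfHom (show D.dfib c ⟶ (Opens.map (spMap Y (D.σ.map g.base.unop))).obj (D.dfib c') from g.fiber)

theorem dec_hom_ext {c c' : Dec D} {g g' : c ⟶ c'} (h : g.base = g'.base) : g = g' := by
  obtain ⟨b, f⟩ := g
  obtain ⟨b', f'⟩ := g'
  dsimp at h
  subst h
  congr
  exact opens_thin (X := sp Y (D.σ.obj c.base.unop)) f f'

/-- The functor forgetting the shift. -/
noncomputable abbrev B : Dec D ⥤ Tot Y :=
  FibSite.baseChangeFunctor (FibDesc.part (FibDesc.topAug Y)) D.σ.op

instance B_isContinuous : D.B.IsContinuous D.decTot (totTop Y) :=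
  baseChange_isContinuous _ isPreFibSite_part

instance B_isCocontinuous : D.B.IsCocontinuous D.decTot (totTop Y) :=
  baseChange_isCocontinuous _ isPreFibSite_part

theorem dec_isPreFibSite : FibSite.IsPreFibSite D.decF D.decTop :=
  baseChange_isPreFibSite _ isPreFibSite_part

/-- The functor of the extra degeneracy. -/
noncomputable def Φ : Dec D ⥤ Tot Y where
  obj c := pob c.base.unop ((Opens.map (D.sh c.base.unop)).obj (D.dfib c))
  map {c c'} g := ph g.base.unop (by
    refine le_trans ((Opens.map (D.sh c.base.unop)).map (homOfLE (D.dhom_le g))).le (le_of_eq ?_)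
    rw [map_map_obj (D.sh_nat g.base.unop), map_map_obj rfl])
  map_id _ := tot_hom_ext rfl
  map_comp _ _ := tot_hom_ext rfl

/-- The functor of the extra degeneracy on a fibre. -/
noncomputable def ΦιIso (i : SimplexCategoryᵒᵖ) :
    Pseudofunctor.CoGrothendieck.ι D.decF i ⋙ D.Φ ≅
      Opens.map (D.sh i.unop) ⋙ Pseudofunctor.CoGrothendieck.ι (FibDesc.part (FibDesc.topAug Y)) i :=
  NatIso.ofComponents (fun _ => Iso.refl _) fun φ => tot_hom_ext (by simp [Φ])

instance Φ_isContinuous : D.Φ.IsContinuous D.decTot (totTop Y) := by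
  rw [Groth.Agent.FibSiteLib.isContinuous_iff D.dec_isPreFibSite]
  intro i
  have := Groth.Agent.FibSiteLib.isContinuous_ι (isPreFibSite_part (Y := Y)) i
  have : (Opens.map (D.sh i.unop) ⋙ Pseudofunctor.CoGrothendieck.ι (FibDesc.part (FibDesc.topAug Y)) i).IsContinuous
      (D.decTop i) (totTop Y) :=
    @Functor.isContinuous_comp _ _ _ _ _ _ (Opens.map (D.sh i.unop))
      (Pseudofunctor.CoGrothendieck.ι (FibDesc.part (FibDesc.topAug Y)) i)
      (Opens.grothendieckTopology (sp Y (D.σ.obj i.unop))) (Opens.grothendieckTopology (sp Y i.unop)) (totTop Y)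
      inferInstance ‹_›
  exact Functor.isContinuous_of_iso (D.ΦιIso i).symm _ _

instance Φ_flat : RepresentablyFlat D.Φ := by
  refine ⟨fun x => ?_⟩
  let n := x.base.unop
  let mk : ∀ W : Opens (sp Y (D.σ.obj n)), fib x ≤ (Opens.map (D.sh n)).obj W → StructuredArrow x D.Φ :=
    fun W h => StructuredArrow.mk (Y := D.dob n W)
      (ph (𝟙 n) (by rw [spMap_id]; exact h) : pob n (fib x) ⟶ D.Φ.obj (D.dob n W))
  let low : StructuredArrow x D.Φ → Opens (sp Y (D.σ.obj n)) := fun A =>
    (Opens.map (spMap Y (D.σ.map A.hom.base.unop))).obj (D.dfib A.right)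
  have hle : ∀ A : StructuredArrow x D.Φ, fib x ≤ (Opens.map (D.sh n)).obj (low A) := fun A => by
    refine le_trans (hom_le A.hom) (le_of_eq ?_)
    show (Opens.map _).obj ((Opens.map (D.sh _)).obj _) = _
    rw [map_map_obj rfl, map_map_obj (D.sh_nat A.hom.base.unop)]
  let proj : ∀ (A : StructuredArrow x D.Φ) (W : Opens (sp Y (D.σ.obj n)))
      (h : fib x ≤ (Opens.map (D.sh n)).obj W) (_ : W ≤ low A), mk W h ⟶ A := fun A W h hW =>
    StructuredArrow.homMk (D.dh A.hom.base.unop hW) (tot_hom_ext (by simp [mk, Φ]; exact Category.id_comp _))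
  have : IsCofilteredOrEmpty (StructuredArrow x D.Φ) :=
    { cone_objs := fun A A' => ⟨mk (low A ⊓ low A') (le_inf (hle A) (hle A')),
        proj A (low A ⊓ low A') (le_inf (hle A) (hle A')) inf_le_left, proj A' (low A ⊓ low A') (le_inf (hle A) (hle A')) inf_le_right, trivial⟩
      cone_maps := fun A A' f g => ⟨mk (low A) (hle A), proj A _ (hle A) le_rfl, by
        refine StructuredArrow.ext _ _ (D.dec_hom_ext ?_)
        have hf := congrArg CoGrothendieck.Hom.base (StructuredArrow.w f)
        have hg := congrArg CoGrothendieck.Hom.base (StructuredArrow.w g)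
        simpa [proj, Φ] using hf.trans hg.symm⟩ }
  have : Nonempty (StructuredArrow x D.Φ) := ⟨mk ⊤ fun _ _ => trivial⟩
  exact IsCofiltered.mk

/-- Restriction to the shifted family. -/
noncomputable abbrev ρ : DS Y ⥤ Sheaf D.decTot AddCommGrpCat.{u} :=
  D.B.sheafPushforwardContinuous AddCommGrpCat.{u} D.decTot (totTop Y)

/-- The shift endofunctor. -/
noncomputable abbrev T : DS Y ⥤ DS Y :=
  D.ρ ⋙ D.Φ.sheafPullback AddCommGrpCat.{u} D.decTot (totTop Y)

/-- The topology of the space in degree zero. -/
noncomputable abbrev oTop : GrothendieckTopology (Opens (sp Y (SimplexCategory.mk 0))) :=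
  Opens.grothendieckTopology _

/-- The inclusion of the fibre in degree zero. -/
noncomputable abbrev ιo : Opens (sp Y (SimplexCategory.mk 0)) ⥤ Tot Y :=
  Pseudofunctor.CoGrothendieck.ι (FibDesc.part (FibDesc.topAug Y)) (op (SimplexCategory.mk 0))

instance ιo_isContinuous : (ιo (Y := Y)).IsContinuous oTop (totTop Y) :=
  Groth.Agent.FibSiteLib.isContinuous_ι isPreFibSite_part _

instance ιo_isCocontinuous : (ιo (Y := Y)).IsCocontinuous oTop (totTop Y) :=
  Groth.Agent.FibSiteLib.isCocontinuous_ι isPreFibSite_part _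

instance sec_isContinuous : (Opens.map D.sec).IsContinuous oTop (FibDesc.topAugTop Y (FibDesc.bot SimplexCategory)) :=
  inferInstanceAs ((Opens.map D.sec).IsContinuous (Opens.grothendieckTopology _) (Opens.grothendieckTopology (base Y)))

/-- The retraction of the inverse image. -/
noncomputable abbrev R : DS Y ⥤ BS Y :=
  (ιo (Y := Y)).sheafPushforwardContinuous AddCommGrpCat.{u} oTop (totTop Y) ⋙
    (Opens.map D.sec).sheafPullback AddCommGrpCat.{u} oTop (FibDesc.topAugTop Y (FibDesc.bot SimplexCategory))

section Exact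

variable {C E : Type u} [SmallCategory C] [SmallCategory E] (J : GrothendieckTopology C)
  (K : GrothendieckTopology E) (G : C ⥤ E) [G.IsContinuous J K]

theorem pushforward_lex : PreservesFiniteLimits (G.sheafPushforwardContinuous AddCommGrpCat.{u} J K) := by
  have : PreservesLimitsOfSize.{0, 0} (G.sheafPushforwardContinuous AddCommGrpCat.{u} J K) :=
    (G.sheafAdjunctionContinuous AddCommGrpCat.{u} J K).rightAdjoint_preservesLimits
  exact PreservesLimitsOfSize.preservesFiniteLimits _

theorem pushforward_rex [G.IsCocontinuous J K] :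
    PreservesFiniteColimits (G.sheafPushforwardContinuous AddCommGrpCat.{u} J K) := by
  have : PreservesColimitsOfSize.{0, 0} (G.sheafPushforwardContinuous AddCommGrpCat.{u} J K) :=
    (G.sheafAdjunctionCocontinuous AddCommGrpCat.{u} J K).leftAdjoint_preservesColimits
  exact PreservesColimitsOfSize.preservesFiniteColimits _

theorem pullback_rex : PreservesFiniteColimits (G.sheafPullback AddCommGrpCat.{u} J K) := by
  have : PreservesColimitsOfSize.{0, 0} (G.sheafPullback AddCommGrpCat.{u} J K) :=
    (G.sheafAdjunctionContinuous AddCommGrpCat.{u} J K).leftAdjoint_preservesColimits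
  exact PreservesColimitsOfSize.preservesFiniteColimits _

end Exact

instance T_lex : PreservesFiniteLimits D.T := by
  have := pushforward_lex D.decTot (totTop Y) D.B
  have := preservesFiniteLimits_sheafPullback D.decTot (totTop Y) D.Φ
  exact comp_preservesFiniteLimits _ _

instance T_rex : PreservesFiniteColimits D.T := by
  have := pushforward_rex D.decTot (totTop Y) D.B
  have := pullback_rex D.decTot (totTop Y) D.Φ
  exact comp_preservesFiniteColimits _ _

theorem opensMap_flat {X X' : TopCat.{u}} (f : X ⟶ X') : RepresentablyFlat (Opens.map f) := by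
  refine ⟨fun U => ?_⟩
  have : IsCofilteredOrEmpty (StructuredArrow U (Opens.map f)) :=
    { cone_objs := fun V W => ⟨StructuredArrow.mk (Y := V.right ⊓ W.right) (homOfLE (le_inf V.hom.le W.hom.le)),
        StructuredArrow.homMk (homOfLE inf_le_left) (opens_thin _ _),
        StructuredArrow.homMk (homOfLE inf_le_right) (opens_thin _ _), trivial⟩
      cone_maps := fun V W g h => ⟨V, 𝟙 V, by
        congr 1
        exact StructuredArrow.ext _ _ (opens_thin g.right h.right)⟩ }
  have : Nonempty (StructuredArrow U (Opens.map f)) :=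
    ⟨StructuredArrow.mk (Y := (⊤ : Opens X')) (homOfLE fun _ _ => trivial)⟩
  exact IsCofiltered.mk

instance R_lex : PreservesFiniteLimits D.R := by
  have := pushforward_lex (oTop (Y := Y)) (totTop Y) ιo
  have := @preservesFiniteLimits_sheafPullback _ _ _ _ (oTop (Y := Y))
    (FibDesc.topAugTop Y (FibDesc.bot SimplexCategory)) (Opens.map D.sec) (opensMap_flat D.sec) D.sec_isContinuous
  exact comp_preservesFiniteLimits _ _

instance R_rex : PreservesFiniteColimits D.R := by
  have := pushforward_rex (oTop (Y := Y)) (totTop Y) ιo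
  have := @pullback_rex _ _ _ _ (oTop (Y := Y)) (FibDesc.topAugTop Y (FibDesc.bot SimplexCategory)) (Opens.map D.sec) D.sec_isContinuous
  exact comp_preservesFiniteColimits _ _

instance T_additive : D.T.Additive := by
  have := (D.Φ.sheafAdjunctionContinuous AddCommGrpCat.{u} D.decTot (totTop Y))
  have h1 : (D.Φ.sheafPushforwardContinuous AddCommGrpCat.{u} D.decTot (totTop Y)).Additive := ⟨rfl⟩
  have h2 : D.ρ.Additive := ⟨rfl⟩
  have := Adjunction.left_adjoint_additive (D.Φ.sheafAdjunctionContinuous AddCommGrpCat.{u} D.decTot (totTop Y))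
  infer_instance

instance R_additive : D.R.Additive := by
  have h1 : ((Opens.map D.sec).sheafPushforwardContinuous AddCommGrpCat.{u} oTop
      (FibDesc.topAugTop Y (FibDesc.bot SimplexCategory))).Additive := ⟨rfl⟩
  have h2 : ((ιo (Y := Y)).sheafPushforwardContinuous AddCommGrpCat.{u} oTop (totTop Y)).Additive := ⟨rfl⟩
  have := Adjunction.left_adjoint_additive ((Opens.map D.sec).sheafAdjunctionContinuous AddCommGrpCat.{u} oTop
    (FibDesc.topAugTop Y (FibDesc.bot SimplexCategory)))
  infer_instance

end Split

end Groth.Agent.FibDescLib
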