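import Groth.Agent.FibDescLib.Tower

/-!
Slices of a family over a family: base change of the direct image and of the inverse image.
-/

set_option autoImplicit false
set_option backward.isDefEq.respectTransparency false
set_option backward.isDefEq.respectTransparency.types false
set_option backward.defeqAttrib.useBackward true
set_option linter.style.haveILetI false

universe u

open CategoryTheory CategoryTheory.Limits Opposite TopologicalSpace
open CategoryTheory.Pseudofunctor CategoryTheory.Pseudofunctor.CoGrothendieck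

namespace Groth.Agent.FibDescLib

/-- A universal family of indices above `n`. -/
structure Slice {D B : Type} [SmallCategory D] [SmallCategory B] (p : D ⥤ B) (n : B)
    (K : Type) [SmallCategory K] where
  /-- The inclusion. -/
  ψ : K ⥤ D
  /-- The structure maps. -/
  γ : ∀ k, n ⟶ p.obj (ψ.obj k)
  γ_nat : ∀ {k k' : K} (a : k ⟶ k'), γ k ≫ p.map (ψ.map a) = γ k'
  /-- The projection. -/
  π : D ⥤ K
  /-- The comparison. -/
  f : ∀ {d : D}, (n ⟶ p.obj d) → (ψ.obj (π.obj d) ⟶ d)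
  f_fac : ∀ {d : D} (a : n ⟶ p.obj d), γ _ ≫ p.map (f a) = a
  f_nat : ∀ {d d' : D} (a : n ⟶ p.obj d) (h : d ⟶ d'), ψ.map (π.map h) ≫ f (a ≫ p.map h) = f a ≫ h
  /-- The retraction. -/
  ρ : ψ ⋙ π ≅ 𝟭 K
  f_γ : ∀ k, f (γ k) = ψ.map (ρ.hom.app k)

namespace Slice

variable {D B : Type} [SmallCategory D] [SmallCategory B] {p : D ⥤ B}
  {Y : (WithInitial B)ᵒᵖ ⥤ TopCat.{u}} (T : Tower p Y) {n : B} {K : Type} [SmallCategory K] (σ : Slice p n K)

/-- The map of a slice to the space in degree `n`. -/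
abbrev st (k : K) : sp T.Z (σ.ψ.obj k) ⟶ sp Y n := T.τ (σ.ψ.obj k) ≫ spMap Y (σ.γ k)

theorem st_nat {k k' : K} (a : k ⟶ k') : spMap T.Z (σ.ψ.map a) ≫ σ.st T k = σ.st T k' := by
  show T.Zl.map (σ.ψ.map a).op ≫ T.τ _ ≫ spMap Y (σ.γ k) = T.τ _ ≫ spMap Y (σ.γ k')
  rw [← Category.assoc, T.τ_nat, Category.assoc, ← spMap_comp, σ.γ_nat]

/-- The slice, augmented to the space in degree `n`. -/
abbrev Zn : (WithInitial K)ᵒᵖ ⥤ TopCat.{u} := reAug T.Z σ.ψ (sp Y n) (σ.st T) (σ.st_nat T)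

/-- The functor to the total family. -/
noncomputable abbrev R : Tot (σ.Zn T) ⥤ Tot T.Z := Re T.Z σ.ψ (sp Y n) (σ.st T) (σ.st_nat T)

/-- Restriction to the slice. -/
noncomputable abbrev rZ : DS T.Z ⥤ DS (σ.Zn T) := jR T.Z σ.ψ (sp Y n) (σ.st T) (σ.st_nat T)

theorem st_θ (k : K) : σ.st T k ≫ θ Y n = T.θl (σ.ψ.obj k) := by
  rw [st, Category.assoc, θ_comp, T.w]

theorem st_comp_f {d : D} (a : n ⟶ p.obj d) :
    spMap T.Z (σ.f a) ≫ σ.st T (σ.π.obj d) = T.τ d ≫ spMap Y a := by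
  show T.Zl.map (σ.f a).op ≫ T.τ _ ≫ spMap Y (σ.γ _) = _
  rw [← Category.assoc, T.τ_nat, Category.assoc, ← spMap_comp, σ.f_fac]

/-- The invariant of an object of a comma category. -/
noncomputable abbrev inv' {x : Tot T.Z} (A : StructuredArrow x (σ.R T)) : n ⟶ p.obj x.base.unop :=
  σ.γ A.right.base.unop ≫ p.map (show σ.ψ.obj A.right.base.unop ⟶ x.base.unop from A.hom.base.unop)

theorem factor {x : Tot T.Z} (A : StructuredArrow x (σ.R T)) :
    σ.ψ.map ((σ.ρ.inv.app A.right.base.unop) ≫ σ.π.map (show σ.ψ.obj A.right.base.unop ⟶ x.base.unop from A.hom.base.unop)) ≫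
      σ.f (σ.inv' T A) = A.hom.base.unop := by
  rw [Functor.map_comp, Category.assoc, σ.f_nat, σ.f_γ, ← Category.assoc, ← Functor.map_comp,
    Iso.inv_hom_id_app]
  exact (congrArg (· ≫ _) (σ.ψ.map_id _)).trans (Category.id_comp _)

theorem inv'_eq {x : Tot T.Z} {A B : StructuredArrow x (σ.R T)} (g : A ⟶ B) : σ.inv' T A = σ.inv' T B := by
  have e := congrArg (fun t => t.unop) (congrArg CoGrothendieck.Hom.base (StructuredArrow.w g))
  have e' : σ.ψ.map g.right.base.unop ≫ A.hom.base.unop = B.hom.base.unop := e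
  show σ.γ _ ≫ p.map _ = σ.γ _ ≫ p.map _
  rw [← σ.γ_nat g.right.base.unop, Category.assoc, ← Functor.map_comp]
  exact congrArg (fun t => σ.γ _ ≫ p.map t) e'

theorem R_lan_preservesMono :
    ((σ.R T).op.lan : ((Tot (σ.Zn T))ᵒᵖ ⥤ AddCommGrpCat.{u}) ⥤ _).PreservesMonomorphisms := by
  apply lan_preservesMono_of_components
  · intro x A A' B g g'
    let a := σ.inv' T A
    have ha : σ.inv' T A' = a := (σ.inv'_eq T g').trans (σ.inv'_eq T g).symm
    let jA : A.right.base.unop ⟶ σ.π.obj x.base.unop := σ.ρ.inv.app _ ≫ σ.π.map (show σ.ψ.obj A.right.base.unop ⟶ x.base.unop from A.hom.base.unop)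
    let jA' : A'.right.base.unop ⟶ σ.π.obj x.base.unop :=
      σ.ρ.inv.app _ ≫ σ.π.map (show σ.ψ.obj A'.right.base.unop ⟶ x.base.unop from A'.hom.base.unop)
    let W : Opens (sp (σ.Zn T) (σ.π.obj x.base.unop)) :=
      (Opens.map (spMap (σ.Zn T) jA)).obj (fib A.right) ⊓ (Opens.map (spMap (σ.Zn T) jA')).obj (fib A'.right)
    have hW : fib x ≤ (Opens.map (spMap T.Z (σ.f a))).obj W := by
      intro z hz
      have h1 := hom_le A.hom hz
      have h2 := hom_le A'.hom hz
      have e1 : spMap T.Z (σ.f a) ≫ spMap T.Z (σ.ψ.map jA) = spMap T.Z A.hom.base.unop := by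
        rw [← spMap_comp]; exact congrArg _ (σ.factor T A)
      have e2 : spMap T.Z (σ.f a) ≫ spMap T.Z (σ.ψ.map jA') = spMap T.Z A'.hom.base.unop := by
        rw [← spMap_comp, ← ha]; exact congrArg _ (σ.factor T A')
      exact ⟨(congrArg (· ∈ fib A.right) (ConcreteCategory.congr_hom e1 z)).mpr h1,
        (congrArg (· ∈ fib A'.right) (ConcreteCategory.congr_hom e2 z)).mpr h2⟩
    refine ⟨StructuredArrow.mk (Y := pob (Y := σ.Zn T) (σ.π.obj x.base.unop) W)
      (ph (σ.f a) hW : pob x.base.unop (fib x) ⟶ pob (σ.ψ.obj (σ.π.obj x.base.unop)) W), ?_, ?_⟩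
    · exact ⟨StructuredArrow.homMk (ph (Y := σ.Zn T) jA inf_le_left : pob _ W ⟶ pob _ (fib A.right))
        (tot_hom_ext (Quiver.Hom.unop_inj (σ.factor T A)))⟩
    · refine ⟨StructuredArrow.homMk (ph (Y := σ.Zn T) jA' inf_le_right : pob _ W ⟶ pob _ (fib A'.right))
        (tot_hom_ext (Quiver.Hom.unop_inj ?_))⟩
      exact (congrArg (fun t => σ.ψ.map jA' ≫ σ.f t) ha.symm).trans (σ.factor T A')
  · intro x A B g g'
    let a := σ.inv' T A
    let jA : A.right.base.unop ⟶ σ.π.obj x.base.unop := σ.ρ.inv.app _ ≫ σ.π.map (show σ.ψ.obj A.right.base.unop ⟶ x.base.unop from A.hom.base.unop)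
    let W : Opens (sp (σ.Zn T) (σ.π.obj x.base.unop)) := (Opens.map (spMap (σ.Zn T) jA)).obj (fib A.right)
    have hW : fib x ≤ (Opens.map (spMap T.Z (σ.f a))).obj W := by
      intro z hz
      have e1 : spMap T.Z (σ.f a) ≫ spMap T.Z (σ.ψ.map jA) = spMap T.Z A.hom.base.unop := by
        rw [← spMap_comp]; exact congrArg _ (σ.factor T A)
      exact (congrArg (· ∈ fib A.right) (ConcreteCategory.congr_hom e1 z)).mpr (hom_le A.hom hz)
    refine ⟨StructuredArrow.mk (Y := pob (Y := σ.Zn T) (σ.π.obj x.base.unop) W)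
      (ph (σ.f a) hW : pob x.base.unop (fib x) ⟶ pob (σ.ψ.obj (σ.π.obj x.base.unop)) W),
      StructuredArrow.homMk (ph (Y := σ.Zn T) jA le_rfl : pob _ W ⟶ pob _ (fib A.right))
        (tot_hom_ext (Quiver.Hom.unop_inj (σ.factor T A))), ?_⟩
    refine StructuredArrow.ext _ _ (tot_hom_ext (Quiver.Hom.unop_inj ?_))
    show g.right.base.unop ≫ jA = g'.right.base.unop ≫ jA
    have key : ∀ h : A ⟶ B, h.right.base.unop ≫ jA =
        σ.ρ.inv.app _ ≫ σ.π.map (show σ.ψ.obj B.right.base.unop ⟶ x.base.unop from B.hom.base.unop) := by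
      intro h
      have e' : σ.ψ.map h.right.base.unop ≫ A.hom.base.unop = B.hom.base.unop :=
        congrArg (fun t => t.unop) (congrArg CoGrothendieck.Hom.base (StructuredArrow.w h))
      have hρ : h.right.base.unop ≫ (σ.ρ.inv.app A.right.base.unop) =
          (σ.ρ.inv.app B.right.base.unop) ≫ σ.π.map (σ.ψ.map h.right.base.unop) := by
        exact σ.ρ.inv.naturality h.right.base.unop
      rw [← Category.assoc, hρ, Category.assoc, ← Functor.map_comp]
      exact congrArg (fun t => (σ.ρ.inv.app B.right.base.unop) ≫ σ.π.map t) e'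
    rw [key g, key g']

theorem injective_rZ (N : DS T.Z) [Injective N] : Injective ((σ.rZ T).obj N) := by
  have := σ.R_lan_preservesMono T
  have : (Functor.sheafPullbackConstruction.sheafPullback (σ.R T) AddCommGrpCat.{u} (totTop (σ.Zn T)) (totTop T.Z)).PreservesMonomorphisms := by
    have h3 : (presheafToSheaf (totTop T.Z) AddCommGrpCat.{u}).PreservesMonomorphisms := inferInstance
    have h1 : (sheafToPresheaf (totTop (σ.Zn T)) AddCommGrpCat.{u}).PreservesMonomorphisms := inferInstance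
    exact @Functor.preservesMonomorphisms_comp _ _ _ _ _ _ _ _ h1 (@Functor.preservesMonomorphisms_comp _ _ _ _ _ _ _ _ this h3)
  have : ((σ.R T).sheafPullback AddCommGrpCat.{u} (totTop (σ.Zn T)) (totTop T.Z)).PreservesMonomorphisms :=
    Functor.PreservesMonomorphisms.of_iso
      (Functor.sheafPullbackConstruction.sheafPullbackIso (σ.R T) AddCommGrpCat.{u} (totTop (σ.Zn T)) (totTop T.Z)).symm
  exact Injective.injective_of_adjoint
    ((σ.R T).sheafAdjunctionContinuous AddCommGrpCat.{u} (totTop (σ.Zn T)) (totTop T.Z)) N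

/-- The fibre in degree `n`. -/
noncomputable abbrev ιn (n : B) (Y : (WithInitial B)ᵒᵖ ⥤ TopCat.{u}) : Opens (sp Y n) ⥤ Tot Y :=
  Pseudofunctor.CoGrothendieck.ι (FibDesc.part (FibDesc.topAug Y)) (op n)

instance ιn_isContinuous : (ιn n Y).IsContinuous (FibDesc.topAugTop (σ.Zn T) (FibDesc.bot K)) (totTop Y) :=
  Groth.Agent.FibSiteLib.isContinuous_ι (isPreFibSite_part (Y := Y)) (op n)

instance ιn_isCocontinuous : (ιn n Y).IsCocontinuous (FibDesc.topAugTop (σ.Zn T) (FibDesc.bot K)) (totTop Y) :=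
  Groth.Agent.FibSiteLib.isCocontinuous_ι (isPreFibSite_part (Y := Y)) (op n)

/-- Restriction to degree `n`. -/
noncomputable abbrev rn : DS Y ⥤ BS (σ.Zn T) :=
  (ιn n Y).sheafPushforwardContinuous AddCommGrpCat.{u} (FibDesc.topAugTop (σ.Zn T) (FibDesc.bot K)) (totTop Y)

theorem gk_le (k : K) (U : Opens (sp Y n)) :
    (Opens.map (spMap Y (σ.γ k))).obj U ≤ (Opens.map (spMap Y (σ.γ k))).obj U := le_rfl

/-- The object over which the projection is read. -/
noncomputable abbrev cK (k : K) (U : Opens (sp Y n)) : Tot T.pY :=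
  pob (σ.ψ.obj k) ((Opens.map (spMap Y (σ.γ k))).obj U)

/-- Its map. -/
noncomputable abbrev gK (k : K) (U : Opens (sp Y n)) : T.G.obj (σ.cK T k U) ⟶ pob n U :=
  (ph (σ.γ k) le_rfl : pob (p.obj (σ.ψ.obj k)) ((Opens.map (spMap Y (σ.γ k))).obj U) ⟶ pob n U)

/-- The identification. -/
noncomputable abbrev eK (k : K) (U : Opens (sp Y n)) :
    (σ.R T).obj (pob k ((Opens.map (θ (σ.Zn T) k)).obj U)) ⟶ T.L'.H.obj (σ.cK T k U) :=
  (ph (𝟙 _) (by rw [spMap_id]; exact le_rfl) :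
    pob (σ.ψ.obj k) ((Opens.map (σ.st T k)).obj U) ⟶
      pob (σ.ψ.obj k) ((Opens.map (T.τ (σ.ψ.obj k))).obj ((Opens.map (spMap Y (σ.γ k))).obj U)))

theorem fromC_le {c : Tot T.pY} {U : Opens (sp Y n)} (g : T.G.obj c ⟶ pob n U) :
    fib (T.L'.H.obj c) ≤ (Opens.map (spMap T.Z (σ.f (show n ⟶ p.obj c.base.unop from g.base.unop)))).obj
      ((Opens.map (σ.st T (σ.π.obj c.base.unop))).obj U) := by
  intro z hz
  have e := ConcreteCategory.congr_hom (σ.st_comp_f T (show n ⟶ p.obj c.base.unop from g.base.unop)) z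
  exact (congrArg (· ∈ U) e).mpr (hom_le g (show T.τ c.base.unop z ∈ (show Opens (sp Y (p.obj c.base.unop)) from fib c) from hz))

/-- The map from the image of an object. -/
noncomputable abbrev fromC {c : Tot T.pY} {U : Opens (sp Y n)} (g : T.G.obj c ⟶ pob n U) :
    T.L'.H.obj c ⟶ (σ.R T).obj (pob (σ.π.obj c.base.unop) ((Opens.map (θ (σ.Zn T) (σ.π.obj c.base.unop))).obj U)) :=
  (ph (σ.f (show n ⟶ p.obj c.base.unop from g.base.unop)) (σ.fromC_le T g) :
    pob c.base.unop (fib (T.L'.H.obj c)) ⟶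
      pob (σ.ψ.obj (σ.π.obj c.base.unop)) ((Opens.map (σ.st T (σ.π.obj c.base.unop))).obj U))

theorem exists_βHom (N : DS T.Z) (U : Opens (sp Y n)) :
    ∃ f : (T.Q.obj N).obj.obj (op (pob n U)) ⟶ ((pushF (σ.Zn T)).obj ((σ.rZ T).obj N)).obj.obj (op U),
      ∀ k, f ≫ pπ ((σ.rZ T).obj N) (n := k) le_rfl = rπ T.G _ (σ.gK T k U) ≫ N.obj.map (σ.eK T k U).op :=
  exists_plift (N := (σ.rZ T).obj N) (U := U) (fun k => rπ T.G (T.L'.pushL.obj N).obj (σ.gK T k U) ≫ N.obj.map (σ.eK T k U).op)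
    fun k k' a h => by
    let hh : σ.cK T k' U ⟶ σ.cK T k U := ph (Y := T.pY) (σ.ψ.map a) (show _ ≤ _ by
      intro y hy
      show spMap Y (σ.γ k) (spMap Y (p.map (σ.ψ.map a)) y) ∈ U
      have := ConcreteCategory.congr_hom (spMap_comp Y (σ.γ k) (p.map (σ.ψ.map a))) y
      rw [σ.γ_nat] at this
      exact (congrArg (· ∈ U) this).mp hy)
    have e1 : T.G.map hh ≫ σ.gK T k U = σ.gK T k' U := tot_hom_ext (by
      simp [Re, hh]
      exact congrArg Quiver.Hom.op (σ.γ_nat a))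
    have e2 : σ.eK T k' U ≫ T.L'.H.map hh = (σ.R T).map (ph a h) ≫ σ.eK T k U :=
      tot_hom_ext (by simp [LMap.H, Re, hh])
    refine (congrArg (· ≫ _) ((congrArg (rπ T.G _) e1.symm).trans (rπ_comp _ hh (σ.gK T k U)))).trans ?_
    refine (Category.assoc _ _ _).trans (Eq.trans ?_ (Category.assoc _ _ _).symm)
    refine congrArg (rπ T.G _ (σ.gK T k U) ≫ ·) ?_
    show N.obj.map (T.L'.H.map hh).op ≫ N.obj.map (σ.eK T k' U).op =
      N.obj.map (σ.eK T k U).op ≫ N.obj.map ((σ.R T).map (ph a h)).op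
    rw [← Functor.map_comp, ← Functor.map_comp, ← op_comp, ← op_comp, e2]

theorem exists_βInv (N : DS T.Z) (U : Opens (sp Y n)) :
    ∃ f : ((pushF (σ.Zn T)).obj ((σ.rZ T).obj N)).obj.obj (op U) ⟶ (T.Q.obj N).obj.obj (op (pob n U)),
      ∀ (c : Tot T.pY) (g : T.G.obj c ⟶ pob n U), f ≫ rπ T.G _ g =
        pπ ((σ.rZ T).obj N) (n := σ.π.obj c.base.unop) le_rfl ≫ N.obj.map (σ.fromC T (U := U) g).op :=
  exists_rlift (G := T.G) (P := ((T.L'.pushL).obj N).obj)
    (fun c g => pπ ((σ.rZ T).obj N) (n := σ.π.obj c.base.unop) le_rfl ≫ N.obj.map (σ.fromC T g).op) fun c c' h g => by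
      show pπ ((σ.rZ T).obj N) _ ≫ _ = (pπ ((σ.rZ T).obj N) _ ≫ _) ≫ N.obj.map (T.L'.H.map h).op
      have hc := pπ_compat ((σ.rZ T).obj N) (σ.π.map h.base.unop) U
      rw [← hc, Category.assoc, Category.assoc]
      refine congrArg (pπ ((σ.rZ T).obj N) le_rfl ≫ ·) ?_
      show N.obj.map ((σ.R T).map (phθ (σ.π.map h.base.unop) U)).op ≫ _ = _
      rw [← Functor.map_comp, ← Functor.map_comp, ← op_comp, ← op_comp]
      refine congrArg (fun t => N.obj.map (Quiver.Hom.op t)) (tot_hom_ext (Quiver.Hom.unop_inj ?_))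
      exact σ.f_nat _ h.base.unop

/-- The components of base change to a slice. -/
noncomputable def βApp (N : DS T.Z) (U : Opens (sp Y n)) :
    (T.Q.obj N).obj.obj (op (pob n U)) ≅ ((pushF (σ.Zn T)).obj ((σ.rZ T).obj N)).obj.obj (op U) where
  hom := (σ.exists_βHom T N U).choose
  inv := (σ.exists_βInv T N U).choose
  hom_inv_id := rπ_ext (G := T.G) fun c g => by
    rw [Category.assoc, (σ.exists_βInv T N U).choose_spec c g, ← Category.assoc,
      (σ.exists_βHom T N U).choose_spec, Category.id_comp]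
    let a : n ⟶ p.obj c.base.unop := g.base.unop
    let h : c ⟶ σ.cK T (σ.π.obj c.base.unop) U := (ph (Y := T.pY) (σ.f a) (show fib c ≤ _ by
      intro y hy
      show spMap Y (σ.γ _) (spMap Y (p.map (σ.f a)) y) ∈ U
      have := ConcreteCategory.congr_hom (spMap_comp Y (σ.γ _) (p.map (σ.f a))) y
      rw [σ.f_fac] at this
      exact (congrArg (· ∈ U) this).mp (hom_le g hy)) : pob c.base.unop (fib c) ⟶ _)
    have e1 : T.G.map h ≫ σ.gK T (σ.π.obj c.base.unop) U = g := tot_hom_ext (by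
      simp [Re, h]
      exact congrArg Quiver.Hom.op (σ.f_fac a))
    have e2 : σ.fromC T g ≫ σ.eK T (σ.π.obj c.base.unop) U = T.L'.H.map h :=
      tot_hom_ext (by
        simp [LMap.H, h, a]
        exact Category.comp_id _)
    refine (Category.assoc _ _ _).trans ?_
    refine Eq.trans ?_ ((congrArg (rπ T.G _) e1.symm).trans (rπ_comp _ h _)).symm
    refine congrArg (rπ T.G _ (σ.gK T (σ.π.obj c.base.unop) U) ≫ ·) ?_
    show N.obj.map _ ≫ N.obj.map (σ.fromC T g).op = N.obj.map (T.L'.H.map h).op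
    rw [← Functor.map_comp, ← op_comp, e2]
  inv_hom_id := pπ_ext fun k => by
    rw [Category.assoc, (σ.exists_βHom T N U).choose_spec, ← Category.assoc,
      (σ.exists_βInv T N U).choose_spec, Category.id_comp, Category.assoc, ← Functor.map_comp, ← op_comp]
    refine Eq.trans ?_ (pπ_compat ((σ.rZ T).obj N) (σ.ρ.hom.app k) U)
    refine congrArg (pπ ((σ.rZ T).obj N) le_rfl ≫ ·) ?_
    show N.obj.map _ = N.obj.map ((σ.R T).map (phθ (σ.ρ.hom.app k) U)).op
    exact congrArg (fun t => N.obj.map (Quiver.Hom.op t)) (tot_hom_ext (by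
      simp [Re]
      exact congrArg Quiver.Hom.op (σ.f_γ k)))

theorem βApp_spec (N : DS T.Z) (U : Opens (sp Y n)) (k : K) :
    (σ.βApp T N U).hom ≫ pπ ((σ.rZ T).obj N) (n := k) le_rfl =
      rπ T.G _ (σ.gK T k U) ≫ N.obj.map (σ.eK T k U).op :=
  (σ.exists_βHom T N U).choose_spec k

/-- Base change of the direct image to a slice. -/
noncomputable def β : T.Q ⋙ σ.rn T ≅ σ.rZ T ⋙ pushF (σ.Zn T) :=
  NatIso.ofComponents (fun N =>
    (fullyFaithfulSheafToPresheaf _ _).preimageIso (NatIso.ofComponents (fun U => σ.βApp T N U.unop) fun {U U'} i =>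
      pπ_ext fun k => by
        have h : (Opens.map (θ (σ.Zn T) k)).obj U'.unop ≤
            (Opens.map (spMap (σ.Zn T) (𝟙 k))).obj ((Opens.map (θ (σ.Zn T) k)).obj U.unop) := by
          rw [spMap_id]; exact ((Opens.map _).map i.unop).le
        let hh : σ.cK T k U'.unop ⟶ σ.cK T k U.unop := ph (Y := T.pY) (𝟙 (σ.ψ.obj k)) (show _ ≤ _ by
          rw [spMap_id]; exact ((Opens.map (spMap Y (σ.γ k))).map i.unop).le)
        have e1 : T.G.map hh ≫ σ.gK T k U.unop = σ.gK T k U'.unop ≫ (ιn n Y).map i.unop := tot_hom_ext (by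
          simp [Re, hh]
          try exact congrArg Quiver.Hom.op (Category.id_comp _).symm)
        have e2 : σ.eK T k U'.unop ≫ T.L'.H.map hh = (σ.R T).map (ph (𝟙 k) h) ≫ σ.eK T k U.unop :=
          tot_hom_ext (by simp [LMap.H, Re, hh])
        show ((T.Q.obj N).obj.map ((ιn n Y).map i.unop).op ≫ (σ.βApp T N U'.unop).hom) ≫ _ =
          ((σ.βApp T N U.unop).hom ≫ ((pushF (σ.Zn T)).obj ((σ.rZ T).obj N)).obj.map i.unop.op) ≫ _
        refine (Category.assoc _ _ _).trans ((congrArg (_ ≫ ·) (σ.βApp_spec T N U'.unop k)).trans ?_)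
        refine Eq.trans ?_ (Category.assoc _ _ _).symm
        refine Eq.trans ?_ (congrArg (_ ≫ ·) (map_pπ ((σ.rZ T).obj N) i.unop h)).symm
        refine Eq.trans ?_ (Category.assoc _ _ _)
        refine Eq.trans ?_ (congrArg (· ≫ _) (σ.βApp_spec T N U.unop k)).symm
        refine (Category.assoc _ _ _).symm.trans ?_
        refine (congrArg (· ≫ _) ((map_rπ (G := T.G) _ ((ιn n Y).map i.unop) (σ.gK T k U'.unop)).trans
          ((congrArg (rπ T.G _) e1.symm).trans (rπ_comp _ hh (σ.gK T k U.unop))))).trans ?_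
        refine (Category.assoc _ _ _).trans (Eq.trans ?_ (Category.assoc _ _ _).symm)
        refine congrArg (rπ T.G _ (σ.gK T k U.unop) ≫ ·) ?_
        show N.obj.map (T.L'.H.map hh).op ≫ N.obj.map (σ.eK T k U'.unop).op =
          N.obj.map (σ.eK T k U.unop).op ≫ N.obj.map ((σ.R T).map (ph (𝟙 k) h)).op
        rw [← Functor.map_comp, ← Functor.map_comp, ← op_comp, ← op_comp, e2]))
    fun {N N'} f => by
      apply Sheaf.hom_ext
      apply NatTrans.ext
      funext U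
      refine pπ_ext fun k => ?_
      show ((T.Q.map f).hom.app (op (pob n U.unop)) ≫ (σ.βApp T N' U.unop).hom) ≫ _ =
        ((σ.βApp T N U.unop).hom ≫ ((pushF (σ.Zn T)).map ((σ.rZ T).map f)).hom.app (op U.unop)) ≫ _
      refine (Category.assoc _ _ _).trans ((congrArg (_ ≫ ·) (σ.βApp_spec T N' U.unop k)).trans ?_)
      refine Eq.trans ?_ (Category.assoc _ _ _).symm
      refine Eq.trans ?_ (congrArg (_ ≫ ·) (pushMap_pπ ((σ.rZ T).map f))).symm
      refine Eq.trans ?_ (Category.assoc _ _ _)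
      refine Eq.trans ?_ (congrArg (· ≫ _) (σ.βApp_spec T N U.unop k)).symm
      refine (Category.assoc _ _ _).symm.trans ?_
      refine (congrArg (· ≫ _) (ran_map_rπ (T.L'.pushL.map f).hom (σ.gK T k U.unop))).trans ?_
      refine (Category.assoc _ _ _).trans (Eq.trans ?_ (Category.assoc _ _ _).symm)
      exact congrArg (_ ≫ ·) (f.hom.naturality (σ.eK T k U.unop).op).symm

/-- The comparison of inverse images. -/
noncomputable def pc (L : BS Y) :
    (pullF (σ.Zn T)).obj ((σ.rn T).obj ((pullF Y).obj L)) ⟶ (σ.rZ T).obj ((pullF T.Z).obj L) :=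
  ((padj (Y := σ.Zn T)).homEquiv _ _).symm ((σ.rn T).map (T.α.app L) ≫ (σ.β T).hom.app _)

theorem eKK_le (k : K) (V : Opens (base Y)) :
    (Opens.map (σ.st T k)).obj ((Opens.map (θ Y n)).obj V) ≤
      (Opens.map (spMap T.Z (𝟙 (σ.ψ.obj k)))).obj ((Opens.map (θ T.Z (σ.ψ.obj k))).obj V) := by
  rw [spMap_id]
  show (Opens.map (σ.st T k ≫ θ Y n)).obj V ≤ (Opens.map (T.θl (σ.ψ.obj k))).obj V
  rw [σ.st_θ]

/-- The identification over the base. -/
noncomputable abbrev eKK (k : K) (V : Opens (base Y)) :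
    (σ.R T).obj (pob k ((Opens.map (θ (σ.Zn T) k)).obj ((Opens.map (θ Y n)).obj V))) ⟶
      pob (σ.ψ.obj k) ((Opens.map (θ T.Z (σ.ψ.obj k))).obj V) :=
  (ph (𝟙 _) (σ.eKK_le T k V) : pob (σ.ψ.obj k) ((Opens.map (σ.st T k)).obj ((Opens.map (θ Y n)).obj V)) ⟶ _)

set_option maxHeartbeats 1000000 in
theorem pu_pc (L : BS Y) (k : K) (V : Opens (base Y)) :
    pu L n V ≫ pu ((σ.rn T).obj ((pullF Y).obj L)) k ((Opens.map (θ Y n)).obj V) ≫
        (σ.pc T L).hom.app (op (pob k ((Opens.map (θ (σ.Zn T) k)).obj ((Opens.map (θ Y n)).obj V)))) =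
      pu (Y := T.Z) L (σ.ψ.obj k) V ≫ ((pullF T.Z).obj L).obj.map (σ.eKK T k V).op := by
  let N := (pullF T.Z).obj L
  let U := (Opens.map (θ Y n)).obj V
  have h0 : pu ((σ.rn T).obj ((pullF Y).obj L)) k U ≫
        (σ.pc T L).hom.app (op (pob k ((Opens.map (θ (σ.Zn T) k)).obj U))) =
      ((σ.rn T).map (T.α.app L) ≫ (σ.β T).hom.app _).hom.app (op U) ≫ pπ ((σ.rZ T).obj N) le_rfl :=
    symm_pπ (Y := σ.Zn T) (K := (σ.rn T).obj ((pullF Y).obj L)) ((σ.rn T).map (T.α.app L) ≫ (σ.β T).hom.app _) k U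
  have h1 : ((σ.rn T).map (T.α.app L) ≫ (σ.β T).hom.app N).hom.app (op U) =
      (T.α.app L).hom.app (op (pob n U)) ≫ (σ.βApp T N U).hom := rfl
  have hα : pu L n V ≫ (T.α.app L).hom.app (op (pob n U)) =
      ((padj (Y := T.Z)).unit.app L).hom.app (op V) ≫ (T.pushApp N V).inv ≫ pπ (T.Q.obj N) le_rfl := by
    refine (symm_pπ (Y := Y) (K := L) (((padj (Y := T.Z)).unit.app L) ≫ T.pushIso.inv.app N) n V).trans ?_
    exact Category.assoc _ _ _
  have h2 : (T.pushApp N V).inv ≫ pπ (T.Q.obj N) le_rfl ≫ rπ T.G _ (σ.gK T k U) =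
      pπ N (n := σ.ψ.obj k) le_rfl ≫ N.obj.map (T.fromH (U := V) (σ.gK T k U)).op :=
    (T.exists_pushInv N V).choose_spec n _ (σ.gK T k U)
  have h3 : N.obj.map (T.fromH (U := V) (σ.gK T k U)).op ≫ N.obj.map (σ.eK T k U).op = N.obj.map (σ.eKK T k V).op := by
    rw [← Functor.map_comp, ← op_comp]
    exact congrArg (fun t => N.obj.map (Quiver.Hom.op t)) (tot_hom_ext (by
      simp
      exact Category.comp_id _))
  calc pu L n V ≫ pu ((σ.rn T).obj ((pullF Y).obj L)) k U ≫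
        (σ.pc T L).hom.app (op (pob k ((Opens.map (θ (σ.Zn T) k)).obj U)))
      = pu L n V ≫ ((T.α.app L).hom.app (op (pob n U)) ≫ (σ.βApp T N U).hom) ≫ pπ ((σ.rZ T).obj N) le_rfl :=
        congrArg (pu L n V ≫ ·) (h0.trans (congrArg (· ≫ _) h1))
    _ = (pu L n V ≫ (T.α.app L).hom.app (op (pob n U))) ≫ rπ T.G _ (σ.gK T k U) ≫ N.obj.map (σ.eK T k U).op :=
        (congrArg (pu L n V ≫ ·) ((Category.assoc _ _ _).trans (congrArg (_ ≫ ·) (σ.βApp_spec T N U k)))).trans
          (Category.assoc _ _ _).symm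
    _ = (((padj (Y := T.Z)).unit.app L).hom.app (op V) ≫ (T.pushApp N V).inv ≫ pπ (T.Q.obj N) le_rfl) ≫
          rπ T.G _ (σ.gK T k U) ≫ N.obj.map (σ.eK T k U).op := congrArg (· ≫ _) hα
    _ = ((padj (Y := T.Z)).unit.app L).hom.app (op V) ≫ ((T.pushApp N V).inv ≫ pπ (T.Q.obj N) le_rfl ≫
          rπ T.G _ (σ.gK T k U)) ≫ N.obj.map (σ.eK T k U).op := by simp only [Category.assoc]
    _ = ((padj (Y := T.Z)).unit.app L).hom.app (op V) ≫ pπ N (n := σ.ψ.obj k) le_rfl ≫
          N.obj.map (T.fromH (U := V) (σ.gK T k U)).op ≫ N.obj.map (σ.eK T k U).op :=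
        congrArg (((padj (Y := T.Z)).unit.app L).hom.app (op V) ≫ ·)
          ((congrArg (· ≫ _) h2).trans (Category.assoc _ _ _))
    _ = pu (Y := T.Z) L (σ.ψ.obj k) V ≫ N.obj.map (σ.eKK T k V).op :=
        (congrArg (((padj (Y := T.Z)).unit.app L).hom.app (op V) ≫ ·) (congrArg (pπ N le_rfl ≫ ·) h3)).trans
          (Category.assoc _ _ _).symm

theorem invC_le {c : Tot (σ.Zn T)} {d : D} {V : Opens (base Y)}
    (g : (σ.R T).obj c ⟶ pob d ((Opens.map (θ T.Z d)).obj V)) :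
    fib c ≤ (Opens.map (spMap (σ.Zn T) (𝟙 c.base.unop))).obj
      ((Opens.map (θ (σ.Zn T) c.base.unop)).obj ((Opens.map (θ Y n)).obj V)) := by
  rw [spMap_id]
  intro z hz
  show θ Y n (σ.st T c.base.unop z) ∈ V
  have e1 := ConcreteCategory.congr_hom (σ.st_θ T c.base.unop) z
  have e2 := ConcreteCategory.congr_hom (θ_comp T.Z g.base.unop) z
  exact (congrArg (· ∈ V) e1).mpr ((congrArg (· ∈ V) e2).mp (hom_le g hz))

/-- The map used for the inverse. -/
noncomputable abbrev invC {c : Tot (σ.Zn T)} {d : D} {V : Opens (base Y)}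
    (g : (σ.R T).obj c ⟶ pob d ((Opens.map (θ T.Z d)).obj V)) :
    c ⟶ pob c.base.unop ((Opens.map (θ (σ.Zn T) c.base.unop)).obj ((Opens.map (θ Y n)).obj V)) :=
  (ph (𝟙 _) (σ.invC_le T g) : pob c.base.unop (fib c) ⟶ _)

set_option maxHeartbeats 1000000 in
theorem isIso_pc (L : BS Y) : IsIso (σ.pc T L) := by
  let M := (σ.rn T).obj ((pullF Y).obj L)
  let N' := (pullF (σ.Zn T)).obj M
  let Φ : ∀ (c : Tot (σ.Zn T)) (d : D) (V : Opens (base Y)),
      ((σ.R T).obj c ⟶ pob d ((Opens.map (θ T.Z d)).obj V)) → (L.obj.obj (op V) ⟶ N'.obj.obj (op c)) :=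
    fun c d V g => pu L n V ≫ pu M c.base.unop ((Opens.map (θ Y n)).obj V) ≫ N'.obj.map (σ.invC T g).op
  obtain ⟨f, hf⟩ := exists_restr_pull (Y := T.Z) L (totTop (σ.Zn T)) (σ.R T) N' Φ
    (fun c c' d V h g => by
      show pu L n V ≫ pu M _ _ ≫ _ = (pu L n V ≫ pu M _ _ ≫ _) ≫ _
      rw [← pu_compat M h.base.unop, Category.assoc, Category.assoc, Category.assoc,
        ← Functor.map_comp, ← Functor.map_comp, ← op_comp, ← op_comp]
      congr 4
      exact tot_hom_ext (by simp))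
    (fun c d d' V a g => rfl)
    (fun c d V V' i h g => by
      have h₁ : (Opens.map (θ Y n)).obj V' ≤ (Opens.map (spMap Y (𝟙 n))).obj ((Opens.map (θ Y n)).obj V) := by
        rw [spMap_id]; exact ((Opens.map _).map i).le
      have h₂ : (Opens.map (θ (σ.Zn T) c.base.unop)).obj ((Opens.map (θ Y n)).obj V') ≤
          (Opens.map (spMap (σ.Zn T) (𝟙 c.base.unop))).obj
            ((Opens.map (θ (σ.Zn T) c.base.unop)).obj ((Opens.map (θ Y n)).obj V)) := by
        rw [spMap_id]; exact ((Opens.map _).map ((Opens.map (θ Y n)).map i)).le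
      show L.obj.map i.op ≫ pu L n V' ≫ pu M _ _ ≫ _ = pu L n V ≫ pu M _ _ ≫ _
      refine (Category.assoc _ _ _).symm.trans ((congrArg (· ≫ _) (pu_map (Y := Y) (K := L) i h₁)).trans ((Category.assoc _ _ _).trans ?_))
      refine congrArg (pu L n V ≫ ·) ?_
      have e : ((pullF Y).obj L).obj.map (ph (𝟙 n) h₁).op = M.obj.map ((Opens.map (θ Y n)).map i).op :=
        congrArg (fun t => ((pullF Y).obj L).obj.map (Quiver.Hom.op t)) (tot_hom_ext (by simp))
      refine (congrArg (· ≫ _) e).trans ?_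
      refine (Category.assoc _ _ _).symm.trans
        ((congrArg (· ≫ _) (pu_map (K := M) ((Opens.map (θ Y n)).map i) h₂)).trans ((Category.assoc _ _ _).trans ?_))
      refine congrArg (pu M _ _ ≫ ·) ?_
      rw [← Functor.map_comp, ← op_comp]
      exact congrArg (fun t => N'.obj.map (Quiver.Hom.op t)) (tot_hom_ext (by simp)))
  refine ⟨f, ?_, ?_⟩
  · apply ((padj (Y := σ.Zn T)).homEquiv _ _).injective
    have := σ.ιn_isContinuous T
    have := σ.ιn_isCocontinuous T
    refine restr_pull_ext (Y := Y) (FibDesc.topAugTop (σ.Zn T) (FibDesc.bot K)) (ιn n Y) fun (U : Opens (sp Y n)) V g hg => ?_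
    refine pπ_ext fun k => ?_
    have hUV : U ≤ (Opens.map (θ Y n)).obj V := by
      have := hom_le g
      intro y hy
      have h1 := this hy
      have e : g.base.unop = 𝟙 n := congrArg Quiver.Hom.unop hg
      have h2 : spMap Y g.base.unop y = y := by
        rw [e]
        exact congrArg (fun t => t y) (congrArg (fun q : sp Y n ⟶ sp Y n => (q : sp Y n → sp Y n)) (spMap_id Y n))
      exact (congrArg (· ∈ (Opens.map (θ Y n)).obj V) h2).mp h1
    have eg : g = (ιn n Y).map (homOfLE hUV) := tot_hom_ext (by simp [hg])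
    let U₀ := (Opens.map (θ Y n)).obj V
    have hk : (Opens.map (θ (σ.Zn T) k)).obj U ≤
        (Opens.map (spMap (σ.Zn T) (𝟙 k))).obj ((Opens.map (θ (σ.Zn T) k)).obj U₀) := by
      rw [spMap_id]; exact ((Opens.map _).map (homOfLE hUV)).le
    have main : ∀ φ : N' ⟶ N', (pu L n V ≫ ((pullF Y).obj L).obj.map g.op ≫
          ((padj (Y := σ.Zn T)).homEquiv M N' φ).hom.app (op U)) ≫ pπ N' (n := k) le_rfl =
        (pu L n V ≫ pu M k U₀ ≫ φ.hom.app (op (pob k ((Opens.map (θ (σ.Zn T) k)).obj U₀)))) ≫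
          N'.obj.map (ph (𝟙 k) hk).op := by
      intro φ
      rw [Category.assoc, Category.assoc, homEquiv_pπ]
      rw [Category.assoc, Category.assoc, ← φ.hom.naturality, ← Category.assoc (pu M k U₀)]
      refine congrArg (pu L n V ≫ ·) ?_
      refine Eq.trans ?_ ((congrArg (· ≫ _) (pu_map (K := M) (homOfLE hUV) hk)).trans (Category.assoc _ _ _))
      refine Eq.trans ?_ (Category.assoc _ _ _).symm
      rw [eg]
      rfl
    refine (main (σ.pc T L ≫ f)).trans (Eq.trans ?_ (main (𝟙 _)).symm)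
    refine congrArg (· ≫ _) ?_
    show pu L n V ≫ pu M k U₀ ≫ (σ.pc T L).hom.app _ ≫ f.hom.app _ = pu L n V ≫ pu M k U₀ ≫ 𝟙 _
    refine (congrArg (pu L n V ≫ ·) (Category.assoc _ _ _).symm).trans ((Category.assoc _ _ _).symm.trans ?_)
    refine (congrArg (· ≫ _) (σ.pu_pc T L k V)).trans ?_
    refine (Category.assoc _ _ _).trans ((hf _ _ _ (σ.eKK T k V)).trans ?_)
    refine congrArg (pu L n V ≫ ·) (congrArg (pu M k U₀ ≫ ·) ?_)
    refine Eq.trans ?_ (N'.obj.map_id _)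
    exact congrArg (fun t => N'.obj.map (Quiver.Hom.op t)) (tot_hom_ext (by simp))
  · refine restr_pull_ext (Y := T.Z) (totTop (σ.Zn T)) (σ.R T) fun c V g hg => ?_
    let N := (pullF T.Z).obj L
    show pu (Y := T.Z) L _ V ≫ N.obj.map g.op ≫ f.hom.app (op c) ≫ (σ.pc T L).hom.app (op c) =
      pu (Y := T.Z) L _ V ≫ N.obj.map g.op ≫ 𝟙 _
    refine (congrArg (pu (Y := T.Z) L _ V ≫ ·) (Category.assoc _ _ _).symm).trans ((Category.assoc _ _ _).symm.trans
      ((congrArg (· ≫ _) (hf c _ V g)).trans ?_))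
    show (pu L n V ≫ pu M c.base.unop _ ≫ N'.obj.map (σ.invC T g).op) ≫ _ = _
    refine (Category.assoc _ _ _).trans ((congrArg (pu L n V ≫ ·) ((Category.assoc _ _ _).trans
      ((congrArg (pu M c.base.unop _ ≫ ·) ((σ.pc T L).hom.naturality (σ.invC T g).op)).trans
        (Category.assoc _ _ _).symm))).trans ?_)
    refine (Category.assoc _ _ _).symm.trans ((congrArg (· ≫ _) (σ.pu_pc T L c.base.unop V)).trans ?_)
    refine (Category.assoc _ _ _).trans (congrArg (pu (Y := T.Z) L _ V ≫ ·) ?_)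
    refine Eq.trans ?_ (Category.comp_id _).symm
    show N.obj.map _ ≫ N.obj.map ((σ.R T).map (σ.invC T g)).op = _
    rw [← Functor.map_comp, ← op_comp]
    refine congrArg (fun t => N.obj.map (Quiver.Hom.op t)) (tot_hom_ext ?_)
    rw [hg]
    simp [Re]

end Slice

end Groth.Agent.FibDescLib
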