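import Groth.Agent.FibDescLib.Reindex

/-!
A family over a family: the direct image factors through the intermediate family, and restricts to slices.
-/

set_option autoImplicit false
set_option backward.isDefEq.respectTransparency false
set_option backward.isDefEq.respectTransparency.types false
set_option backward.defeqAttrib.useBackward true
set_option linter.style.haveILetI false

universe u

open CategoryTheory CategoryTheory.Limits Opposite TopologicalSpace
open CategoryTheory.Pseudofunctor CategoryTheory.Pseudofunctor.CoGrothendieck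

namespace Groth.Agent.FibDescLib

/-- A family indexed by `D` over an augmented family indexed by `B`. -/
structure Tower {D B : Type} [SmallCategory D] [SmallCategory B] (p : D ⥤ B)
    (Y : (WithInitial B)ᵒᵖ ⥤ TopCat.{u}) where
  /-- The levels. -/
  Zl : Dᵒᵖ ⥤ TopCat.{u}
  /-- The augmentation to the base. -/
  θl : ∀ d, Zl.obj (op d) ⟶ base Y
  hθl : ∀ {n m : D} (a : n ⟶ m), Zl.map a.op ≫ θl n = θl m
  /-- The map to the intermediate family. -/
  τ : ∀ d, Zl.obj (op d) ⟶ sp Y (p.obj d)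
  τ_nat : ∀ {n m : D} (a : n ⟶ m), Zl.map a.op ≫ τ n = τ m ≫ spMap Y (p.map a)
  w : ∀ d, τ d ≫ θ Y (p.obj d) = θl d

namespace Tower

variable {D B : Type} [SmallCategory D] [SmallCategory B] {p : D ⥤ B}
  {Y : (WithInitial B)ᵒᵖ ⥤ TopCat.{u}} (T : Tower p Y)

/-- The total family. -/
abbrev Z : (WithInitial D)ᵒᵖ ⥤ TopCat.{u} := mkAug (base Y) T.Zl T.θl T.hθl

/-- The intermediate family, reindexed. -/
abbrev pY (_ : Tower p Y) : (WithInitial D)ᵒᵖ ⥤ TopCat.{u} :=
  reAug Y p (base Y) (fun d => θ Y (p.obj d)) (fun a => θ_comp Y (p.map a))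

/-- The levelwise map to it. -/
abbrev L' : LMap T.Z T.pY := ⟨fun d => T.τ d, fun a => T.τ_nat a⟩

/-- The reindexing functor. -/
noncomputable abbrev G : Tot T.pY ⥤ Tot Y :=
  Re Y p (base Y) (fun d => θ Y (p.obj d)) (fun a => θ_comp Y (p.map a))

/-- The direct image to the intermediate family. -/
noncomputable abbrev Q : DS T.Z ⥤ DS Y :=
  T.L'.pushL ⋙ ranR Y p (base Y) (fun d => θ Y (p.obj d)) (fun a => θ_comp Y (p.map a))

theorem injective_Q (N : DS T.Z) [Injective N] : Injective (T.Q.obj N) := by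
  have h := T.L'.injective_pushL N
  exact @injective_ranR _ _ _ _ Y p (base Y) (fun d => θ Y (p.obj d)) (fun a => θ_comp Y (p.map a))
    (T.L'.pushL.obj N) h

theorem w_pre (d : D) (U : Opens (base Y)) :
    (Opens.map (T.τ d)).obj ((Opens.map (θ Y (p.obj d))).obj U) = (Opens.map (θ T.Z d)).obj U := by
  show (Opens.map (T.τ d ≫ θ Y (p.obj d))).obj U = (Opens.map (T.θl d)).obj U
  rw [T.w]

/-- The object over which the projection is read. -/
noncomputable abbrev cU (d : D) (U : Opens (base Y)) : Tot T.pY := pob d ((Opens.map (θ Y (p.obj d))).obj U)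

/-- Its map. -/
noncomputable abbrev gU (d : D) (U : Opens (base Y)) :
    T.G.obj (T.cU d U) ⟶ pob (p.obj d) ((Opens.map (θ Y (p.obj d))).obj U) :=
  (ph (𝟙 _) (by rw [spMap_id]; exact le_rfl) :
    pob (p.obj d) ((Opens.map (θ Y (p.obj d))).obj U) ⟶ pob (p.obj d) ((Opens.map (θ Y (p.obj d))).obj U))

/-- The identification. -/
noncomputable abbrev eU (d : D) (U : Opens (base Y)) :
    pob d ((Opens.map (θ T.Z d)).obj U) ⟶ T.L'.H.obj (T.cU d U) :=
  (ph (𝟙 _) (by rw [spMap_id]; exact (T.w_pre d U).ge) :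
    pob d ((Opens.map (θ T.Z d)).obj U) ⟶ pob d ((Opens.map (T.τ d)).obj ((Opens.map (θ Y (p.obj d))).obj U)))

theorem fromH_le {c : Tot T.pY} {n : B} {U : Opens (base Y)}
    (g : T.G.obj c ⟶ pob n ((Opens.map (θ Y n)).obj U)) :
    fib (T.L'.H.obj c) ≤ (Opens.map (spMap T.Z (𝟙 c.base.unop))).obj ((Opens.map (θ T.Z c.base.unop)).obj U) := by
  rw [spMap_id, ← T.w_pre]
  intro z hz
  show θ Y (p.obj c.base.unop) (T.τ c.base.unop z) ∈ U
  have := ConcreteCategory.congr_hom (θ_comp Y g.base.unop) (T.τ c.base.unop z)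
  exact this ▸ hom_le g hz

/-- The map from the image of an object. -/
noncomputable abbrev fromH {c : Tot T.pY} {n : B} {U : Opens (base Y)}
    (g : T.G.obj c ⟶ pob n ((Opens.map (θ Y n)).obj U)) :
    T.L'.H.obj c ⟶ pob c.base.unop ((Opens.map (θ T.Z c.base.unop)).obj U) :=
  (ph (𝟙 _) (T.fromH_le g) : pob c.base.unop (fib (T.L'.H.obj c)) ⟶ _)

theorem mem_of_hom {c : Tot T.pY} {n : B} {U : Opens (base Y)}
    (g : T.G.obj c ⟶ pob n ((Opens.map (θ Y n)).obj U)) {y : sp Y (p.obj c.base.unop)}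
    (hy : y ∈ (show Opens (sp Y (p.obj c.base.unop)) from fib c)) : θ Y (p.obj c.base.unop) y ∈ U :=
  (congrArg (· ∈ U) (ConcreteCategory.congr_hom (θ_comp Y g.base.unop) y)).mp (hom_le g hy)

theorem exists_pushHom (N : DS T.Z) (U : Opens (base Y)) :
    ∃ f : ((pushF Y).obj (T.Q.obj N)).obj.obj (op U) ⟶ ((pushF T.Z).obj N).obj.obj (op U),
      ∀ d, f ≫ pπ N (n := d) le_rfl =
        pπ (T.Q.obj N) (n := p.obj d) le_rfl ≫ rπ T.G _ (T.gU d U) ≫ N.obj.map (T.eU d U).op :=
  exists_plift (N := N) (U := U) (fun d => pπ (T.Q.obj N) (n := p.obj d) le_rfl ≫ rπ T.G _ (T.gU d U) ≫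
    N.obj.map (T.eU d U).op) fun d d' a h => by
    let hh : T.cU d' U ⟶ T.cU d U := phθ (Y := T.pY) a U
    have e1 : T.G.map hh ≫ T.gU d U = T.gU d' U ≫ phθ (p.map a) U := tot_hom_ext (by
      simp [Re, hh]
      try exact (Category.comp_id _).trans (Category.id_comp _).symm)
    have e2 : T.eU d' U ≫ T.L'.H.map hh = ph a h ≫ T.eU d U := tot_hom_ext (by simp [LMap.H, hh])
    refine (congrArg (· ≫ _) (pπ_compat (T.Q.obj N) (p.map a) U).symm).trans ?_
    refine (Category.assoc _ _ _).trans ?_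
    refine Eq.trans ?_ (Category.assoc _ _ _).symm
    refine congrArg (pπ (T.Q.obj N) le_rfl ≫ ·) ?_
    refine (Category.assoc _ _ _).symm.trans ?_
    refine (congrArg (· ≫ N.obj.map (T.eU d' U).op) ((map_rπ (G := T.G) _ (phθ (p.map a) U) (T.gU d' U)).trans
      ((congrArg (rπ T.G _) e1.symm).trans (rπ_comp _ hh (T.gU d U))))).trans ?_
    refine (Category.assoc _ _ _).trans (Eq.trans ?_ (Category.assoc _ _ _).symm)
    refine congrArg (rπ T.G _ (T.gU d U) ≫ ·) ?_
    show N.obj.map (T.L'.H.map hh).op ≫ N.obj.map (T.eU d' U).op = N.obj.map (T.eU d U).op ≫ N.obj.map (ph a h).op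
    rw [← Functor.map_comp, ← Functor.map_comp, ← op_comp, ← op_comp, e2]

theorem exists_pushInv (N : DS T.Z) (U : Opens (base Y)) :
    ∃ f : ((pushF T.Z).obj N).obj.obj (op U) ⟶ ((pushF Y).obj (T.Q.obj N)).obj.obj (op U),
      ∀ n (c : Tot T.pY) (g : T.G.obj c ⟶ pob n ((Opens.map (θ Y n)).obj U)), f ≫ pπ (T.Q.obj N) (n := n) le_rfl ≫ rπ T.G _ g =
        pπ N (n := c.base.unop) le_rfl ≫ N.obj.map (T.fromH (n := n) (U := U) g).op := by
  have hn : ∀ n, ∃ f : ((pushF T.Z).obj N).obj.obj (op U) ⟶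
      (T.Q.obj N).obj.obj (op (pob n ((Opens.map (θ Y n)).obj U))),
      ∀ (c : Tot T.pY) (g : T.G.obj c ⟶ pob n ((Opens.map (θ Y n)).obj U)), f ≫ rπ T.G _ g = pπ N (n := c.base.unop) le_rfl ≫ N.obj.map (T.fromH (n := n) (U := U) g).op :=
    fun n => exists_rlift (G := T.G) (P := ((T.L'.pushL).obj N).obj)
      (fun c g => pπ N (n := c.base.unop) le_rfl ≫ N.obj.map (T.fromH g).op) fun c c' h g => by
        show pπ N _ ≫ _ = (pπ N _ ≫ _) ≫ N.obj.map (T.L'.H.map h).op
        rw [← pπ_compat N h.base.unop U, Category.assoc, Category.assoc, ← Functor.map_comp,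
          ← Functor.map_comp, ← op_comp, ← op_comp]
        congr 3
        exact tot_hom_ext (by simp [LMap.H])
  choose f hf using hn
  obtain ⟨F, hF⟩ := exists_plift (N := T.Q.obj N) (U := U) f fun n m a h => by
    refine rπ_ext (G := T.G) fun c g => ?_
    refine (hf m c g).trans (Eq.trans ?_ (Category.assoc _ _ _).symm)
    refine Eq.trans ?_ (congrArg (f n ≫ ·) (map_rπ (G := T.G) _ (ph a h) g)).symm
    exact (hf n c _).symm
  exact ⟨F, fun n c g => ((Category.assoc _ _ _).symm.trans (congrArg (· ≫ _) (hF n))).trans (hf n c g)⟩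

/-- The components of the factorisation. -/
noncomputable def pushApp (N : DS T.Z) (U : Opens (base Y)) :
    ((pushF Y).obj (T.Q.obj N)).obj.obj (op U) ≅ ((pushF T.Z).obj N).obj.obj (op U) where
  hom := (T.exists_pushHom N U).choose
  inv := (T.exists_pushInv N U).choose
  hom_inv_id := pπ_ext fun n => rπ_ext (G := T.G) fun c g => by
    rw [Category.assoc, Category.assoc, (T.exists_pushInv N U).choose_spec n c g, ← Category.assoc,
      (T.exists_pushHom N U).choose_spec, Category.id_comp]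
    let k : c ⟶ T.cU c.base.unop U := (ph (Y := T.pY) (𝟙 c.base.unop) (show fib c ≤ _ by
      rw [spMap_id]
      exact fun y hy => T.mem_of_hom g hy) : pob c.base.unop (fib c) ⟶ _)
    have e1 : T.G.map k ≫ T.gU c.base.unop U ≫ phθ g.base.unop U = g := tot_hom_ext (by
      simp [k, Re])
    have e2 : T.fromH g ≫ T.eU c.base.unop U = T.L'.H.map k := tot_hom_ext (by simp [k, LMap.H])
    refine (Category.assoc _ _ _).trans ?_
    refine Eq.trans ?_ (congrArg (pπ (T.Q.obj N) le_rfl ≫ ·)
      ((congrArg (rπ T.G _) e1.symm).trans (rπ_comp _ k _))).symm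
    refine Eq.trans ?_ (congrArg (pπ (T.Q.obj N) le_rfl ≫ ·)
      (congrArg (· ≫ _) (map_rπ (G := T.G) _ (phθ g.base.unop U) (T.gU c.base.unop U))))
    refine Eq.trans ?_ ((congrArg (pπ (T.Q.obj N) le_rfl ≫ ·) (Category.assoc _ _ _).symm).trans rfl)
    refine Eq.trans ?_ (Category.assoc _ _ _)
    refine Eq.trans ?_ (congrArg (· ≫ _) (pπ_compat (T.Q.obj N) g.base.unop U)).symm
    refine congrArg (pπ (T.Q.obj N) le_rfl ≫ ·) ((Category.assoc _ _ _).trans ?_)
    refine congrArg (rπ T.G _ (T.gU c.base.unop U) ≫ ·) ?_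
    show N.obj.map (T.eU c.base.unop U).op ≫ N.obj.map (T.fromH g).op = N.obj.map (T.L'.H.map k).op
    rw [← Functor.map_comp, ← op_comp, e2]
  inv_hom_id := pπ_ext fun d => by
    rw [Category.assoc, (T.exists_pushHom N U).choose_spec, ← Category.assoc, ← Category.assoc,
      Category.assoc _ (pπ _ _), (T.exists_pushInv N U).choose_spec (p.obj d) _ (T.gU d U), Category.id_comp,
      Category.assoc, ← Functor.map_comp, ← op_comp]
    have e : T.eU d U ≫ T.fromH (T.gU d U) = 𝟙 _ := tot_hom_ext (by simp [LMap.H])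
    rw [e]
    exact (congrArg (pπ N _ ≫ ·) (N.obj.map_id _)).trans (Category.comp_id _)

theorem pushApp_spec (N : DS T.Z) (U : Opens (base Y)) (d : D) :
    (T.pushApp N U).hom ≫ pπ N (n := d) le_rfl =
      pπ (T.Q.obj N) (n := p.obj d) le_rfl ≫ rπ T.G _ (T.gU d U) ≫ N.obj.map (T.eU d U).op :=
  (T.exists_pushHom N U).choose_spec d

/-- The direct image factors. -/
noncomputable def pushIso : T.Q ⋙ pushF Y ≅ pushF T.Z :=
  NatIso.ofComponents (fun N =>
    (fullyFaithfulSheafToPresheaf _ _).preimageIso (NatIso.ofComponents (fun U => T.pushApp N U.unop) fun {U U'} i =>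
      pπ_ext fun d => by
        have h : (Opens.map (θ T.Z d)).obj U'.unop ≤
            (Opens.map (spMap T.Z (𝟙 d))).obj ((Opens.map (θ T.Z d)).obj U.unop) := by
          rw [spMap_id]; exact ((Opens.map _).map i.unop).le
        have h' : (Opens.map (θ Y (p.obj d))).obj U'.unop ≤
            (Opens.map (spMap Y (𝟙 (p.obj d)))).obj ((Opens.map (θ Y (p.obj d))).obj U.unop) := by
          rw [spMap_id]; exact ((Opens.map _).map i.unop).le
        let k : T.cU d U'.unop ⟶ T.cU d U.unop := ph (Y := T.pY) (𝟙 d) (show _ ≤ _ by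
          rw [spMap_id]; exact ((Opens.map (θ Y (p.obj d))).map i.unop).le)
        have e1 : T.G.map k ≫ T.gU d U.unop = T.gU d U'.unop ≫ ph (𝟙 _) h' := tot_hom_ext (by simp [k, Re])
        have e2 : T.eU d U'.unop ≫ T.L'.H.map k = ph (𝟙 d) h ≫ T.eU d U.unop :=
          tot_hom_ext (by simp [k, LMap.H])
        show (((pushF Y).obj (T.Q.obj N)).obj.map i.unop.op ≫ (T.pushApp N U'.unop).hom) ≫ _ =
          ((T.pushApp N U.unop).hom ≫ ((pushF T.Z).obj N).obj.map i.unop.op) ≫ _
        refine (Category.assoc _ _ _).trans ((congrArg (_ ≫ ·) (T.pushApp_spec N U'.unop d)).trans ?_)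
        refine (Category.assoc _ _ _).symm.trans ((congrArg (· ≫ _) (map_pπ (T.Q.obj N) i.unop h')).trans ?_)
        refine Eq.trans ?_ (Category.assoc _ _ _).symm
        refine Eq.trans ?_ (congrArg (_ ≫ ·) (map_pπ N i.unop h)).symm
        refine Eq.trans ?_ (Category.assoc _ _ _)
        refine Eq.trans ?_ (congrArg (· ≫ _) (T.pushApp_spec N U.unop d)).symm
        refine (Category.assoc _ _ _).trans (Eq.trans ?_ (Category.assoc _ _ _).symm)
        refine congrArg (pπ (T.Q.obj N) le_rfl ≫ ·) ?_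
        refine (Category.assoc _ _ _).symm.trans ?_
        refine (congrArg (· ≫ _) ((map_rπ (G := T.G) _ (ph (𝟙 _) h') (T.gU d U'.unop)).trans
          ((congrArg (rπ T.G _) e1.symm).trans (rπ_comp _ k (T.gU d U.unop))))).trans ?_
        refine (Category.assoc _ _ _).trans (Eq.trans ?_ (Category.assoc _ _ _).symm)
        refine congrArg (rπ T.G _ (T.gU d U.unop) ≫ ·) ?_
        show N.obj.map (T.L'.H.map k).op ≫ N.obj.map (T.eU d U'.unop).op = _
        rw [← Functor.map_comp, ← Functor.map_comp, ← op_comp, ← op_comp, e2]))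
    fun {N N'} f => by
      apply Sheaf.hom_ext
      apply NatTrans.ext
      funext U
      refine pπ_ext fun d => ?_
      show (((pushF Y).map (T.Q.map f)).hom.app (op U.unop) ≫ (T.pushApp N' U.unop).hom) ≫ _ =
        ((T.pushApp N U.unop).hom ≫ ((pushF T.Z).map f).hom.app (op U.unop)) ≫ _
      refine (Category.assoc _ _ _).trans ((congrArg (_ ≫ ·) (T.pushApp_spec N' U.unop d)).trans ?_)
      refine (Category.assoc _ _ _).symm.trans ((congrArg (· ≫ _) (pushMap_pπ (T.Q.map f))).trans ?_)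
      refine Eq.trans ?_ (Category.assoc _ _ _).symm
      refine Eq.trans ?_ (congrArg (_ ≫ ·) (pushMap_pπ f)).symm
      refine Eq.trans ?_ (Category.assoc _ _ _)
      refine Eq.trans ?_ (congrArg (· ≫ _) (T.pushApp_spec N U.unop d)).symm
      refine (Category.assoc _ _ _).trans (Eq.trans ?_ (Category.assoc _ _ _).symm)
      refine congrArg (pπ (T.Q.obj N) le_rfl ≫ ·) ?_
      refine (Category.assoc _ _ _).symm.trans ?_
      refine (congrArg (· ≫ _) (ran_map_rπ (T.L'.pushL.map f).hom (T.gU d U.unop))).trans ?_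
      refine (Category.assoc _ _ _).trans (Eq.trans ?_ (Category.assoc _ _ _).symm)
      exact congrArg (_ ≫ ·) (f.hom.naturality (T.eU d U.unop).op).symm

theorem pushIso_app (N : DS T.Z) (U : Opens (base Y)) :
    (T.pushIso.hom.app N).hom.app (op U) = (T.pushApp N U).hom := rfl

/-- The comparison of inverse images. -/
noncomputable def α : pullF Y ⟶ pullF T.Z ⋙ T.Q where
  app L := ((padj (Y := Y)).homEquiv L (T.Q.obj ((pullF T.Z).obj L))).symm
    ((padj (Y := T.Z)).unit.app L ≫ T.pushIso.inv.app _)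
  naturality L L' f := by
    apply ((padj (Y := Y)).homEquiv _ _).injective
    refine ((padj (Y := Y)).homEquiv_naturality_left _ _).trans ?_
    refine Eq.trans ?_ ((padj (Y := Y)).homEquiv_naturality_right _ _).symm
    refine (congrArg (f ≫ ·) (Equiv.apply_symm_apply _ _)).trans ?_
    refine Eq.trans ?_ (congrArg (· ≫ _) (Equiv.apply_symm_apply _ _)).symm
    have h1 := (padj (Y := T.Z)).unit.naturality f
    have h2 := T.pushIso.inv.naturality ((pullF T.Z).map f)
    refine (Category.assoc _ _ _).symm.trans ((congrArg (· ≫ _) h1).trans ?_)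
    refine (Category.assoc _ _ _).trans ((congrArg (_ ≫ ·) h2).trans (Category.assoc _ _ _).symm)

end Tower

end Groth.Agent.FibDescLib
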