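import Groth.Agent.FibDescLib.Slice
import Groth.Agent.FibDescLib.UnitCritGen

/-!
Descent along a family over a family whose slices are of descent.
-/

set_option autoImplicit false
set_option backward.isDefEq.respectTransparency false
set_option backward.isDefEq.respectTransparency.types false
set_option backward.defeqAttrib.useBackward true
set_option linter.style.haveILetI false

universe u

open CategoryTheory CategoryTheory.Limits Opposite TopologicalSpace
open CategoryTheory.Pseudofunctor CategoryTheory.Pseudofunctor.CoGrothendieck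

namespace Groth.Agent.FibDescLib

attribute [local instance] HasDerivedCategory.standard

variable {D B : Type} [SmallCategory D] [SmallCategory B] {p : D ⥤ B}
  {Y : (WithInitial B)ᵒᵖ ⥤ TopCat.{u}}

namespace Slice

variable (T : Tower p Y) {n : B} {K : Type} [SmallCategory K] (σ : Slice p n K)

instance rn_additive : (σ.rn T).Additive where

instance rn_lex : PreservesFiniteLimits (σ.rn T) := by
  have := σ.ιn_isContinuous T
  have := ((ιn n Y).sheafAdjunctionContinuous AddCommGrpCat.{u}
    (FibDesc.topAugTop (σ.Zn T) (FibDesc.bot K)) (totTop Y)).rightAdjoint_preservesLimits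
  infer_instance

instance rn_rex : PreservesFiniteColimits (σ.rn T) := by
  have := σ.ιn_isContinuous T
  have := σ.ιn_isCocontinuous T
  have := ((ιn n Y).sheafAdjunctionCocontinuous AddCommGrpCat.{u}
    (FibDesc.topAugTop (σ.Zn T) (FibDesc.bot K)) (totTop Y)).leftAdjoint_preservesColimits
  infer_instance

end Slice

namespace Tower

variable (T : Tower p Y)

attribute [local instance] preservesBinaryBiproducts_of_preservesBinaryProducts in
theorem ranR_additive :
    (ranR Y p (base Y) (fun d => θ Y (p.obj d)) (fun a => θ_comp Y (p.map a))).Additive := by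
  have := ((Re Y p (base Y) (fun d => θ Y (p.obj d)) (fun a => θ_comp Y (p.map a))).sheafAdjunctionCocontinuous
    AddCommGrpCat.{u} (totTop (reAug Y p (base Y) (fun d => θ Y (p.obj d)) (fun a => θ_comp Y (p.map a))))
    (totTop Y)).rightAdjoint_preservesLimits
  exact Functor.additive_of_preservesBinaryBiproducts _

instance Q_additive : T.Q.Additive := by
  have := ranR_additive (p := p) (Y := Y)
  exact inferInstanceAs (T.L'.pushL ⋙ ranR Y p (base Y) (fun d => θ Y (p.obj d)) (fun a => θ_comp Y (p.map a))).Additive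

/-- The resolution on the intermediate family. -/
noncomputable abbrev qY {L : CochainComplex (BS Y) ℤ} {J : CochainComplex (DS T.Z) ℤ}
    (q : ((pullF T.Z).mapHomologicalComplex (ComplexShape.up ℤ)).obj L ⟶ J) :
    ((pullF Y).mapHomologicalComplex (ComplexShape.up ℤ)).obj L ⟶
      (T.Q.mapHomologicalComplex (ComplexShape.up ℤ)).obj J :=
  { f := fun i => T.α.app (L.X i) ≫ T.Q.map (q.f i)
    comm' := fun i j _ => by
      have h1 : (pullF Y).map (L.d i j) ≫ T.α.app (L.X j) =
          T.α.app (L.X i) ≫ T.Q.map ((pullF T.Z).map (L.d i j)) := T.α.naturality (L.d i j)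
      have h2 : q.f i ≫ J.d i j = (pullF T.Z).map (L.d i j) ≫ q.f j := q.comm i j
      show (T.α.app (L.X i) ≫ T.Q.map (q.f i)) ≫ T.Q.map (J.d i j) =
        (pullF Y).map (L.d i j) ≫ T.α.app (L.X j) ≫ T.Q.map (q.f j)
      refine (Category.assoc _ _ _).trans ?_
      refine (congrArg (T.α.app (L.X i) ≫ ·) (((T.Q.map_comp _ _).symm.trans (congrArg T.Q.map h2)).trans
        (T.Q.map_comp _ _))).trans ?_
      refine (Category.assoc _ _ _).symm.trans ?_
      exact (congrArg (· ≫ T.Q.map (q.f j)) h1.symm).trans (Category.assoc _ _ _) }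

theorem transpose_qY_comp {L : BS Y} {J : DS T.Z} (q : (pullF T.Z).obj L ⟶ J) :
    ((padj (Y := Y)).unit.app L ≫ (pushF Y).map (T.α.app L ≫ T.Q.map q)) ≫ T.pushIso.hom.app J =
      (padj (Y := T.Z)).unit.app L ≫ (pushF T.Z).map q := by
  have h1 : (padj (Y := Y)).unit.app L ≫ (pushF Y).map (T.α.app L) =
      (padj (Y := T.Z)).unit.app L ≫ T.pushIso.inv.app ((pullF T.Z).obj L) := by
    refine ((padj (Y := Y)).homEquiv_unit L _ (T.α.app L)).symm.trans ?_
    exact Equiv.apply_symm_apply _ _
  have h2 := T.pushIso.hom.naturality q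
  rw [Functor.map_comp]
  refine (congrArg (· ≫ T.pushIso.hom.app J) (Category.assoc _ _ _).symm).trans ?_
  refine (congrArg (· ≫ T.pushIso.hom.app J) (congrArg (· ≫ _) h1)).trans ?_
  refine (Category.assoc _ _ _).trans ((congrArg (_ ≫ ·) h2).trans ?_)
  refine (Category.assoc _ _ _).trans ?_
  refine congrArg ((padj (Y := T.Z)).unit.app L ≫ ·) ?_
  exact (Category.assoc _ _ _).symm.trans
    ((congrArg (· ≫ (pushF T.Z).map q) (T.pushIso.inv_hom_id_app _)).trans (Category.id_comp _))

theorem slice_transpose {n : B} {K : Type} [SmallCategory K] (σ : Slice p n K) {L : BS Y} {J : DS T.Z}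
    (q : (pullF T.Z).obj L ⟶ J) :
    (σ.rn T).map (T.α.app L ≫ T.Q.map q) ≫ (σ.β T).hom.app J =
      (padj (Y := σ.Zn T)).unit.app ((σ.rn T).obj ((pullF Y).obj L)) ≫
        (pushF (σ.Zn T)).map (σ.pc T L ≫ (σ.rZ T).map q) := by
  have h1 : (padj (Y := σ.Zn T)).unit.app ((σ.rn T).obj ((pullF Y).obj L)) ≫ (pushF (σ.Zn T)).map (σ.pc T L) =
      (σ.rn T).map (T.α.app L) ≫ (σ.β T).hom.app ((pullF T.Z).obj L) := by
    refine ((padj (Y := σ.Zn T)).homEquiv_unit _ _ (σ.pc T L)).symm.trans ?_
    exact Equiv.apply_symm_apply _ _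
  rw [Functor.map_comp, Functor.map_comp]
  refine (Category.assoc _ _ _).trans ((congrArg (_ ≫ ·) ((σ.β T).hom.naturality q)).trans ?_)
  refine (Category.assoc _ _ _).symm.trans ?_
  exact ((congrArg (· ≫ _) h1.symm).trans (Category.assoc _ _ _))

set_option maxHeartbeats 2000000 in
theorem quasiIso_qY {K : Type} [SmallCategory K] (σ : ∀ n, Slice p n K)
    (hσ : ∀ n, FibDesc.IsCohDescentTop ((σ n).Zn T))
    (L : CochainComplex (BS Y) ℤ) (J : CochainComplex (DS T.Z) ℤ) (a : ℤ) [L.IsStrictlyGE a] [J.IsStrictlyGE a]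
    [∀ i, Injective (J.X i)]
    (q : ((pullF T.Z).mapHomologicalComplex (ComplexShape.up ℤ)).obj L ⟶ J) [QuasiIso q] :
    QuasiIso (T.qY q) := by
  refine quasiIso_of_jointly (fun n => (σ n).rn T) ?_ _ ?_
  · intro M M' f hf
    have : ∀ c, IsIso (f.hom.app c) := fun c => by
      have := hf c.unop.base.unop
      exact (inferInstance : IsIso (((sheafToPresheaf _ _).map (((σ c.unop.base.unop).rn T).map f)).app
        (op (fib c.unop))))
    have : IsIso f.hom := NatIso.isIso_of_isIso_app _
    have : IsIso ((sheafToPresheaf _ _).map f) := ‹IsIso f.hom›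
    exact isIso_of_reflects_iso f (sheafToPresheaf _ _)
  · intro n
    obtain ⟨_, _, _, _, _, hlex, hFF⟩ := hσ n
    let c := ComplexShape.up ℤ
    let M := (((σ n).rn T).mapHomologicalComplex c).obj (((pullF Y).mapHomologicalComplex c).obj L)
    let J' := (((σ n).rZ T).mapHomologicalComplex c).obj J
    have : ∀ i, Injective (J'.X i) := fun i => (σ n).injective_rZ T (J.X i)
    have : CochainComplex.IsStrictlyGE M a :=
      inferInstanceAs (CochainComplex.IsStrictlyGE ((((σ n).rn T).mapHomologicalComplex c).obj (((pullF Y).mapHomologicalComplex c).obj L)) a)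
    have : CochainComplex.IsStrictlyGE J' a :=
      inferInstanceAs (CochainComplex.IsStrictlyGE ((((σ n).rZ T).mapHomologicalComplex c).obj J) a)
    have natpc : ∀ {L₁ L₂ : BS Y} (f : L₁ ⟶ L₂),
        (pullF ((σ n).Zn T)).map (((σ n).rn T).map ((pullF Y).map f)) ≫ (σ n).pc T L₂ =
          (σ n).pc T L₁ ≫ ((σ n).rZ T).map ((pullF T.Z).map f) := by
      intro L₁ L₂ f
      apply ((padj (Y := (σ n).Zn T)).homEquiv _ _).injective
      refine ((padj (Y := (σ n).Zn T)).homEquiv_naturality_left _ _).trans ?_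
      refine Eq.trans ?_ ((padj (Y := (σ n).Zn T)).homEquiv_naturality_right _ _).symm
      refine (congrArg (_ ≫ ·) (Equiv.apply_symm_apply _ _)).trans ?_
      refine Eq.trans ?_ (congrArg (· ≫ _) (Equiv.apply_symm_apply _ _)).symm
      refine Eq.trans ?_ (Category.assoc _ _ _).symm
      refine Eq.trans ?_ (congrArg (_ ≫ ·) (((σ n).β T).hom.naturality ((pullF T.Z).map f)))
      refine (Category.assoc _ _ _).symm.trans (Eq.trans ?_ (Category.assoc _ _ _))
      refine congrArg (· ≫ _) ?_
      exact ((((σ n).rn T)).map_comp _ _).symm.trans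
        ((congrArg ((σ n).rn T).map (T.α.naturality f)).trans (((σ n).rn T).map_comp _ _))
    let pcx : ((pullF ((σ n).Zn T)).mapHomologicalComplex c).obj M ⟶
        (((σ n).rZ T).mapHomologicalComplex c).obj (((pullF T.Z).mapHomologicalComplex c).obj L) :=
      { f := fun i => (σ n).pc T (L.X i)
        comm' := fun i j _ => (natpc (L.d i j)).symm }
    have : ∀ i, IsIso (pcx.f i) := fun i => (σ n).isIso_pc T (L.X i)
    have : IsIso pcx := HomologicalComplex.Hom.isIso_of_components pcx
    let q' : ((pullF ((σ n).Zn T)).mapHomologicalComplex c).obj M ⟶ J' :=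
      pcx ≫ (((σ n).rZ T).mapHomologicalComplex c).map q
    have : QuasiIso q' := inferInstanceAs (QuasiIso (pcx ≫ (((σ n).rZ T).mapHomologicalComplex c).map q))
    have hq := quasiIso_transpose_gen (padj (Y := (σ n).Zn T)) hFF a q'
    let bs : (((σ n).rn T).mapHomologicalComplex c).obj ((T.Q.mapHomologicalComplex c).obj J) ⟶
        ((pushF ((σ n).Zn T)).mapHomologicalComplex c).obj J' :=
      { f := fun i => ((σ n).β T).hom.app (J.X i)
        comm' := fun i j _ => (((σ n).β T).hom.naturality (J.d i j)).symm }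
    have : ∀ i, IsIso (bs.f i) := fun i => inferInstanceAs (IsIso (((σ n).β T).hom.app (J.X i)))
    have : IsIso bs := HomologicalComplex.Hom.isIso_of_components bs
    have e : (((σ n).rn T).mapHomologicalComplex c).map (T.qY q) ≫ bs =
        cxTranspose (padj (Y := (σ n).Zn T)) q' := by
      apply HomologicalComplex.hom_ext
      intro i
      exact T.slice_transpose (σ n) (q.f i)
    exact (quasiIso_iff_comp_right _ bs).1 (e ▸ hq)

theorem cxTranspose_qY {L : CochainComplex (BS Y) ℤ} {J : CochainComplex (DS T.Z) ℤ}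
    (q : ((pullF T.Z).mapHomologicalComplex (ComplexShape.up ℤ)).obj L ⟶ J) :
    QuasiIso (cxTranspose (padj (Y := Y)) (T.qY q)) ↔ QuasiIso (cxTranspose (padj (Y := T.Z)) q) := by
  let c := ComplexShape.up ℤ
  let ps : ((pushF Y).mapHomologicalComplex c).obj ((T.Q.mapHomologicalComplex c).obj J) ⟶
      ((pushF T.Z).mapHomologicalComplex c).obj J :=
    { f := fun i => T.pushIso.hom.app (J.X i)
      comm' := fun i j _ => (T.pushIso.hom.naturality (J.d i j)).symm }
  have : ∀ i, IsIso (ps.f i) := fun i => inferInstanceAs (IsIso (T.pushIso.hom.app (J.X i)))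
  have : IsIso ps := HomologicalComplex.Hom.isIso_of_components ps
  have e : cxTranspose (padj (Y := Y)) (T.qY q) ≫ ps = cxTranspose (padj (Y := T.Z)) q := by
    apply HomologicalComplex.hom_ext
    intro i
    exact T.transpose_qY_comp (q.f i)
  rw [← e]
  exact (quasiIso_iff_comp_right _ ps).symm

variable {K : Type} [SmallCategory K] (σ : ∀ n, Slice p n K) (hσ : ∀ n, FibDesc.IsCohDescentTop ((σ n).Zn T))
include hσ

/-- Descent goes up. -/
theorem isCohDescentTop_Z [HasSheafify (totTop T.Z) AddCommGrpCat.{u}] (hY : FibDesc.IsCohDescentTop Y) :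
    FibDesc.IsCohDescentTop T.Z := by
  refine ⟨inferInstance, inferInstance, inferInstance, inferInstance, inferInstance, inferInstance, ?_⟩
  refine bijective_of_exists_resolution (padj (Y := T.Z)) fun L a _ _ => ?_
  obtain ⟨J, q, _, hJ, _⟩ :=
    exists_injective_resolution (((pullF T.Z).mapHomologicalComplex (ComplexShape.up ℤ)).obj L) a
  refine ⟨J, q, ‹_›, hJ, ‹_›, (T.cxTranspose_qY q).1 ?_⟩
  have := T.quasiIso_qY σ hσ L J a q
  obtain ⟨_, _, _, _, _, hlex, hFF⟩ := hY
  have : ∀ i, Injective (((T.Q.mapHomologicalComplex (ComplexShape.up ℤ)).obj J).X i) :=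
    fun i => T.injective_Q (J.X i)
  exact quasiIso_transpose_gen (padj (Y := Y)) hFF a (T.qY q)

/-- Descent goes down. -/
theorem isCohDescentTop_of_Z (hZ : FibDesc.IsCohDescentTop T.Z) : FibDesc.IsCohDescentTop Y := by
  refine ⟨inferInstance, inferInstance, inferInstance, inferInstance, inferInstance, inferInstance, ?_⟩
  refine bijective_of_exists_resolution (padj (Y := Y)) fun L a _ _ => ?_
  obtain ⟨J, q, _, hJ, _⟩ :=
    exists_injective_resolution (((pullF T.Z).mapHomologicalComplex (ComplexShape.up ℤ)).obj L) a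
  obtain ⟨_, _, _, _, _, hlex, hFF⟩ := hZ
  refine ⟨(T.Q.mapHomologicalComplex (ComplexShape.up ℤ)).obj J, T.qY q, inferInstance,
    fun i => T.injective_Q (J.X i), T.quasiIso_qY σ hσ L J a q, (T.cxTranspose_qY q).2 ?_⟩
  exact quasiIso_transpose_gen (padj (Y := T.Z)) hFF a q

end Tower

end Groth.Agent.FibDescLib
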