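import Groth.Agent.FibDescLib.Shift
import Groth.Agent.FibDescLib.Pull

/-!
The transformations `α : 𝟭 ⟶ T`, `β : R ⋙ θ̄^* ⟶ T` and `w : 𝟭 ⟶ θ̄^* ⋙ R`.
-/

set_option autoImplicit false
set_option backward.isDefEq.respectTransparency false
set_option backward.isDefEq.respectTransparency.types false
set_option backward.defeqAttrib.useBackward true
set_option linter.style.haveILetI false

universe u

open CategoryTheory CategoryTheory.Limits Opposite TopologicalSpace
open CategoryTheory.Pseudofunctor CategoryTheory.Pseudofunctor.CoGrothendieck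

namespace Groth.Agent.FibDescLib

namespace Split

variable {Y : (WithInitial SimplexCategory)ᵒᵖ ⥤ TopCat.{u}} (D : Split Y)

/-- The adjunction of the extra degeneracy. -/
noncomputable abbrev Φadj := D.Φ.sheafAdjunctionContinuous AddCommGrpCat.{u} D.decTot (totTop Y)

/-- The adjunction of the section. -/
noncomputable abbrev secAdj :=
  (Opens.map D.sec).sheafAdjunctionContinuous AddCommGrpCat.{u} oTop (FibDesc.topAugTop Y (FibDesc.bot SimplexCategory))

/-- The unit of the shift. -/
noncomputable def eta (M : DS Y) (c : Dec D) :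
    M.obj.obj (op (D.B.obj c)) ⟶ (D.T.obj M).obj.obj (op (D.Φ.obj c)) :=
  (D.Φadj.unit.app (D.ρ.obj M)).hom.app (op c)

theorem eta_map (M : DS Y) {c c' : Dec D} (g : c ⟶ c') :
    M.obj.map (D.B.map g).op ≫ D.eta M c = D.eta M c' ≫ (D.T.obj M).obj.map (D.Φ.map g).op :=
  (D.Φadj.unit.app (D.ρ.obj M)).hom.naturality g.op

theorem eta_naturality {M M' : DS Y} (f : M ⟶ M') (c : Dec D) :
    f.hom.app (op (D.B.obj c)) ≫ D.eta M' c = D.eta M c ≫ (D.T.map f).hom.app (op (D.Φ.obj c)) :=
  congrArg (fun k => k.hom.app (op c)) (D.Φadj.unit.naturality (D.ρ.map f))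

theorem eta_shift (M : DS Y) {c c' : Dec D} (g : c ⟶ c') {x z : Tot Y} (k : D.B.obj c' ⟶ x)
    (l : z ⟶ D.Φ.obj c) :
    M.obj.map (D.B.map g ≫ k).op ≫ D.eta M c ≫ (D.T.obj M).obj.map l.op =
      M.obj.map k.op ≫ D.eta M c' ≫ (D.T.obj M).obj.map (l ≫ D.Φ.map g).op := by
  rw [op_comp, op_comp, Functor.map_comp, Functor.map_comp, Category.assoc]
  refine congrArg (M.obj.map k.op ≫ ·) ?_
  exact (Category.assoc _ _ _).symm.trans
    ((congrArg (· ≫ (D.T.obj M).obj.map l.op) (D.eta_map M g)).trans (Category.assoc _ _ _))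

theorem eta_nat {M M' : DS Y} (f : M ⟶ M') {c : Dec D} {x z : Tot Y} (k : D.B.obj c ⟶ x)
    (l : z ⟶ D.Φ.obj c) :
    f.hom.app (op x) ≫ M'.obj.map k.op ≫ D.eta M' c ≫ (D.T.obj M').obj.map l.op =
      (M.obj.map k.op ≫ D.eta M c ≫ (D.T.obj M).obj.map l.op) ≫ (D.T.map f).hom.app (op z) := by
  have h1 : M.obj.map k.op ≫ f.hom.app (op (D.B.obj c)) = f.hom.app (op x) ≫ M'.obj.map k.op :=
    f.hom.naturality k.op
  have h2 : (D.T.obj M).obj.map l.op ≫ (D.T.map f).hom.app (op z) =
      (D.T.map f).hom.app (op (D.Φ.obj c)) ≫ (D.T.obj M').obj.map l.op := (D.T.map f).hom.naturality l.op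
  refine (Category.assoc _ _ _).symm.trans ((congrArg (· ≫ _) h1.symm).trans ?_)
  refine (Category.assoc _ _ _).trans (Eq.trans ?_ (Category.assoc _ _ _).symm)
  refine congrArg (M.obj.map k.op ≫ ·) ?_
  refine (Category.assoc _ _ _).symm.trans ((congrArg (· ≫ _) (D.eta_naturality f c)).trans ?_)
  refine (Category.assoc _ _ _).trans (Eq.trans ?_ (Category.assoc _ _ _).symm)
  exact congrArg (D.eta M c ≫ ·) h2.symm

theorem T_ext {M N : DS Y} {f f' : D.T.obj M ⟶ N}
    (h : ∀ c, D.eta M c ≫ f.hom.app (op (D.Φ.obj c)) = D.eta M c ≫ f'.hom.app (op (D.Φ.obj c))) : f = f' := by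
  apply (D.Φadj.homEquiv (D.ρ.obj M) N).injective
  rw [Adjunction.homEquiv_unit, Adjunction.homEquiv_unit]
  apply Sheaf.hom_ext
  apply NatTrans.ext
  funext c
  exact h c.unop

/-- The unit of the section. -/
noncomputable def etaR (M : DS Y) (W : Opens (sp Y (SimplexCategory.mk 0))) :
    M.obj.obj (op (pob (SimplexCategory.mk 0) W)) ⟶ (D.R.obj M).obj.obj (op ((Opens.map D.sec).obj W)) :=
  (D.secAdj.unit.app ((ιo (Y := Y)).sheafPushforwardContinuous AddCommGrpCat.{u} oTop (totTop Y) |>.obj M)).hom.app (op W)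

theorem etaR_naturality {M M' : DS Y} (f : M ⟶ M') (W : Opens (sp Y (SimplexCategory.mk 0))) :
    f.hom.app (op (pob (SimplexCategory.mk 0) W)) ≫ D.etaR M' W =
      D.etaR M W ≫ (D.R.map f).hom.app (op ((Opens.map D.sec).obj W)) :=
  congrArg (fun k => k.hom.app (op W))
    (D.secAdj.unit.naturality ((ιo (Y := Y)).sheafPushforwardContinuous AddCommGrpCat.{u} oTop (totTop Y) |>.map f))

theorem le_map_id (n : SimplexCategory) {U U' : Opens (sp Y n)} (h : U ≤ U') :
    U ≤ (Opens.map (spMap Y (𝟙 n))).obj U' := by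
  rw [spMap_id]; exact h

/-- The source of the components of `α`. -/
abbrev cα (x : Tot Y) : Dec D :=
  D.dob x.base.unop ((Opens.map (spMap Y (D.ι.app x.base.unop))).obj (fib x))

/-- The comparison with the shift. -/
noncomputable abbrev kα (x : Tot Y) : D.B.obj (D.cα x) ⟶ x :=
  (ph (D.ι.app x.base.unop) le_rfl : D.B.obj (D.cα x) ⟶ pob x.base.unop (fib x))

/-- The identification after the extra degeneracy. -/
noncomputable abbrev lα (x : Tot Y) : x ⟶ D.Φ.obj (D.cα x) :=
  (ph (𝟙 x.base.unop) (le_map_id _ (le_of_eq (by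
    show _ = (Opens.map (D.sh _)).obj ((Opens.map _).obj _)
    rw [map_map_obj (D.sh_ι x.base.unop)]
    rfl))) : pob x.base.unop (fib x) ⟶ D.Φ.obj (D.cα x))

/-- The morphism of sources induced by a morphism. -/
noncomputable abbrev gα {x x' : Tot Y} (g : x ⟶ x') : D.cα x ⟶ D.cα x' :=
  D.dh g.base.unop (by
    refine le_trans ((Opens.map _).map (homOfLE (hom_le g))).le (le_of_eq ?_)
    have e : D.ι.app x'.base.unop ≫ D.σ.map g.base.unop = g.base.unop ≫ D.ι.app x.base.unop :=
      (D.ι.naturality g.base.unop).symm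
    rw [map_map_obj (spMap_comp Y g.base.unop (D.ι.app x.base.unop)).symm, ← e,
      map_map_obj (spMap_comp Y (D.ι.app x'.base.unop) (D.σ.map g.base.unop)).symm])

/-- `α : 𝟭 ⟶ T`. -/
noncomputable def α : 𝟭 (DS Y) ⟶ D.T where
  app M :=
    ⟨{ app := fun x => M.obj.map (D.kα x.unop).op ≫ D.eta M _ ≫ (D.T.obj M).obj.map (D.lα x.unop).op
       naturality := fun x x' g => by
         have e1 : D.B.map (D.gα g.unop) ≫ D.kα x.unop = D.kα x'.unop ≫ g.unop :=
           tot_hom_ext (Quiver.Hom.unop_inj (D.ι.naturality g.unop.base.unop).symm)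
         have e2 : D.lα x'.unop ≫ D.Φ.map (D.gα g.unop) = g.unop ≫ D.lα x.unop :=
           tot_hom_ext (by simp [Φ])
         show M.obj.map g ≫ M.obj.map (D.kα x'.unop).op ≫ _ = (M.obj.map (D.kα x.unop).op ≫ _) ≫ _
         rw [← Category.assoc, ← M.obj.map_comp, show g ≫ (D.kα x'.unop).op = (D.kα x'.unop ≫ g.unop).op from rfl,
           ← e1]
         refine (D.eta_shift M (D.gα g.unop) (D.kα x.unop) (D.lα x'.unop)).trans ?_
         rw [e2]
         simp only [Category.assoc]
         congr 2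
         exact (D.T.obj M).obj.map_comp (D.lα x.unop).op g }⟩
  naturality M M' f := by
    apply Sheaf.hom_ext
    apply NatTrans.ext
    funext x
    exact D.eta_nat f (D.kα x.unop) (D.lα x.unop)

theorem α_app (M : DS Y) (x : Tot Y) :
    (D.α.app M).hom.app (op x) =
      M.obj.map (D.kα x).op ≫ D.eta M _ ≫ (D.T.obj M).obj.map (D.lα x).op := rfl

/-- The source of the components of `β`. -/
abbrev cβ (n : SimplexCategory) (W : Opens (sp Y (SimplexCategory.mk 0))) : Dec D :=
  D.dob n ((Opens.map (spMap Y (D.v n))).obj W)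

/-- The new vertex. -/
noncomputable abbrev kβ (n : SimplexCategory) (W : Opens (sp Y (SimplexCategory.mk 0))) :
    D.B.obj (D.cβ n W) ⟶ pob (SimplexCategory.mk 0) W :=
  ph (D.v n) le_rfl

/-- The identification after the extra degeneracy. -/
noncomputable abbrev lβ (n : SimplexCategory) (W : Opens (sp Y (SimplexCategory.mk 0))) :
    pob n ((Opens.map (θ Y n)).obj ((Opens.map D.sec).obj W)) ⟶ D.Φ.obj (D.cβ n W) :=
  ph (𝟙 n) (le_map_id _ (le_of_eq (by
    show _ = (Opens.map (D.sh n)).obj ((Opens.map _).obj W)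
    rw [map_map_obj (D.sh_v n)]
    rfl)))

/-- The components of `β`. -/
noncomputable abbrev φβ (M : DS Y) (n : SimplexCategory) (W : Opens (sp Y (SimplexCategory.mk 0))) :
    M.obj.obj (op (pob (SimplexCategory.mk 0) W)) ⟶
      (D.T.obj M).obj.obj (op (pob n ((Opens.map (θ Y n)).obj ((Opens.map D.sec).obj W)))) :=
  M.obj.map (D.kβ n W).op ≫ D.eta M _ ≫ (D.T.obj M).obj.map (D.lβ n W).op

theorem φβ_compat (M : DS Y) (W : Opens (sp Y (SimplexCategory.mk 0))) {n m : SimplexCategory} (a : n ⟶ m) :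
    D.φβ M m W = D.φβ M n W ≫ (D.T.obj M).obj.map (phθ a ((Opens.map D.sec).obj W)).op := by
  let g : D.cβ m W ⟶ D.cβ n W := D.dh a (le_of_eq (by
    rw [map_map_obj (spMap_comp Y (D.v n) (D.σ.map a)).symm, D.v_nat]))
  have e1 : D.B.map g ≫ D.kβ n W = D.kβ m W := tot_hom_ext (Quiver.Hom.unop_inj (D.v_nat a))
  have e2 : D.lβ m W ≫ D.Φ.map g = phθ a ((Opens.map D.sec).obj W) ≫ D.lβ n W :=
    tot_hom_ext (by simp [g, Φ])
  rw [φβ, φβ, ← e1, D.eta_shift M g (D.kβ n W) (D.lβ m W), e2, op_comp, Functor.map_comp]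
  simp only [Category.assoc]

/-- The lift to the direct image. -/
noncomputable def b0app (M : DS Y) (W : Opens (sp Y (SimplexCategory.mk 0))) :
    M.obj.obj (op (pob (SimplexCategory.mk 0) W)) ⟶
      ((pushF Y).obj (D.T.obj M)).obj.obj (op ((Opens.map D.sec).obj W)) :=
  (exists_plift (fun n => D.φβ M n W) (fun n m a _ => D.φβ_compat M W a)).choose

theorem b0app_spec (M : DS Y) (W : Opens (sp Y (SimplexCategory.mk 0))) (n : SimplexCategory) :
    D.b0app M W ≫ pπ _ (n := n) le_rfl = D.φβ M n W :=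
  (exists_plift (fun n => D.φβ M n W) (fun n m a _ => D.φβ_compat M W a)).choose_spec n

/-- The adjoint of `β`, before extension along the section. -/
noncomputable def b0 : (ιo (Y := Y)).sheafPushforwardContinuous AddCommGrpCat.{u} oTop (totTop Y) ⟶
    D.T ⋙ pushF Y ⋙ (Opens.map D.sec).sheafPushforwardContinuous AddCommGrpCat.{u} oTop
      (FibDesc.topAugTop Y (FibDesc.bot SimplexCategory)) where
  app M :=
    ⟨{ app := fun W => D.b0app M W.unop
       naturality := fun W W' i => pπ_ext fun n => by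
         show (M.obj.map (ιo.map i.unop).op ≫ D.b0app M W'.unop) ≫ _ =
           (D.b0app M W.unop ≫ ((pushF Y).obj (D.T.obj M)).obj.map ((Opens.map D.sec).map i.unop).op) ≫ _
         have h : (Opens.map (θ Y n)).obj ((Opens.map D.sec).obj W'.unop) ≤
             (Opens.map (spMap Y (𝟙 n))).obj ((Opens.map (θ Y n)).obj ((Opens.map D.sec).obj W.unop)) :=
           le_map_id _ ((Opens.map _).map ((Opens.map D.sec).map i.unop)).le
         rw [Category.assoc, b0app_spec, Category.assoc, map_pπ _ _ h, ← Category.assoc (D.b0app M W.unop), b0app_spec]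
         let g : D.cβ n W'.unop ⟶ D.cβ n W.unop := D.dh (𝟙 n) (by
           rw [D.σ.map_id]
           exact le_map_id _ ((Opens.map _).map i.unop).le)
         have e1 : D.B.map g ≫ D.kβ n W.unop = D.kβ n W'.unop ≫ ιo.map i.unop :=
           tot_hom_ext (by simp [g])
         have e2 : D.lβ n W'.unop ≫ D.Φ.map g = ph (𝟙 n) h ≫ D.lβ n W.unop :=
           tot_hom_ext (by simp [g, Φ])
         refine (Category.assoc _ _ _).symm.trans ?_
         refine (congrArg (· ≫ _) (M.obj.map_comp (ιo.map i.unop).op (D.kβ n W'.unop).op).symm).trans ?_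
         refine (congrArg (fun k => M.obj.map k ≫ _) (congrArg Quiver.Hom.op e1.symm)).trans ?_
         refine (D.eta_shift M g (D.kβ n W.unop) (D.lβ n W'.unop)).trans ?_
         rw [e2, op_comp, Functor.map_comp, φβ]
         simp only [Category.assoc] }⟩
  naturality M M' f := by
    apply Sheaf.hom_ext
    apply NatTrans.ext
    funext W
    refine pπ_ext fun n => ?_
    show (f.hom.app (op (pob (SimplexCategory.mk 0) W.unop)) ≫ D.b0app M' W.unop) ≫ _ =
      (D.b0app M W.unop ≫ ((pushF Y).map (D.T.map f)).hom.app (op ((Opens.map D.sec).obj W.unop))) ≫ _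
    rw [Category.assoc, b0app_spec, Category.assoc, pushMap_pπ (D.T.map f), ← Category.assoc (D.b0app M W.unop),
      b0app_spec]
    exact D.eta_nat f (D.kβ n W.unop) (D.lβ n W.unop)

/-- The adjoint of `β`. -/
noncomputable def b : D.R ⟶ D.T ⋙ pushF Y where
  app M := ((D.secAdj).homEquiv _ _).symm (D.b0.app M)
  naturality M M' f := by
    apply ((D.secAdj).homEquiv _ _).injective
    show (D.secAdj).homEquiv _ _ (((Opens.map D.sec).sheafPullback AddCommGrpCat.{u} oTop _).map _ ≫ _) =
      (D.secAdj).homEquiv _ _ (_ ≫ (pushF Y).map (D.T.map f))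
    refine ((D.secAdj).homEquiv_naturality_left _ _).trans
      ((congrArg (_ ≫ ·) (Equiv.apply_symm_apply _ _)).trans (Eq.trans ?_ (((D.secAdj).homEquiv_naturality_right _ _).trans
        (congrArg (· ≫ _) (Equiv.apply_symm_apply _ _))).symm))
    exact D.b0.naturality f

/-- `β : R ⋙ θ̄^* ⟶ T`. -/
noncomputable def β : D.R ⋙ pullF Y ⟶ D.T where
  app M := ((padj (Y := Y)).homEquiv _ _).symm (D.b.app M)
  naturality M M' f := by
    apply ((padj (Y := Y)).homEquiv _ _).injective
    show (padj (Y := Y)).homEquiv _ _ ((pullF Y).map (D.R.map f) ≫ _) =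
      (padj (Y := Y)).homEquiv _ _ (_ ≫ D.T.map f)
    rw [Adjunction.homEquiv_naturality_left, Equiv.apply_symm_apply, Adjunction.homEquiv_naturality_right,
      Equiv.apply_symm_apply]
    exact D.b.naturality f

theorem etaR_b (M : DS Y) (W : Opens (sp Y (SimplexCategory.mk 0))) :
    D.etaR M W ≫ (D.b.app M).hom.app (op ((Opens.map D.sec).obj W)) = D.b0app M W := by
  have h : (D.secAdj).homEquiv _ _ (D.b.app M) = D.b0.app M := Equiv.apply_symm_apply _ _
  rw [Adjunction.homEquiv_unit] at h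
  exact congrArg (fun k => k.hom.app (op W)) h

theorem sec_θ_le (U : Opens (base Y)) :
    U ≤ (Opens.map D.sec).obj ((Opens.map (θ Y (SimplexCategory.mk 0))).obj U) := by
  rw [map_map_obj D.sec_θ]
  exact le_rfl

/-- `w : 𝟭 ⟶ θ̄^* ⋙ R`. -/
noncomputable def w : 𝟭 (BS Y) ⟶ pullF Y ⋙ D.R where
  app K :=
    ⟨{ app := fun U => pu K (SimplexCategory.mk 0) U.unop ≫ D.etaR _ _ ≫
         (D.R.obj ((pullF Y).obj K)).obj.map (homOfLE (D.sec_θ_le U.unop)).op
       naturality := fun U U' i => by
         have h : (Opens.map (θ Y (SimplexCategory.mk 0))).obj U'.unop ≤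
             (Opens.map (spMap Y (𝟙 _))).obj ((Opens.map (θ Y (SimplexCategory.mk 0))).obj U.unop) :=
           le_map_id _ ((Opens.map _).map i.unop).le
         let j := (Opens.map (θ Y (SimplexCategory.mk 0))).map i.unop
         have hj : ((pullF Y).obj K).obj.map (ph (𝟙 _) h).op ≫ D.etaR ((pullF Y).obj K) ((Opens.map (θ Y (SimplexCategory.mk 0))).obj U'.unop) =
             D.etaR ((pullF Y).obj K) ((Opens.map (θ Y (SimplexCategory.mk 0))).obj U.unop) ≫
               (D.R.obj ((pullF Y).obj K)).obj.map ((Opens.map D.sec).map j).op := by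
           rw [show ph (𝟙 _) h = ιo.map j from tot_hom_ext (by simp)]
           exact (D.secAdj.unit.app _).hom.naturality j.op
         show K.obj.map i.unop.op ≫ _ ≫ _ ≫ _ = _
         refine (Category.assoc _ _ _).symm.trans ((congrArg (· ≫ _) (pu_map i.unop h)).trans ?_)
         refine (Category.assoc _ _ _).trans (Eq.trans ?_ (Category.assoc _ _ _).symm)
         refine congrArg (pu K (SimplexCategory.mk 0) U.unop ≫ ·) ?_
         refine (Category.assoc _ _ _).symm.trans ((congrArg (· ≫ _) hj).trans ?_)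
         refine (Category.assoc _ _ _).trans (Eq.trans ?_ (Category.assoc _ _ _).symm)
         refine congrArg (D.etaR _ _ ≫ ·) ?_
         exact ((D.R.obj ((pullF Y).obj K)).obj.map_comp _ _).symm.trans
           ((congrArg _ (Subsingleton.elim _ _)).trans ((D.R.obj ((pullF Y).obj K)).obj.map_comp _ _)) }⟩
  naturality K K' f := by
    apply Sheaf.hom_ext
    apply NatTrans.ext
    funext U
    show f.hom.app U ≫ pu K' _ _ ≫ _ = (pu K _ _ ≫ _ ≫ _) ≫ (D.R.map ((pullF Y).map f)).hom.app U
    refine (Category.assoc _ _ _).symm.trans ((congrArg (· ≫ _) (pu_naturality f _ U.unop).symm).trans ?_)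
    refine (Category.assoc _ _ _).trans (Eq.trans ?_ (Category.assoc _ _ _).symm)
    refine congrArg (pu K (SimplexCategory.mk 0) U.unop ≫ ·) ?_
    refine (Category.assoc _ _ _).symm.trans ((congrArg (· ≫ _) (D.etaR_naturality ((pullF Y).map f) _)).trans ?_)
    refine (Category.assoc _ _ _).trans (Eq.trans ?_ (Category.assoc _ _ _).symm)
    refine congrArg (D.etaR _ _ ≫ ·) ?_
    exact ((D.R.map ((pullF Y).map f)).hom.naturality (homOfLE (D.sec_θ_le U.unop)).op).symm

theorem w_app (K : BS Y) (U : Opens (base Y)) :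
    (D.w.app K).hom.app (op U) = pu K (SimplexCategory.mk 0) U ≫ D.etaR _ _ ≫
      (D.R.obj ((pullF Y).obj K)).obj.map (homOfLE (D.sec_θ_le U)).op := rfl

end Split

end Groth.Agent.FibDescLib
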